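import Cfsg.Agent.Lib.DCE.Eval
import Cfsg.Agent.Lib.DCE.Fixed

/-!
A centraliser from the fixed points of a closed enumeration: bound, exact order and orbit structure.
-/

set_option autoImplicit false

namespace CfsgLib.KnownB.LyCent

open CfsgLib.DCE MulAction

variable {S : Setup} {H Q : Type*} [Group H] [Group Q] (N : Model S H Q) {fs : List Fact}
  {ls : List Live} (hls : ∀ L ∈ ls, S.okLive fs L = true)
  (hfs : ∀ n < fs.length, N.FactOK (Setup.fget fs n))

/-- If the centraliser in `H` is transitive on the fixed cosets in each orbit and some elements of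
the centraliser in `Q` reach each of them, then the centraliser in `Q` is transitive on the fixed
points and its order is known. -/
theorem centralizer_exact [Finite Q] (hbij : Function.Bijective (pointOf N hls hfs))
    (hinj : Function.Injective N.f) (a : H) (b : Fin ls.length → ℕ)
    (rep : ∀ k : Fin ls.length, H ⧸ liveStab N fs ls[k])
    (hb : ∀ k, Nat.card {x : H ⧸ liveStab N fs ls[k] // a • x = x} = b k)
    (htr : ∀ k, ∀ x : H ⧸ liveStab N fs ls[k], a • x = x →
      ∃ g : H, g * a = a * g ∧ g • rep k = x)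
    (y : Fin ls.length → Q) (hy : ∀ k, y k * N.f a = N.f a * y k)
    (hyrep : ∀ k, y k • ((1 : Q) : Q ⧸ N.f.range) = pointOf N hls hfs ⟨k, rep k⟩) :
    Nat.card (Subgroup.centralizer ({N.f a} : Set Q)) =
        (∑ k, b k) * Nat.card (Subgroup.centralizer ({a} : Set H)) ∧
      (∀ q : Q ⧸ N.f.range, N.f a • q = q →
        ∃ g ∈ Subgroup.centralizer ({N.f a} : Set Q), g • ((1 : Q) : Q ⧸ N.f.range) = q) := by
  haveI : Finite H := Finite.of_injective _ hinj
  set C := Subgroup.centralizer ({N.f a} : Set Q) with hCdef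
  have hfix : ∀ (k : Fin ls.length) (x : H ⧸ liveStab N fs ls[k]),
      N.f a • pointOf N hls hfs ⟨k, x⟩ = pointOf N hls hfs ⟨k, x⟩ ↔ a • x = x := by
    intro k x
    rw [pointOf_smul]
    exact ⟨fun h => eq_of_heq (Sigma.mk.inj (hbij.1 h)).2, fun h => by rw [h]⟩
  have hcov : ∀ q : Q ⧸ N.f.range, N.f a • q = q →
      ∃ g ∈ C, g • ((1 : Q) : Q ⧸ N.f.range) = q := by
    intro q hq
    obtain ⟨⟨k, x⟩, rfl⟩ := hbij.2 q
    obtain ⟨g, hg, hgx⟩ := htr k x ((hfix k x).1 hq)
    refine ⟨N.f g * y k, mul_mem (Subgroup.mem_centralizer_singleton_iff.2 ?_)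
      (Subgroup.mem_centralizer_singleton_iff.2 (hy k)), ?_⟩
    · rw [← map_mul, ← map_mul, hg]
    · rw [mul_smul, hyrep, pointOf_smul, hgx]
  refine ⟨le_antisymm (DCE.card_centralizer_le N hls hfs hbij hinj a b (fun k => (hb k).le) le_rfl) ?_,
    hcov⟩
  let one : Q ⧸ N.f.range := ((1 : Q) : Q ⧸ N.f.range)
  have hone : N.f a • one = one := by
    simp only [one, MulAction.Quotient.smul_mk, smul_eq_mul, mul_one]
    exact QuotientGroup.eq.2 ⟨a⁻¹, by simp⟩
  rw [← Subgroup.card_mul_index (stabilizer C one), MulAction.index_stabilizer,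
    Nat.mul_comm (∑ k, b k)]
  refine Nat.mul_le_mul ?_ ?_
  · refine Nat.card_le_card_of_injective
      (fun g : Subgroup.centralizer ({a} : Set H) =>
        (⟨⟨N.f g, Subgroup.mem_centralizer_singleton_iff.2 (by
          rw [← map_mul, ← map_mul, Subgroup.mem_centralizer_singleton_iff.1 g.2])⟩, ?_⟩ :
          stabilizer C one)) fun g g' e => ?_
    · show N.f g • one = one
      simp only [one, MulAction.Quotient.smul_mk, smul_eq_mul, mul_one]
      exact QuotientGroup.eq.2 ⟨(g : H)⁻¹, by simp⟩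
    · exact Subtype.ext (hinj (congrArg (fun z : stabilizer C one => ((z : C) : Q)) e))
  · have horb : orbit C one = {q | N.f a • q = q} := by
      refine Set.Subset.antisymm ?_ fun q hq => ?_
      · rintro _ ⟨g, rfl⟩
        show N.f a • ((g : Q) • one) = (g : Q) • one
        rw [← mul_smul, ← Subgroup.mem_centralizer_singleton_iff.1 g.2, mul_smul, hone]
      · obtain ⟨g, hg, e⟩ := hcov q hq
        exact ⟨⟨g, hg⟩, e⟩
    rw [horb]
    have e1 : (∑ k, b k) =
        Nat.card (Σ k : Fin ls.length, {x : H ⧸ liveStab N fs ls[k] // a • x = x}) := by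
      haveI : ∀ k : Fin ls.length, Finite {x : H ⧸ liveStab N fs ls[k] // a • x = x} :=
        fun k => inferInstance
      rw [Nat.card_sigma]
      exact Finset.sum_congr rfl fun k _ => (hb k).symm
    rw [e1, ← Nat.card_coe_set_eq]
    refine Nat.card_le_card_of_injective
      (fun z => (⟨pointOf N hls hfs ⟨z.1, z.2.1⟩, (hfix _ _).2 z.2.2⟩ : {q | N.f a • q = q})) ?_
    rintro ⟨k, x, hx⟩ ⟨k', x', hx'⟩ h
    have h' := hbij.1 (congrArg Subtype.val h)
    simp only [Sigma.mk.inj_iff] at h'
    obtain ⟨rfl, h'⟩ := h'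
    cases eq_of_heq h'
    rfl

end CfsgLib.KnownB.LyCent
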