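import Cfsg.Agent.Lib.KnownB.LyCent.Count
import Cfsg.Agent.Lib.PresCert.WidePower

/-!
Checks of ranges give the checks of their members.
-/

set_option autoImplicit false

namespace CfsgLib.KnownB.LyCent

open CfsgLib.PresCert CfsgLib.DCE

/-- a check of ranges restricts to single members -/
def IsRange (f : Nat → Nat → Bool) : Prop :=
  ∀ lo n k, f lo n = true → lo ≤ k → k < lo + n → f k 1 = true

theorem chunk_at {f : Nat → Nat → Bool} (hf : IsRange f) {lo n k : Nat} (h : f lo n = true)
    (h1 : lo ≤ k) (h2 : k < lo + n) : f k 1 = true := hf lo n k h h1 h2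

theorem range_restrict {q : Nat → Bool} {lo n k : Nat}
    (h : (allBelow n fun j => q (Nat.add lo j)) = true) (h1 : lo ≤ k) (h2 : k < lo + n) :
    (allBelow 1 fun j => q (Nat.add k j)) = true := by
  have e := allBelow_spec h (k - lo) (by omega)
  rw [show Nat.add lo (k - lo) = k from show lo + (k - lo) = k by omega] at e
  refine Wide.PermData.allBelow_of_forall (by norm_num) fun i hi => ?_
  obtain rfl : i = 0 := by omega
  exact e

theorem okFrom_chunk {E : EnumData} {P : PermData} {base : List Nat} :
    IsRange (E.okFrom P base) := fun _ _ _ h h1 h2 =>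
  range_restrict (q := fun k => E.okNode P base k) h h1 h2

theorem okInvs_chunk {P : PermData} {base : List Nat} {E : EnumData} {l : List Nat} :
    IsRange (okInvs P base E l) := fun _ _ _ h h1 h2 =>
  range_restrict (q := okInv P base E l) h h1 h2

theorem okThrees_chunk {P : PermData} {base : List Nat} {E : EnumData} {l : List Nat}
    {wit : BTree} {reps : List (List Nat)} :
    IsRange (okThrees P base E l wit reps) := fun _ _ _ h h1 h2 =>
  range_restrict (q := okThree P base E l wit reps) h h1 h2

end CfsgLib.KnownB.LyCent
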