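import Cfsg.Agent.Lib.KnownB.LyCent.DataL
import Cfsg.Agent.Lib.KnownB.LyCent.Chunk
import Cfsg.Agent.Lib.Spor.Ly.GKData

/-!
Further checks.
-/

set_option autoImplicit false
set_option maxRecDepth 100000
set_option Elab.async false

namespace CfsgLib.KnownB.LyCent

open CfsgLib.PresCert CfsgLib.DCE

theorem eL_shape : eL.okShape CfsgLib.Spor.Ly.GK.P = true := by
  decide +kernel

theorem eL_comm : ((List.range eL.len).filter (commB CfsgLib.Spor.Ly.GK.P CfsgLib.Spor.Ly.GK.base eL [0, 2, 1, 3])).length ≤ 24 := by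
  decide +kernel

theorem eL_fix : (eL.gens.all fun w => Nat.beq (CfsgLib.Spor.Ly.GK.P.app w 0) 0 && Nat.beq (CfsgLib.Spor.Ly.GK.P.app w 1) 1) = true := by
  decide +kernel


end CfsgLib.KnownB.LyCent
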