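import Cfsg.Agent.Lib.KnownB.LyCent.DataL
import Cfsg.Agent.Lib.KnownB.LyCent.Chunk
import Cfsg.Agent.Lib.Spor.Ly.GKData

/-!
Enumeration checks.
-/

set_option autoImplicit false
set_option maxRecDepth 100000
set_option Elab.async false

namespace CfsgLib.KnownB.LyCent

open CfsgLib.PresCert CfsgLib.DCE

theorem eL_node_0 : eL.okFrom CfsgLib.Spor.Ly.GK.P CfsgLib.Spor.Ly.GK.base 0 480 = true := by
  decide +kernel

theorem eL_node : ∀ k < 480, eL.okFrom CfsgLib.Spor.Ly.GK.P CfsgLib.Spor.Ly.GK.base k 1 = true := by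
  intro k hk
  by_cases h0 : k < 480
  · exact chunk_at okFrom_chunk eL_node_0 (by omega) h0
  omega


end CfsgLib.KnownB.LyCent
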