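import Cfsg.Agent.Lib.KnownB.LyCent.DataPts
import Cfsg.Agent.Lib.Spor.Ly.GKData

/-!
The projection commutes with the letters.
-/

set_option autoImplicit false
set_option maxRecDepth 100000
set_option Elab.async false

namespace CfsgLib.KnownB.LyCent

open CfsgLib.PresCert CfsgLib.DCE

theorem proj_4 : (allBelow CfsgLib.Spor.Ly.GK.P.n fun i => Nat.beq (prT.half (CfsgLib.Spor.Ly.GK.P.img 4 i)) (CfsgLib.Spor.Ly.GK.P.img 4 (prT.half i))) = true := by
  decide +kernel

theorem proj_5 : (allBelow CfsgLib.Spor.Ly.GK.P.n fun i => Nat.beq (prT.half (CfsgLib.Spor.Ly.GK.P.img 5 i)) (CfsgLib.Spor.Ly.GK.P.img 5 (prT.half i))) = true := by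
  decide +kernel


end CfsgLib.KnownB.LyCent
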