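import Cfsg.Agent.Lib.DCE.Fixed
import Cfsg.Agent.Lib.DCE.TwoPoint
import Cfsg.Agent.Lib.DCE.Words

/-!
Counting involutions, elements of order three with fixed points and commuting elements in an
enumerated subgroup.
-/

set_option autoImplicit false

namespace CfsgLib.KnownB.LyCent

open CfsgLib.PresCert CfsgLib.DCE

/-- the square, or the cube, of element `k` moves a base point -/
noncomputable def moved2 (P : PermData) (base : List Nat) (E : EnumData) (k : Nat) : Bool :=
  (List.range base.length).any fun b =>
    !(Nat.beq (P.app (E.word k) (E.im k b)) (base.getD b (nat_lit 0)))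

/-- the cube of element `k` moves a base point -/
noncomputable def moved3 (P : PermData) (base : List Nat) (E : EnumData) (k : Nat) : Bool :=
  (List.range base.length).any fun b =>
    !(Nat.beq (P.app (E.word k) (P.app (E.word k) (E.im k b))) (base.getD b (nat_lit 0)))

/-- element `k`, if of square one, is listed -/
noncomputable def okInv (P : PermData) (base : List Nat) (E : EnumData) (l : List Nat) (k : Nat) :
    Bool :=
  Nat.beq k (nat_lit 0) || (l.any fun i => Nat.beq i k) || moved2 P base E k

/-- every element with square one among those numbered `lo` to `lo + n` is listed -/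
noncomputable def okInvs (P : PermData) (base : List Nat) (E : EnumData) (l : List Nat)
    (lo n : Nat) : Bool :=
  allBelow n fun j => okInv P base E l (Nat.add lo j)

/-- words agreeing on the base -/
noncomputable def sameB (P : PermData) (base : List Nat) (u w : List Nat) : Bool :=
  base.all fun b => Nat.beq (P.app u b) (P.app w b)

/-- element `k`, if of order three, is listed or conjugate to a representative -/
noncomputable def okThree (P : PermData) (base : List Nat) (E : EnumData) (l : List Nat)
    (wit : BTree) (reps : List (List Nat)) (k : Nat) : Bool :=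
  Nat.beq k (nat_lit 0) || (l.any fun i => Nat.beq i k) || moved3 P base E k ||
    (let e := wit.word k
     let r := Nat.land e (nat_lit 255)
     let g := Nat.shiftRight e (nat_lit 8)
     Nat.blt (nat_lit 0) r && Nat.ble r reps.length && Nat.blt g E.len &&
       sameB P base (E.word g ++ E.word k ++ ivw (E.word g)) (reps.getD (Nat.sub r (nat_lit 1)) []))

/-- every element of order three among those numbered `lo` to `lo + n` is listed or conjugate to
one of the representatives -/
noncomputable def okThrees (P : PermData) (base : List Nat) (E : EnumData) (l : List Nat)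
    (wit : BTree) (reps : List (List Nat)) (lo n : Nat) : Bool :=
  allBelow n fun j => okThree P base E l wit reps (Nat.add lo j)

/-- the representatives have no fixed points below `m` -/
noncomputable def okFree (P : PermData) (m : Nat) (reps : List (List Nat)) : Bool :=
  reps.all fun w => (w.all fun x => Nat.blt x P.g) &&
    allBelow m fun i => !(Nat.beq (P.app w i) i)

/-- element `k` commutes with `s` on the base -/
noncomputable def commB (P : PermData) (base : List Nat) (E : EnumData) (s : List Nat) (k : Nat) :
    Bool :=
  (List.range base.length).all fun b =>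
    Nat.beq (P.app s (E.im k b)) (P.app (E.word k) (P.app s (base.getD b (nat_lit 0))))

variable {P : PermData} {H : Type*} [Group H] (M : Perms P H) {base : List Nat} {E : EnumData}

theorem word_lt (hS : E.okShape P = true) (k : Nat) : ∀ x ∈ E.word k, x < P.g := by
  simp only [EnumData.okShape, Bool.and_eq_true, List.all_eq_true, Nat.blt_eq] at hS
  exact wordAt_lt hS.2 _ _ _

theorem filter_contains_length (n : Nat) (l : List Nat) :
    ((List.range n).filter fun k => l.any fun i => Nat.beq i k).length ≤ l.length := by
  rw [← List.toFinset_card_of_nodup (List.nodup_range.filter _)]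
  refine le_trans (Finset.card_le_card fun k hk => ?_) (List.toFinset_card_le l)
  simp only [List.mem_toFinset, List.mem_filter, List.any_eq_true, Nat.beq_eq] at hk ⊢
  obtain ⟨-, i, hi, rfl⟩ := hk
  exact hi

include M in
/-- the involutions of an enumerated subgroup -/
theorem card_inv_le [Finite H] (hbase : ∀ b ∈ base, b < P.n)
    (inj : ∀ h : H, (∀ i : Fin P.n, (i : Nat) ∈ base → M.act h i = i) → h = 1)
    (hS : E.okShape P = true) (hC : ∀ k < E.len, E.okFrom P base k 1 = true) {l : List Nat}
    (hl : ∀ k < E.len, okInvs P base E l k 1 = true) (U : Subgroup H)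
    (hU : U ≤ Subgroup.closure {h | ∃ w ∈ E.gens, M.val w = h}) :
    Nat.card {s : U // (s : H) * s = 1 ∧ (s : H) ≠ 1} ≤ l.length := by
  refine card_le_of_enum M hbase inj hS hC U hU (fun s => s * s = 1 ∧ s ≠ 1)
    (fun k => l.any fun i => Nat.beq i k) (fun k hk hp => ?_) (filter_contains_length _ _)
  have h := allBelow_spec (hl k hk) 0 Nat.one_pos
  simp only [show Nat.add k 0 = k from rfl, okInv, Bool.or_eq_true, Nat.beq_eq] at h
  rcases h with (h | h) | h
  · exact absurd (by simp [h, EnumData.word, wordAt_zero, Perms.val, wv]) hp.2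
  · exact h
  · simp only [moved2, List.any_eq_true, List.mem_range, Bool.not_eq_true'] at h
    obtain ⟨b, hb, hne⟩ := h
    have hbn : base.getD b 0 < P.n := by
      rw [List.getD_eq_getElem?_getD, List.getElem?_eq_getElem hb, Option.getD_some]
      exact hbase _ (List.getElem_mem hb)
    exact absurd hp.1 (sq_ne_one_of_moved M hS hC hk hb hbn fun e => by simp [e] at hne)

include M in
/-- the conjugates in `U` of an element of order three with a fixed point below `m` -/
theorem card_conj_le [Finite H] (hbase : ∀ b ∈ base, b < P.n)
    (inj : ∀ h : H, (∀ i : Fin P.n, (i : Nat) ∈ base → M.act h i = i) → h = 1)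
    (hS : E.okShape P = true) (hC : ∀ k < E.len, E.okFrom P base k 1 = true) {l : List Nat}
    {wit : BTree} {reps : List (List Nat)}
    (hl : ∀ k < E.len, okThrees P base E l wit reps k 1 = true) {m : Nat}
    (hfree : okFree P m reps = true) (a : H) (ha : a ^ 3 = 1) (ha1 : a ≠ 1) (p₀ : Fin P.n)
    (hp₀ : M.act a p₀ = p₀) (hlow : ∀ g : H, (M.act g p₀ : Nat) < m) (U : Subgroup H)
    (hU : U ≤ Subgroup.closure {h | ∃ w ∈ E.gens, M.val w = h}) :
    Nat.card {s : U // ∃ g : H, (s : H) = g⁻¹ * a * g} ≤ l.length := by
  refine card_le_of_enum M hbase inj hS hC U hU (fun s => ∃ g : H, s = g⁻¹ * a * g)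
    (fun k => l.any fun i => Nat.beq i k) (fun k hk hp => ?_) (filter_contains_length _ _)
  obtain ⟨g, hg⟩ := hp
  have h := allBelow_spec (hl k hk) 0 Nat.one_pos
  simp only [show Nat.add k 0 = k from rfl, okThree, Bool.or_eq_true, Nat.beq_eq] at h
  rcases h with ((h | h) | h) | h
  · refine absurd ?_ ha1
    have e : g⁻¹ * a * g = 1 := by
      rw [← hg]; simp [h, EnumData.word, wordAt_zero, Perms.val, wv]
    calc a = g * (g⁻¹ * a * g) * g⁻¹ := by group
      _ = 1 := by rw [e]; group
  · exact h
  · simp only [moved3, List.any_eq_true, List.mem_range, Bool.not_eq_true'] at h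
    obtain ⟨b, hb, hne⟩ := h
    have hbn : base.getD b 0 < P.n := by
      rw [List.getD_eq_getElem?_getD, List.getElem?_eq_getElem hb, Option.getD_some]
      exact hbase _ (List.getElem_mem hb)
    have hs3 : M.val (E.word k) * M.val (E.word k) * M.val (E.word k) = 1 := by
      rw [hg]
      calc g⁻¹ * a * g * (g⁻¹ * a * g) * (g⁻¹ * a * g) = g⁻¹ * a ^ 3 * g := by
            simp only [pow_succ, pow_zero, one_mul]; group
        _ = 1 := by rw [ha]; group
    have : P.app (E.word k) (P.app (E.word k) (E.im k b)) = base.getD b 0 := by
      rw [← act_word M hS hC hk hb hbn, M.app_eq _ (word_lt hS k), ← Perms.act_mul,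
        M.app_eq _ (word_lt hS k), ← Perms.act_mul, hs3, Perms.act_one]
    simp [this] at hne
  · exfalso
    simp only [Bool.and_eq_true, Nat.blt_eq, Nat.ble_eq] at h
    obtain ⟨⟨⟨hr0, hr⟩, hgi⟩, hs⟩ := h
    generalize (Nat.shiftRight (wit.word k) 8) = j at hgi hs
    generalize Nat.land (wit.word k) 255 = r at hr0 hr hs
    have hmem : reps.getD (Nat.sub r 1) [] ∈ reps := by
      have hlt : Nat.sub r 1 < reps.length := by show r - 1 < reps.length; omega
      rw [List.getD_eq_getElem?_getD, List.getElem?_eq_getElem hlt]
      exact List.getElem_mem hlt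
    generalize reps.getD (Nat.sub r 1) [] = rep at hs hmem
    simp only [okFree, List.all_eq_true, Bool.and_eq_true, Nat.blt_eq] at hfree
    obtain ⟨hrl, hfr⟩ := hfree rep hmem
    have hall : ∀ x ∈ E.word j ++ E.word k ++ ivw (E.word j), x < P.g := by
      simp only [List.mem_append]
      rintro x ((hx | hx) | hx)
      exacts [word_lt hS j x hx, word_lt hS k x hx, M.ivw_lt (word_lt hS j) x hx]
    simp only [sameB, List.all_eq_true, Nat.beq_eq] at hs
    have hval : M.val (E.word j ++ E.word k ++ ivw (E.word j)) = M.val rep := by
      refine mul_inv_eq_one.1 (inj _ fun i hi => ?_)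
      have e := hs i hi
      rw [M.app_eq _ hall, M.app_eq _ hrl] at e
      rw [Perms.act_mul, show M.act (M.val (E.word j ++ E.word k ++ ivw (E.word j))) i =
        M.act (M.val rep) i from Fin.ext e, ← Perms.act_mul, mul_inv_cancel, Perms.act_one]
    rw [Perms.val_append, Perms.val_append, Perms.val_ivw, hg] at hval
    have hq := hlow (g * (M.val (E.word j))⁻¹)
    have hfx : M.act (M.val rep) (M.act (g * (M.val (E.word j))⁻¹) p₀) =
        M.act (g * (M.val (E.word j))⁻¹) p₀ := by
      rw [← hval, ← Perms.act_mul]
      conv_rhs => rw [← hp₀]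
      rw [← Perms.act_mul]
      congr 1
      group
    have h2 := allBelow_spec hfr _ hq
    rw [M.app_eq _ hrl, hfx] at h2
    simp at h2

include M in
/-- the elements of an enumerated subgroup commuting with a word -/
theorem card_comm_le [Finite H] (hbase : ∀ b ∈ base, b < P.n)
    (inj : ∀ h : H, (∀ i : Fin P.n, (i : Nat) ∈ base → M.act h i = i) → h = 1)
    (hS : E.okShape P = true) (hC : ∀ k < E.len, E.okFrom P base k 1 = true) (s : List Nat)
    (hs : ∀ x ∈ s, x < P.g) {c : Nat}
    (hc : ((List.range E.len).filter (commB P base E s)).length ≤ c) (U : Subgroup H)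
    (hU : U ≤ Subgroup.closure {h | ∃ w ∈ E.gens, M.val w = h}) :
    Nat.card {u : U // (u : H) * M.val s = M.val s * u} ≤ c := by
  refine card_le_of_enum M hbase inj hS hC U hU (fun u => u * M.val s = M.val s * u)
    (commB P base E s) (fun k hk hp => ?_) hc
  simp only [commB, List.all_eq_true, List.mem_range, Nat.beq_eq]
  intro b hb
  have hbn : base.getD b 0 < P.n := by
    rw [List.getD_eq_getElem?_getD, List.getElem?_eq_getElem hb, Option.getD_some]
    exact hbase _ (List.getElem_mem hb)
  rw [← act_word M hS hC hk hb hbn, M.app_eq _ hs, ← Perms.act_mul, hp, Perms.act_mul,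
    ← M.app_eq _ (word_lt hS k), ← M.app_eq _ hs]

end CfsgLib.KnownB.LyCent
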