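import Cfsg.Agent.Lib.KnownB.LyCent.DataPts
import Cfsg.Agent.Lib.KnownB.LyCent.Count
import Cfsg.Agent.Lib.Spor.Ly.GKData

/-!
Fixed points and levels.
-/

set_option autoImplicit false
set_option maxRecDepth 100000
set_option Elab.async false

namespace CfsgLib.KnownB.LyCent

open CfsgLib.PresCert CfsgLib.DCE

theorem proj_lt : (allBelow CfsgLib.Spor.Ly.GK.P.n fun i => Nat.blt (prT.half i) 3906) = true := by
  decide +kernel

theorem fix_t : okFix CfsgLib.Spor.Ly.GK.P prT.half [0, 0, 0, 0] fixedT 6 topT = true := by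
  decide +kernel

theorem fix_x : okFix CfsgLib.Spor.Ly.GK.P prT.half [0, 2, 1, 3] fixedX 3 topX = true := by
  decide +kernel

theorem levels01_ok : okWLevels CfsgLib.Spor.Ly.GK.P [] [kL0, kL1] = true := by
  decide +kernel

theorem xLevels_ok : okWLevels CfsgLib.Spor.Ly.GK.P [] [xL0, xL1, xL2] = true := by
  decide +kernel

theorem xEls_ok : okEls CfsgLib.Spor.Ly.GK.P CfsgLib.Spor.Ly.GK.base xGens xEls = true := by
  decide +kernel

theorem xLevels_gens : ([xL0, xL1, xL2].all fun L => L.gens.all fun w => (xGens ++ xEls.map Prod.fst).contains w) = true := by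
  decide +kernel


end CfsgLib.KnownB.LyCent
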