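import Cfsg.Agent.Lib.KnownB.LyCent.RunBase
import Cfsg.Agent.Lib.Spor.LyOut.RunImg

/-!
Evaluations: elements of order 11.
-/

set_option autoImplicit false
set_option maxRecDepth 100000
set_option Elab.async false

namespace CfsgLib.KnownB.LyCent

open CfsgLib.PresCert CfsgLib.DCE
open CfsgLib.Spor.Ly

/-- letters -/
def g11 : Fin 5 → List Nat :=
  ![[0], [2], [4], [6], [8]]

/-- factors of order 11 -/
def v11 : Fin 5 → List Nat :=
  ![[4,7,8,7,2,1,8,6,7,5,8], [3,0,0,8,5,1,8,3,6,1,8], [5,6,8,2,6,0,8], [6,8,1,7,4,8,2,3,3,8], [4,4,2,8,5,7,8,6,8]]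

theorem run11v0 :
    GK.S.okValI GK.facts 108 [.lett 4, .lett 7, .stab 3 false, .stab 3 false, .stab 2 false, .stab 3 false, .edge 4 [5,5,5,5], .lett 7, .lett 2, .lett 1, .stab 6 false, .stab 6 false, .edge 41 [5,6,7,5,6], .lett 6, .lett 7, .lett 5, .edge 71 [1,6,5,7,6,1,5], .coin 72, .lett 4, .lett 7, .stab 6 false, .stab 6 false, .stab 7 false, .stab 6 false, .stab 7 false, .stab 8 false, .stab 6 false, .stab 6 false, .stab 5 false, .stab 7 false, .edge 41 [0,2,6,4,7], .lett 7, .lett 2, .lett 1, .stab 44 false, .stab 44 false, .stab 44 false, .stab 50 false, .stab 50 false, .stab 43 false, .stab 43 false, .edge 53 [5,5,5,3,4,5,6,7], .lett 6, .lett 7, .lett 5, .stab 16 false, .stab 17 false, .stab 15 false, .stab 17 false, .stab 17 false, .stab 15 false, .edge 98 [0,2,6,5,7,3,3], .coin 99, .lett 4, .lett 7, .stab 44 false, .stab 50 false, .stab 44 false, .stab 50 false, .stab 43 false, .stab 42 false, .edge 94 [6,7,0,6,2,4], .coin 95, .lett 7, .lett 2, .lett 1, .stab 44 false, .stab 44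 false, .stab 44 false, .stab 50 false, .stab 44 false, .edge 68 [4,5,7,5,0,6,7], .lett 6, .lett 7, .lett 5, .stab 50 false, .stab 44 false, .stab 44 false, .stab 44 false, .stab 43 false, .stab 43 false, .stab 42 false, .edge 68 [7,2,6,0,5,7,0,6], .lett 4, .lett 7, .stab 42 false, .stab 44 false, .stab 50 false, .stab 50 false, .stab 44 false, .stab 44 false, .stab 50 false, .edge 102 [0,5,5,5,7,6,2,5,7,6], .coin 103, .lett 7, .lett 2, .lett 1, .stab 17 false, .stab 16 false, .stab 14 false, .stab 17 false, .stab 16 false, .stab 17 false, .stab 15 false, .edge 98 [0,1,3,3,5,2,1], .coin 99, .lett 6, .lett 7, .lett 5, .stab 43 false, .stab 43 false, .stab 43 false, .edge 53 [1,2,2,2,2], .lett 4, .lett 7, .stab 17 false, .stab 17 false, .stab 17 false, .stab 17 false, .stab 14 false, .stab 17 false, .stab 14 false, .edge 32 [7,0,7,0,7,5,6,7], .lett 7, .lett 2, .lett 1, .stab 29 false, .stab 25 false, .stab 25 false, .stab 29 false, .edge 89 [2,6,2,7,5,7,1,7], .coin 90, .lett 6, .lett 7, .lett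 5, .stab 44 false, .stab 43 false, .stab 50 false, .stab 42 false, .edge 60 [5,6,0,7,0,2,1], .lett 4, .lett 7, .stab 26 false, .stab 26 false, .stab 25 false, .stab 29 false, .edge 34 [3,0,5,7,0,5,0], .lett 7, .lett 2, .lett 1, .stab 25 false, .stab 24 false, .stab 26 false, .stab 24 false, .stab 29 false, .stab 24 false, .edge 100 [0,5,5,3,4,7,6,5], .coin 101, .lett 6, .lett 7, .lett 5, .stab 43 false, .edge 58 [1,7,6,5,2,7,3,7], .lett 4, .lett 7, .stab 24 false, .stab 24 false, .stab 25 false, .stab 29 false, .stab 25 false, .stab 24 false, .edge 75 [1,7,3,5,7,0,7,6,5,7], .coin 76, .lett 7, .lett 2, .lett 1, .stab 16 false, .edge 22 [5,7,3,6,3,6,7,5], .lett 6, .lett 7, .lett 5, .stab 17 false, .stab 17 false, .stab 17 false, .edge 22 [4,7,3,6,0], .lett 4, .lett 7, .stab 17 false, .stab 17 false, .stab 17 false, .stab 16 false, .stab 17 false, .stab 14 false, .stab 17 false, .stab 15 false, .edge 46 [0,7,0,2,5,7,0], .lett 7, .lett 2, .lett 1, .stab 44 false, .stab 50 false, .stab 43 false,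 .stab 44 false, .stab 42 false, .stab 44 false, .stab 43 false, .edge 61 [5,4,6,5,7,6,2], .lett 6, .lett 7, .lett 5, .stab 50 false, .stab 50 false, .stab 44 false, .stab 44 false, .stab 50 false, .stab 43 false, .edge 61 [2,2,6,1,1], .lett 4, .lett 7, .stab 43 false, .stab 50 false, .stab 42 false, .stab 44 false, .stab 50 false, .stab 42 false, .edge 63 [1,5,2,2,6,2,5,7], .lett 7, .lett 2, .lett 1, .stab 50 false, .stab 44 false, .stab 42 false, .stab 44 false, .stab 44 false, .stab 42 false, .edge 53 [1,6,7,2,5,5,5,5,7], .lett 6, .lett 7, .lett 5, .stab 16 false, .stab 17 false, .stab 15 false, .stab 17 false, .stab 17 false, .stab 15 false, .edge 98 [5,6,5,0,0,3,6], .coin 99, .lett 4, .lett 7, .stab 50 false, .stab 44 false, .stab 44 false, .stab 42 false, .stab 44 false, .edge 71 [0,3,3,0,7,2], .coin 72, .lett 7, .lett 2, .lett 1, .stab 6 false, .stab 6 false, .stab 6 false, .stab 7 false, .stab 8 false, .stab 7 false, .stab 6 false, .stab 7 false, .stab 7 false, .edge 13 [1,0,6,5,7,2,6,7,6],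 .lett 6, .lett 7, .lett 5, .edge 19 [3,6,7,2,1,2], .coin 20, .lett 4, .lett 7, .edge 11 [0,5,5,6,2,5,7,2,6,7], .coin 12, .lett 7, .lett 2, .lett 1, .stab 3 false, .stab 1 false, .stab 0 false, .stab 2 false, .stab 1 false, .stab 0 false, .stab 2 false, .stab 1 false, .stab 2 false, .stab 3 false, .edge 4 [0,6,5,4,7,2,5], .lett 6, .lett 7, .lett 5, .edge 11 [5,6,2,3,5,0,7], .coin 12]
      (pw 11 (v11 0)) [] = true := by
  decide +kernel

theorem run11u0 :
    GK.S.okValI GK.facts 108 [.lett 0, .edge 4 [5], .lett 4, .lett 6, .lett 7, .edge 11 [5,5,5,5,5,0], .coin 12, .lett 0, .lett 3, .lett 6, .stab 0 false, .stab 0 false, .stab 3 false, .stab 1 false, .stab 2 false, .stab 3 false, .stab 2 false, .stab 0 false, .stab 1 false, .stab 2 false, .stab 3 false, .edge 4 [0,7,3,5,5,6,5,2,7], .lett 6, .lett 5, .lett 0, .stab 7 false, .stab 7 false, .stab 6 false, .stab 7 false, .stab 6 false, .stab 6 false, .stab 7 false, .stab 6 false, .stab 7 false, .edge 13 [5,6,5,0,7,5,6,5], .lett 4, .lett 6, .lett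 7, .edge 19 [0,5,5,7,6,1,6,2,6,7], .coin 20, .lett 0, .lett 3, .lett 6, .stab 7 false, .stab 7 false, .stab 6 false, .stab 7 false, .stab 6 false, .stab 8 false, .stab 7 false, .stab 8 false, .stab 7 false, .stab 6 false, .edge 41 [6,3,6,2,5,5,5,5], .lett 6, .lett 5, .lett 0, .stab 50 false, .stab 44 false, .stab 44 false, .stab 42 false, .edge 102 [0,1,1,7,5,6,7], .coin 103, .lett 4, .lett 6, .lett 7, .stab 16 false, .stab 16 false, .stab 17 false, .stab 16 false, .stab 17 false, .stab 16 false, .edge 46 [5,5,5,6,2,5,7,6,2], .lett 0, .lett 3, .lett 6, .stab 43 false, .stab 44 false, .stab 50 false, .stab 44 false, .stab 43 false, .stab 50 false, .stab 42 false, .edge 53 [1,5,7,2,6,2], .lett 6, .lett 5, .lett 0, .stab 15 false, .stab 17 false, .stab 15 false, .stab 14 false, .stab 17 false, .edge 46 [5,5,6,3,7,1,6,7,0], .lett 4, .lett 6, .lett 7, .stab 43 false, .stab 44 false, .stab 43 false, .stab 43 false, .edge 102 [7,5,3,2,7,2], .coin 103, .lett 0, .lett 3, .lett 6, .stab 15 false, .stab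 17 false, .stab 17 false, .stab 17 false, .stab 17 false, .edge 47 [7,2,7,6,3,5], .lett 6, .lett 5, .lett 0, .stab 44 false, .stab 43 false, .stab 42 false, .edge 104 [0,6,5,2,7,5,0,3], .coin 105, .lett 4, .lett 6, .lett 7, .stab 43 false, .stab 44 false, .stab 50 false, .stab 44 false, .stab 43 false, .stab 50 false, .edge 45 [4,5,7,6,1,7,2,6], .lett 0, .lett 3, .lett 6, .stab 43 false, .stab 43 false, .stab 42 false, .stab 44 false, .stab 43 false, .edge 57 [0,3,5,5,5,7,6,5,7], .lett 6, .lett 5, .lett 0, .stab 43 false, .stab 44 false, .stab 50 false, .stab 42 false, .stab 44 false, .stab 44 false, .stab 42 false, .edge 106 [5,3,4,7,0,5], .coin 107, .lett 4, .lett 6, .lett 7, .stab 25 false, .stab 24 false, .stab 29 false, .stab 29 false, .stab 25 false, .stab 25 false, .stab 24 false, .edge 54 [7,3,5,5,6,7,5,6,2], .lett 0, .lett 3, .lett 6, .stab 43 false, .stab 50 false, .stab 50 false, .stab 44 false, .stab 44 false, .stab 50 false, .edge 104 [3,6,3,6,3,6], .coin 105, .lett 6, .lett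 5, .lett 0, .stab 50 false, .stab 50 false, .stab 43 false, .stab 42 false, .edge 58 [0,5,6,4,7,3,7,5,6], .lett 4, .lett 6, .lett 7, .stab 26 false, .stab 25 false, .stab 29 false, .stab 29 false, .stab 26 false, .stab 29 false, .stab 25 false, .edge 100 [5,7,6,2,5,7,1,6], .coin 101, .lett 0, .lett 3, .lett 6, .stab 43 false, .stab 50 false, .stab 42 false, .stab 44 false, .stab 44 false, .stab 50 false, .edge 52 [1,5,7,2,5,2,6,5,7,5], .lett 6, .lett 5, .lett 0, .stab 50 false, .stab 50 false, .stab 44 false, .stab 44 false, .stab 44 false, .edge 66 [0,5,7,5,3,5,6], .lett 4, .lett 6, .lett 7, .stab 50 false, .stab 44 false, .stab 43 false, .stab 42 false, .edge 66 [6,3,6,2,7,0,5,6], .lett 0, .lett 3, .lett 6, .stab 44 false, .stab 44 false, .stab 50 false, .stab 50 false, .stab 44 false, .edge 102 [5,7,6,1,0,0], .coin 103, .lett 6, .lett 5, .lett 0, .stab 17 false, .stab 16 false, .stab 15 false, .stab 16 false, .edge 98 [5,3,4,7,5,0,6,5], .coin 99, .lett 4, .lett 6, .lett 7, .stab 43 false,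 .stab 43 false, .stab 43 false, .edge 53 [2,0,5,2,7,5,6], .lett 0, .lett 3, .lett 6, .stab 16 false, .stab 17 false, .stab 16 false, .stab 15 false, .stab 17 false, .stab 15 false, .stab 17 false, .edge 46 [1,5,6,4,7,5,6,0,5], .lett 6, .lett 5, .lett 0, .stab 50 false, .stab 42 false, .edge 67 [2,2,3,6,1,4], .lett 4, .lett 6, .lett 7, .stab 43 false, .stab 50 false, .stab 44 false, .stab 44 false, .stab 50 false, .edge 67 [0,1,0,2,5,3,3], .lett 0, .lett 3, .lett 6, .stab 44 false, .stab 50 false, .stab 44 false, .edge 71 [2,5,2,0,6], .coin 72, .lett 6, .lett 5, .lett 0, .stab 8 false, .stab 8 false, .stab 7 false, .stab 8 false, .stab 6 false, .stab 6 false, .stab 5 false, .stab 7 false, .stab 6 false, .edge 41 [6,2,5,6,7,2], .lett 4, .lett 6, .lett 7, .edge 71 [6,5,7,5], .coin 72, .lett 0, .lett 3, .lett 6, .edge 11 [2,4,6,1,7], .coin 12, .lett 6, .lett 5]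
      (pw 11 (g11 0 ++ GK.S.invAll (v11 0))) [] = true := by
  decide +kernel

theorem run11v1 :
    GK.S.okValI GK.facts 108 [.lett 3, .lett 0, .lett 0, .stab 1 false, .edge 4 [5,5], .lett 5, .lett 1, .edge 11 [0,0,0,5], .coin 12, .lett 3, .lett 6, .lett 1, .stab 3 false, .stab 2 false, .stab 0 false, .stab 3 false, .stab 2 false, .stab 0 false, .stab 2 false, .stab 2 false, .stab 3 false, .stab 1 false, .edge 4 [2,7,1,5,3], .lett 3, .lett 0, .lett 0, .stab 6 false, .edge 10 [1,7,6,3,2,6], .lett 5, .lett 1, .edge 10 [6,0,3,5,3,7,5], .lett 3, .lett 6, .lett 1, .stab 6 false, .stab 8 false, .stab 7 false, .stab 6 false, .stab 7 false, .stab 8 false, .stab 7 false, .stab 6 false, .stab 6 false, .stab 7 false, .stab 6 false, .edge 41 [7,5,6,5], .lett 3, .lett 0, .lett 0, .stab 43 false, .edge 48 [5,7,6,5,7], .lett 5, .lett 1, .edge 48 [7,0,5,6,7,5,6], .lett 3, .lett 6, .lett 1, .stab 43 false, .stab 42 false, .edge 106 [5,5,7], .coin 107, .lett 3, .lett 0, .lett 0, .stab 25 false, .stab 29 false,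 .stab 25 false, .stab 26 false, .edge 54 [5,5,5,6,3,5,5,7], .lett 5, .lett 1, .stab 44 false, .stab 43 false, .stab 44 false, .stab 50 false, .stab 43 false, .stab 42 false, .edge 106 [5,5,6,3,5,7,0,7], .coin 107, .lett 3, .lett 6, .lett 1, .stab 25 false, .stab 26 false, .stab 29 false, .stab 25 false, .stab 24 false, .stab 24 false, .stab 24 false, .edge 33 [0,0,6,7,6,3,5,6], .lett 3, .lett 0, .lett 0, .stab 26 false, .stab 26 false, .stab 26 false, .stab 25 false, .edge 75 [0,7,1,6,7,0,3], .coin 76, .lett 5, .lett 1, .stab 15 false, .stab 16 false, .stab 17 false, .stab 17 false, .stab 15 false, .stab 14 false, .edge 32 [1,5,5,4,5,5,6,2,5], .lett 3, .lett 6, .lett 1, .stab 24 false, .stab 25 false, .stab 29 false, .stab 25 false, .stab 26 false, .stab 25 false, .stab 24 false, .edge 54 [1,6,3,7,5,6,0,5,7], .lett 3, .lett 0, .lett 0, .stab 43 false, .stab 44 false, .stab 43 false, .stab 43 false, .edge 102 [5,3,7,0,5,6,5,7], .coin 103, .lett 5, .lett 1, .stab 16 false, .stab 16 false, .stab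 17 false, .stab 16 false, .stab 17 false, .stab 16 false, .edge 46 [1,4,6,3,7,5,7,1], .lett 3, .lett 6, .lett 1, .stab 50 false, .stab 44 false, .stab 44 false, .stab 43 false, .stab 43 false, .stab 42 false, .edge 61 [5,3,7,6,3,5,5,3], .lett 3, .lett 0, .lett 0, .stab 43 false, .stab 44 false, .stab 42 false, .stab 44 false, .stab 50 false, .stab 43 false, .edge 61 [2,7,3,6,7,6,5], .lett 5, .lett 1, .stab 50 false, .stab 50 false, .stab 44 false, .stab 44 false, .stab 50 false, .stab 43 false, .edge 61 [0,4,6,5,2,2,7,6], .lett 3, .lett 6, .lett 1, .stab 44 false, .stab 43 false, .stab 44 false, .stab 43 false, .stab 43 false, .edge 81 [0,5,5,2,5,4,6,5], .coin 82, .lett 3, .lett 0, .lett 0, .stab 29 false, .stab 24 false, .stab 26 false, .stab 24 false, .stab 24 false, .stab 24 false, .edge 65 [1,2,6,3,7,5,6], .lett 5, .lett 1, .stab 43 false, .stab 44 false, .stab 44 false, .stab 50 false, .stab 50 false, .edge 81 [0,1,0,2,2,2,7], .coin 82, .lett 3, .lett 6, .lett 1, .stab 29 false, .stab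 29 false, .stab 25 false, .stab 24 false, .edge 33 [5,6,0,5,5,7,5,0,6], .lett 3, .lett 0, .lett 0, .stab 24 false, .stab 24 false, .stab 29 false, .stab 26 false, .stab 26 false, .stab 24 false, .edge 33 [2,4,6,0,7,6], .lett 5, .lett 1, .stab 26 false, .stab 26 false, .stab 26 false, .stab 25 false, .edge 33 [0,5,5,5,5,5,0,5], .lett 3, .lett 6, .lett 1, .stab 26 false, .stab 25 false, .stab 26 false, .stab 29 false, .stab 26 false, .stab 26 false, .edge 65 [3,2,7,5,6,1,7], .lett 3, .lett 0, .lett 0, .stab 43 false, .stab 44 false, .stab 44 false, .stab 50 false, .stab 50 false, .edge 63 [5,6,7,6,5,3,5,6], .lett 5, .lett 1, .stab 44 false, .stab 50 false, .stab 50 false, .stab 44 false, .stab 43 false, .stab 50 false, .edge 63 [0,2,0,7,3,5], .lett 3, .lett 6, .lett 1, .stab 50 false, .stab 44 false, .stab 42 false, .stab 44 false, .edge 71 [5,5,7,0,7,6], .coin 72, .lett 3, .lett 0, .lett 0, .stab 6 false, .stab 7 false, .stab 6 false, .stab 6 false, .stab 8 false, .stab 7 false, .edge 41 [0,0,7,5,6,7,2],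 .lett 5, .lett 1, .edge 71 [5,5,5,5,6,7,6], .coin 72, .lett 3, .lett 6, .lett 1, .edge 11 [3,7,0,2,0,5,7], .coin 12]
      (pw 11 (v11 1)) [] = true := by
  decide +kernel

theorem run11u1 :
    GK.S.okValI GK.facts 108 [.lett 2, .stab 0 false, .stab 1 false, .stab 1 false, .stab 1 false, .edge 4 [5,5,7,6,5], .lett 0, .lett 7, .lett 2, .edge 41 [5,5,5,6,5,7], .lett 0, .lett 4, .edge 71 [6,7,5,0], .coin 72, .lett 1, .lett 1, .lett 2, .lett 2, .stab 6 false, .stab 7 false, .stab 8 false, .stab 5 false, .stab 7 false, .stab 6 false, .stab 6 false, .edge 41 [7,3,5,0,5,6,7,5], .lett 0, .lett 7, .lett 2, .stab 50 false, .stab 44 false, .stab 43 false, .edge 63 [3,7,1,7,3,7,5,6], .lett 0, .lett 4, .stab 44 false, .stab 50 false, .stab 50 false, .stab 44 false, .stab 43 false, .stab 50 false, .edge 63 [5,5,7,1,5,6,3,7], .lett 1, .lett 1, .lett 2, .lett 2, .stab 44 false, .stab 50 false, .stab 44 false, .stab 50 false, .stab 43 false, .stab 42 false, .edge 81 [5,5,5,6,2,5,7,1,6], .coin 82, .lett 0,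 .lett 7, .lett 2, .stab 25 false, .stab 26 false, .stab 25 false, .stab 24 false, .stab 25 false, .edge 33 [5,3,5,3], .lett 0, .lett 4, .stab 26 false, .stab 26 false, .stab 26 false, .stab 25 false, .edge 33 [6,4,7,6,2], .lett 1, .lett 1, .lett 2, .lett 2, .stab 24 false, .stab 24 false, .stab 29 false, .stab 26 false, .stab 26 false, .stab 24 false, .edge 33 [2,6,5,2,6,0], .lett 0, .lett 7, .lett 2, .stab 29 false, .stab 25 false, .stab 29 false, .stab 29 false, .stab 25 false, .edge 65 [0,3,4,7,1,1], .lett 0, .lett 4, .stab 43 false, .stab 44 false, .stab 44 false, .stab 50 false, .stab 50 false, .edge 81 [6,5,7,1,5,5,6,2,7,5], .coin 82, .lett 1, .lett 1, .lett 2, .lett 2, .stab 29 false, .stab 24 false, .stab 26 false, .stab 24 false, .stab 24 false, .stab 24 false, .edge 65 [5,5,5,7,1,6,1,5,7], .lett 0, .lett 7, .lett 2, .stab 44 false, .stab 42 false, .stab 44 false, .stab 44 false, .stab 43 false, .edge 58 [6,7,1,3,5,3,6], .lett 0, .lett 4, .stab 26 false, .stab 25 false, .stab 29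 false, .stab 29 false, .stab 26 false, .stab 29 false, .stab 25 false, .edge 100 [1,6,7,6,1,6,0,5], .coin 101, .lett 1, .lett 1, .lett 2, .lett 2, .stab 43 false, .edge 61 [7,5,7,2,6,1,7,5,6], .lett 0, .lett 7, .lett 2, .stab 44 false, .stab 44 false, .stab 50 false, .stab 44 false, .edge 104 [0,5,5,6,2,7,6,1,7], .coin 105, .lett 0, .lett 4, .stab 43 false, .stab 44 false, .stab 50 false, .stab 44 false, .stab 43 false, .stab 50 false, .edge 45 [0,0,1,6,1,7,5,6], .lett 1, .lett 1, .lett 2, .lett 2, .stab 44 false, .stab 43 false, .stab 44 false, .stab 50 false, .stab 43 false, .edge 106 [5,5,5,6,5,7,2,6,2,5], .coin 107, .lett 0, .lett 7, .lett 2, .stab 29 false, .stab 29 false, .stab 25 false, .stab 29 false, .stab 29 false, .stab 24 false, .stab 24 false, .edge 75 [0,5,5,6,2,1,7,6,5], .coin 76, .lett 0, .lett 4, .stab 15 false, .stab 16 false, .stab 17 false, .stab 17 false, .stab 15 false, .stab 14 false, .edge 32 [0,5,5,5,7,1,7,5,6], .lett 1, .lett 1, .lett 2, .lett 2, .stab 24 false,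 .stab 24 false, .stab 29 false, .stab 26 false, .stab 26 false, .stab 24 false, .edge 33 [6,1,5,3,6,5,7], .lett 0, .lett 7, .lett 2, .stab 26 false, .stab 29 false, .stab 25 false, .stab 29 false, .stab 29 false, .edge 54 [2,1,5,5,5,7,6,5,7], .lett 0, .lett 4, .stab 44 false, .stab 43 false, .stab 44 false, .stab 50 false, .stab 43 false, .stab 42 false, .edge 106 [0,6,5,2,4,6,5], .coin 107, .lett 1, .lett 1, .lett 2, .lett 2, .stab 25 false, .stab 24 false, .stab 29 false, .stab 29 false, .stab 24 false, .stab 24 false, .edge 54 [5,5,5,6,0,6], .lett 0, .lett 7, .lett 2, .stab 44 false, .stab 43 false, .stab 44 false, .edge 48 [5,2,5,5,6,7,6,3,5,6], .lett 0, .lett 4, .edge 48 [5,5,5,6,7,6,5], .lett 1, .lett 1, .lett 2, .lett 2, .edge 71 [5,5,5,5,5,6,5], .coin 72, .lett 0, .lett 7, .lett 2, .edge 10 [5,5,5,5,6,3,7,0,6], .lett 0, .lett 4, .edge 10 [0,5,5,6,7,6,2,7], .lett 1, .lett 1, .lett 2, .lett 2, .edge 11 [5,7,2,3,2,1], .coin 12, .lett 0, .lett 7, .lett 2, .stab 2 false, .stab 2 false,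 .stab 3 false, .stab 0 false, .stab 2 false, .stab 0 false, .stab 1 false, .stab 2 false, .stab 3 false, .edge 4 [0,6,0,7,0,5,4], .lett 0, .lett 4, .edge 11 [0,5,6,4,5,7,2,2], .coin 12, .lett 1, .lett 1, .lett 2]
      (pw 11 (g11 1 ++ GK.S.invAll (v11 1))) [] = true := by
  decide +kernel

theorem run11v2 :
    GK.S.okValI GK.facts 108 [.lett 5, .lett 6, .stab 2 false, .stab 3 false, .edge 4 [5,5,5,5], .lett 2, .lett 6, .lett 0, .stab 6 false, .stab 6 false, .edge 41 [5,5,5,6,5,7,6], .lett 5, .lett 6, .stab 50 false, .stab 42 false, .edge 63 [6,7,5], .lett 2, .lett 6, .lett 0, .stab 42 false, .stab 44 false, .stab 44 false, .stab 50 false, .stab 43 false, .edge 63 [5,5,6,7,2,6,7,5], .lett 5, .lett 6, .stab 42 false, .stab 44 false, .stab 44 false, .stab 50 false, .stab 44 false, .stab 44 false, .stab 44 false, .edge 102 [1,0,7,2,5,6,5], .coin 103, .lett 2, .lett 6, .lett 0, .stab 17 false, .stab 17 false, .stab 17 false, .stab 16 false, .stab 15 false, .edge 79 [7,5,6,2,6,3,5,7,6], .coin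 80, .lett 5, .lett 6, .stab 26 false, .stab 26 false, .stab 25 false, .stab 24 false, .stab 29 false, .stab 26 false, .stab 24 false, .stab 24 false, .edge 100 [2,5,2,0,1,7,5,7], .coin 101, .lett 2, .lett 6, .lett 0, .stab 43 false, .stab 44 false, .stab 44 false, .stab 44 false, .stab 50 false, .stab 44 false, .edge 93 [0,5,0,6,4], .coin 95, .lett 5, .lett 6, .stab 43 false, .stab 43 false, .stab 44 false, .stab 50 false, .stab 42 false, .edge 53 [0,6,7,5,3,6,5,7,5,2], .lett 2, .lett 6, .lett 0, .stab 15 false, .stab 17 false, .stab 16 false, .stab 17 false, .stab 17 false, .stab 16 false, .stab 17 false, .stab 15 false, .stab 14 false, .edge 46 [5,7,1,1,2], .lett 5, .lett 6, .stab 50 false, .stab 43 false, .stab 44 false, .stab 43 false, .stab 43 false, .edge 55 [1,6,7,5,3,5,3,7], .lett 2, .lett 6, .lett 0, .stab 43 false, .stab 44 false, .stab 50 false, .stab 50 false, .stab 42 false, .edge 93 [0,7,1,3,5,7,1], .coin 95, .lett 5, .lett 6, .stab 43 false, .stab 43 false, .stab 44 false,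 .stab 50 false, .stab 43 false, .edge 55 [1,2,7,5,2,4,6], .lett 2, .lett 6, .lett 0, .stab 44 false, .stab 44 false, .stab 44 false, .stab 50 false, .stab 50 false, .stab 42 false, .edge 68 [1,6,5,4,7,2,5], .lett 5, .lett 6, .stab 50 false, .stab 42 false, .stab 44 false, .stab 42 false, .stab 44 false, .stab 44 false, .edge 94 [0,0,1,6,5,2,7], .coin 95, .lett 2, .lett 6, .lett 0, .stab 44 false, .stab 44 false, .stab 44 false, .stab 43 false, .stab 50 false, .edge 81 [5,5,6,0,7,0,5,5,7], .coin 82, .lett 5, .lett 6, .stab 25 false, .stab 25 false, .stab 24 false, .stab 29 false, .stab 25 false, .stab 24 false, .edge 65 [1,3,5,5,7,2,7,5], .lett 2, .lett 6, .lett 0, .stab 50 false, .stab 43 false, .stab 42 false, .stab 44 false, .stab 44 false, .stab 44 false, .stab 50 false, .edge 61 [6,5,0,7,6,2,1], .lett 5, .lett 6, .stab 42 false, .stab 44 false, .stab 42 false, .stab 44 false, .stab 43 false, .edge 102 [4,5,6,5,7,2,1], .coin 103, .lett 2, .lett 6, .lett 0, .stab 15 false, .stab 15 false,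 .stab 17 false, .edge 47 [1,5,7,2,5,6,5,7,5], .lett 5, .lett 6, .stab 44 false, .stab 43 false, .stab 44 false, .edge 71 [5,7,6,5,7], .coin 72, .lett 2, .lett 6, .lett 0, .edge 11 [6,7,3,6,7,3,5,6,7], .coin 12]
      (pw 11 (v11 2)) [] = true := by
  decide +kernel

theorem run11u2 :
    GK.S.okValI GK.facts 108 [.lett 4, .edge 4 [0], .lett 1, .lett 7, .lett 3, .stab 7 false, .edge 41 [5,5,5,5,6], .lett 7, .lett 4, .lett 4, .edge 73 [5,6,5,0,0], .coin 74, .lett 1, .lett 7, .lett 3, .stab 15 false, .stab 17 false, .stab 17 false, .stab 17 false, .stab 17 false, .stab 15 false, .stab 14 false, .stab 17 false, .edge 46 [5,3,7,0,6,7,5], .lett 7, .lett 4, .lett 4, .stab 50 false, .stab 50 false, .stab 43 false, .stab 44 false, .stab 50 false, .edge 61 [1,5,3,5,2,5,5,6,7], .lett 1, .lett 7, .lett 3, .stab 50 false, .stab 43 false, .stab 43 false, .edge 81 [2,0,1,6,5,0,6,7], .coin 82, .lett 7, .lett 4, .lett 4, .stab 25 false, .stab 29 false, .stab 26 false, .stab 29 false, .stab 26 false, .stab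 24 false, .edge 65 [1,5,6,7,5,3,0,7], .lett 1, .lett 7, .lett 3, .stab 43 false, .stab 42 false, .stab 44 false, .stab 50 false, .stab 43 false, .edge 57 [5,5,7,5,6,1,5,2,6], .lett 7, .lett 4, .lett 4, .stab 50 false, .stab 43 false, .stab 44 false, .stab 42 false, .stab 44 false, .edge 68 [1,6,0,0,2,2,7], .lett 1, .lett 7, .lett 3, .stab 44 false, .stab 43 false, .stab 50 false, .edge 55 [1,5,6,7,0,1,6,5], .lett 7, .lett 4, .lett 4, .stab 44 false, .stab 43 false, .stab 44 false, .stab 43 false, .edge 62 [1,6,0,5,7,4,5,3], .lett 1, .lett 7, .lett 3, .stab 50 false, .stab 42 false, .stab 44 false, .stab 43 false, .stab 43 false, .edge 55 [1,6,7,3,7,3], .lett 7, .lett 4, .lett 4, .stab 43 false, .stab 42 false, .stab 44 false, .stab 42 false, .stab 44 false, .stab 43 false, .edge 102 [5,5,6,7,3,7,0], .coin 103, .lett 1, .lett 7, .lett 3, .stab 16 false, .stab 17 false, .stab 15 false, .stab 15 false, .stab 16 false, .stab 17 false, .edge 98 [0,0,6,1,5,6,7,6,5], .coin 99, .lett 7, .lett 4,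 .lett 4, .stab 44 false, .stab 44 false, .stab 44 false, .stab 50 false, .stab 44 false, .edge 62 [6,1,6,3,6,7,5,6,5], .lett 1, .lett 7, .lett 3, .stab 50 false, .stab 43 false, .stab 44 false, .stab 50 false, .stab 43 false, .edge 58 [3,5,6,1,5,3,5,7,6], .lett 7, .lett 4, .lett 4, .stab 29 false, .stab 24 false, .stab 24 false, .stab 29 false, .stab 24 false, .edge 30 [0,2,7,1,5,3], .lett 1, .lett 7, .lett 3, .stab 15 false, .stab 16 false, .stab 17 false, .stab 15 false, .stab 17 false, .stab 16 false, .stab 17 false, .edge 46 [6,0,5,7,6,5,0], .lett 7, .lett 4, .lett 4, .stab 43 false, .stab 42 false, .stab 44 false, .stab 44 false, .stab 44 false, .stab 50 false, .stab 42 false, .edge 63 [3,5,6,5,7,2,6,0], .lett 1, .lett 7, .lett 3, .stab 42 false, .stab 44 false, .stab 44 false, .stab 43 false, .stab 50 false, .edge 63 [0,5,5,6,2,0,5,7], .lett 7, .lett 4, .lett 4, .stab 44 false, .stab 42 false, .stab 44 false, .edge 71 [6,7], .coin 72, .lett 1, .lett 7, .lett 3, .edge 11 [6,7,3,6,7,3,7,6],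 .coin 12, .lett 7, .lett 4]
      (pw 11 (g11 2 ++ GK.S.invAll (v11 2))) [] = true := by
  decide +kernel

theorem run11v3 :
    GK.S.okValI GK.facts 108 [.lett 6, .stab 3 false, .edge 4 [5,5,5,5], .lett 1, .lett 7, .lett 4, .edge 13 [5,0], .lett 2, .lett 3, .lett 3, .edge 47 [7,3,5,0,5,7,6], .lett 6, .stab 50 false, .stab 42 false, .stab 44 false, .stab 44 false, .stab 50 false, .edge 60 [1,5,7,5,3,4], .lett 1, .lett 7, .lett 4, .stab 26 false, .stab 24 false, .edge 39 [5,6,0,5,7,0,3], .coin 40, .lett 2, .lett 3, .lett 3, .stab 7 false, .stab 8 false, .stab 8 false, .stab 6 false, .stab 6 false, .stab 7 false, .stab 5 false, .edge 27 [1,5,2,7,5,6,5,2,6], .lett 6, .stab 29 false, .stab 25 false, .stab 29 false, .stab 25 false, .stab 24 false, .stab 25 false, .edge 100 [2,5,5,2,7,0,5,5], .coin 101, .lett 1, .lett 7, .lett 4, .stab 50 false, .stab 43 false, .stab 42 false, .stab 44 false, .stab 43 false, .stab 42 false, .edge 51 [5,7,6,1,7,5], .lett 2, .lett 3, .lett 3, .stab 24 false, .stab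 29 false, .stab 25 false, .stab 24 false, .stab 25 false, .edge 87 [0,7,5,0,1,6,1,1], .coin 88, .lett 6, .stab 50 false, .stab 44 false, .stab 44 false, .stab 44 false, .stab 42 false, .stab 44 false, .stab 42 false, .edge 102 [0,6,2,5,5,5,6], .coin 103, .lett 1, .lett 7, .lett 4, .stab 15 false, .stab 16 false, .stab 15 false, .stab 17 false, .stab 17 false, .edge 18 [7,2,7,3,0], .lett 2, .lett 3, .lett 3, .stab 16 false, .stab 17 false, .stab 15 false, .stab 15 false, .edge 18 [1,2,7,6,1,5,6], .lett 6, .stab 16 false, .stab 15 false, .stab 17 false, .stab 15 false, .stab 16 false, .stab 15 false, .edge 79 [0,0,4,5,7,5,0], .coin 80, .lett 1, .lett 7, .lett 4, .stab 29 false, .stab 24 false, .stab 25 false, .stab 24 false, .stab 29 false, .edge 59 [2,3,5,6,5,7,6], .lett 2, .lett 3, .lett 3, .stab 43 false, .stab 44 false, .stab 44 false, .stab 44 false, .stab 42 false, .edge 56 [2,7,1,1,1,0], .lett 6, .stab 50 false, .stab 43 false, .stab 43 false, .stab 42 false, .edge 58 [3,6,7,1,7,4],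 .lett 1, .lett 7, .lett 4, .stab 24 false, .stab 24 false, .stab 29 false, .stab 26 false, .stab 25 false, .edge 35 [3,5,2], .lett 2, .lett 3, .lett 3, .stab 25 false, .stab 26 false, .stab 25 false, .stab 29 false, .stab 24 false, .edge 87 [0,2,0,6,1], .coin 88, .lett 6, .stab 50 false, .stab 43 false, .stab 43 false, .edge 94 [0,5,6,1,7,6,5,2,7,6], .coin 95, .lett 1, .lett 7, .lett 4, .stab 50 false, .stab 44 false, .stab 42 false, .stab 44 false, .stab 44 false, .stab 50 false, .stab 44 false, .edge 52 [5,7,0,4,7,2], .lett 2, .lett 3, .lett 3, .stab 43 false, .stab 44 false, .stab 43 false, .stab 43 false, .stab 43 false, .stab 42 false, .edge 102 [4,7,5,3,7,2,6], .coin 103, .lett 6, .stab 16 false, .stab 17 false, .stab 17 false, .stab 15 false, .stab 14 false, .stab 17 false, .stab 17 false, .edge 79 [6,7,2,6,7,0,0], .coin 80, .lett 1, .lett 7, .lett 4, .stab 26 false, .stab 24 false, .stab 29 false, .edge 54 [1,0,7,5,2,5,7,5], .lett 2, .lett 3, .lett 3, .stab 43 false, .stab 50 false,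 .stab 50 false, .stab 44 false, .stab 44 false, .stab 50 false, .stab 43 false, .edge 104 [0,7,3,7,5,3,5,5,5], .coin 105, .lett 6, .stab 50 false, .stab 44 false, .stab 43 false, .stab 42 false, .edge 96 [0,5,3,6,7,6,2,6], .coin 97, .lett 1, .lett 7, .lett 4, .stab 26 false, .stab 29 false, .stab 29 false, .edge 39 [5,5,6,0,7,5,6,7,2], .coin 40, .lett 2, .lett 3, .lett 3, .stab 7 false, .stab 8 false, .stab 8 false, .stab 6 false, .stab 6 false, .stab 7 false, .stab 5 false, .edge 27 [7,2,4,6,5,7,6,2], .lett 6, .stab 29 false, .stab 24 false, .stab 25 false, .stab 24 false, .stab 24 false, .stab 29 false, .stab 24 false, .edge 89 [7,6,3,7,5,3,5,5,6], .coin 90, .lett 1, .lett 7, .lett 4, .stab 44 false, .stab 50 false, .stab 44 false, .stab 42 false, .stab 44 false, .edge 73 [7,6], .coin 74, .lett 2, .lett 3, .lett 3, .stab 14 false, .stab 17 false, .stab 17 false, .stab 17 false, .edge 47 [5,6,7,6,5], .lett 6, .stab 44 false, .stab 43 false, .stab 44 false, .edge 71 [6,7,6], .coin 72, .lett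 1, .lett 7, .lett 4, .stab 6 false, .stab 6 false, .edge 10 [2,5,5,6,5,7,2,6,7], .lett 2, .lett 3, .lett 3, .edge 11 [3,6,5,2,7,2,6,5], .coin 12]
      (pw 11 (v11 3)) [] = true := by
  decide +kernel

theorem run11u3 :
    GK.S.okValI GK.facts 108 [.lett 6, .stab 3 false, .edge 4 [5,5,5,5], .lett 2, .lett 2, .lett 3, .stab 6 false, .stab 6 false, .edge 10 [5,6,5,7,6,5], .lett 5, .lett 6, .lett 0, .stab 7 false, .stab 7 false, .stab 6 false, .stab 6 false, .stab 6 false, .stab 7 false, .stab 7 false, .stab 6 false, .stab 5 false, .stab 7 false, .edge 41 [5,7,6,5,7], .lett 7, .lett 6, .edge 71 [5,5,6,7,6], .coin 72, .lett 2, .lett 2, .lett 3, .stab 6 false, .stab 7 false, .stab 6 false, .stab 6 false, .stab 8 false, .stab 7 false, .edge 41 [5,5,6,7,5,6], .lett 5, .lett 6, .lett 0, .stab 42 false, .edge 63 [5,5,5,6,5,7,6], .lett 7, .lett 6, .stab 44 false, .stab 50 false, .stab 50 false, .stab 44 false, .stab 43 false, .stab 50 false, .edge 63 [0,5,5,5,2,0,5,7,6,5], .lett 2, .lett 2, .lett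 3, .stab 44 false, .stab 50 false, .stab 44 false, .stab 50 false, .stab 43 false, .stab 42 false, .edge 63 [5,5,5,5,3,2,7], .lett 5, .lett 6, .lett 0, .stab 44 false, .stab 44 false, .stab 42 false, .stab 44 false, .stab 43 false, .edge 63 [2,6,5,2,6,3,6], .lett 7, .lett 6, .stab 44 false, .stab 50 false, .stab 50 false, .stab 44 false, .stab 43 false, .stab 50 false, .edge 63 [0,6,7,5,7,2,2,3], .lett 2, .lett 2, .lett 3, .stab 44 false, .stab 50 false, .stab 44 false, .stab 50 false, .stab 43 false, .stab 42 false, .edge 63 [0,5,5,5,7,6,5], .lett 5, .lett 6, .lett 0, .stab 43 false, .stab 50 false, .stab 44 false, .stab 44 false, .stab 50 false, .edge 53 [1,6,3,7,0,5,6,7], .lett 7, .lett 6, .stab 16 false, .stab 17 false, .stab 15 false, .stab 17 false, .stab 17 false, .stab 15 false, .edge 98 [3,7,6,3,7,5,6,3,7], .coin 99, .lett 2, .lett 2, .lett 3, .stab 50 false, .stab 42 false, .stab 44 false, .stab 42 false, .edge 49 [2,6,7,5,0,7,0,7,5,6], .lett 5, .lett 6, .lett 0, .stab 24 false,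 .stab 29 false, .stab 24 false, .edge 65 [7,0,6,5,2,3,7], .lett 7, .lett 6, .stab 43 false, .stab 44 false, .stab 44 false, .stab 50 false, .stab 50 false, .edge 81 [5,5,7,1,2,5,6,5], .coin 82, .lett 2, .lett 2, .lett 3, .stab 25 false, .stab 24 false, .stab 29 false, .edge 65 [2,3,5,6,0,0,3], .lett 5, .lett 6, .lett 0, .stab 50 false, .stab 43 false, .stab 44 false, .stab 50 false, .stab 44 false, .stab 42 false, .edge 63 [2,2,4,5,6,7], .lett 7, .lett 6, .stab 44 false, .stab 50 false, .stab 50 false, .stab 44 false, .stab 43 false, .stab 50 false, .edge 63 [1,3,3,5,7,2,5], .lett 2, .lett 2, .lett 3, .stab 44 false, .stab 50 false, .stab 44 false, .stab 50 false, .stab 43 false, .stab 42 false, .edge 81 [3,5,7,3,5,6,1,5,7], .coin 82, .lett 5, .lett 6, .lett 0, .stab 25 false, .stab 29 false, .stab 25 false, .stab 26 false, .edge 30 [0,1,0,5,0,6,5,7,5], .lett 7, .lett 6, .stab 17 false, .stab 17 false, .stab 15 false, .edge 79 [5,5,4,5,6,0,7,5,6,5], .coin 80, .lett 2, .lett 2, .lett 3, .stab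 24 false, .stab 29 false, .stab 26 false, .stab 29 false, .stab 25 false, .edge 54 [0,5,4,5,5,6,7,3,6], .lett 5, .lett 6, .lett 0, .stab 44 false, .stab 42 false, .stab 44 false, .stab 44 false, .stab 50 false, .stab 42 false, .edge 93 [4,5,7,2,2], .coin 95, .lett 7, .lett 6, .stab 44 false, .stab 42 false, .stab 44 false, .stab 50 false, .stab 43 false, .stab 42 false, .edge 62 [5,3,0,7,0,6], .lett 2, .lett 2, .lett 3, .stab 44 false, .stab 44 false, .stab 43 false, .stab 43 false, .stab 43 false, .edge 94 [0,1,3,6,5,7,5,2], .coin 95, .lett 5, .lett 6, .lett 0, .stab 44 false, .edge 104 [3,7,2,5,2], .coin 105, .lett 7, .lett 6, .stab 43 false, .stab 44 false, .stab 50 false, .stab 44 false, .stab 43 false, .stab 50 false, .edge 45 [0,3,4,6,1,5,2,7], .lett 2, .lett 2, .lett 3, .stab 43 false, .stab 42 false, .stab 44 false, .stab 43 false, .stab 43 false, .edge 102 [7,2,6,2,4,5], .coin 103, .lett 5, .lett 6, .lett 0, .stab 16 false, .stab 17 false, .stab 15 false, .stab 15 false, .edge 47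 [0,1,1,1,6,3], .lett 7, .lett 6, .stab 44 false, .stab 43 false, .stab 44 false, .edge 73 [5,6,7,1,7,5], .coin 74, .lett 2, .lett 2, .lett 3, .stab 17 false, .stab 16 false, .stab 17 false, .stab 17 false, .edge 19 [6,0,0,7,5,6,7,2], .coin 20, .lett 5, .lett 6, .lett 0, .edge 11 [0,6,7,5,7,3,6,3], .coin 12, .lett 7]
      (pw 11 (g11 3 ++ GK.S.invAll (v11 3))) [] = true := by
  decide +kernel

theorem run11v4 :
    GK.S.okValI GK.facts 108 [.lett 4, .lett 4, .lett 2, .stab 0 false, .stab 1 false, .stab 1 false, .stab 1 false, .edge 4 [2,5,5,7,0,6,5], .lett 5, .lett 7, .stab 7 false, .stab 6 false, .stab 7 false, .stab 8 false, .stab 7 false, .stab 7 false, .stab 7 false, .stab 6 false, .stab 7 false, .edge 13 [5,5,5,5,6,7], .lett 6, .edge 23 [5,5,5,6,7,5], .lett 4, .lett 4, .lett 2, .stab 29 false, .stab 25 false, .stab 29 false, .edge 37 [3,5,6,7,1,7,5], .coin 38, .lett 5, .lett 7, .stab 17 false, .stab 17 false, .stab 16 false, .stab 17 false, .stab 17 false, .stab 15 false, .stab 15 false,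 .stab 16 false, .edge 46 [0,7,2,3,7], .lett 6, .stab 42 false, .stab 44 false, .stab 42 false, .stab 44 false, .stab 44 false, .stab 43 false, .stab 43 false, .edge 102 [0,7,6,2,4,5,2,7], .coin 103, .lett 4, .lett 4, .lett 2, .stab 17 false, .stab 16 false, .stab 14 false, .stab 17 false, .stab 16 false, .edge 46 [2,2,6,7,5,6,0], .lett 5, .lett 7, .stab 50 false, .stab 50 false, .stab 44 false, .stab 43 false, .stab 44 false, .stab 42 false, .edge 63 [5,3,5,6,3,7,5,6,7], .lett 6, .stab 44 false, .stab 44 false, .stab 50 false, .edge 62 [1,1,4,6,7,0,5,7], .lett 4, .lett 4, .lett 2, .stab 50 false, .stab 50 false, .stab 44 false, .stab 44 false, .stab 44 false, .stab 43 false, .edge 55 [0,5,6,5,7,0,5,2,6,5], .lett 5, .lett 7, .stab 43 false, .stab 44 false, .stab 50 false, .stab 50 false, .stab 44 false, .stab 42 false, .edge 55 [2,7,6,1,5,5,5,3,5], .lett 6, .stab 44 false, .stab 44 false, .stab 42 false, .stab 44 false, .stab 50 false, .edge 68 [0,5,5,2,5,6,7,6,1], .lett 4, .lett 4, .lett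 2, .stab 50 false, .stab 44 false, .stab 42 false, .stab 44 false, .stab 42 false, .edge 49 [1,5,5,0,1,5,5,7,6], .lett 5, .lett 7, .stab 24 false, .stab 24 false, .stab 29 false, .stab 26 false, .stab 24 false, .stab 25 false, .stab 24 false, .edge 59 [4,5,5,7,6,5,3,6,7,6], .lett 6, .stab 44 false, .stab 44 false, .stab 44 false, .stab 50 false, .stab 50 false, .stab 44 false, .stab 42 false, .edge 58 [0,1,5,6,7,5,3], .lett 4, .lett 4, .lett 2, .stab 24 false, .stab 24 false, .stab 25 false, .stab 29 false, .stab 26 false, .edge 34 [5,3,6,7,3,6,0,6], .lett 5, .lett 7, .stab 29 false, .stab 24 false, .stab 24 false, .stab 29 false, .edge 28 [1,6,5,7,6,2,5,3], .lett 6, .stab 17 false, .stab 15 false, .stab 17 false, .stab 16 false, .stab 17 false, .stab 17 false, .stab 15 false, .edge 85 [1,5,5,7,3,6,1,5,7,6], .coin 86, .lett 4, .lett 4, .lett 2, .stab 29 false, .stab 26 false, .stab 29 false, .stab 26 false, .edge 91 [5,5,5,6,3,7,5,2], .coin 92, .lett 5, .lett 7, .stab 42 false, .stab 44 false,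 .stab 44 false, .stab 43 false, .stab 43 false, .edge 104 [2,2,3,2,1,7], .coin 105, .lett 6, .stab 44 false, .stab 43 false, .stab 50 false, .stab 44 false, .edge 70 [0,5,0,7,6,3,5,5], .lett 4, .lett 4, .lett 2, .stab 44 false, .stab 44 false, .stab 42 false, .stab 44 false, .stab 43 false, .stab 50 false, .edge 70 [6,3,5,3,4,6], .lett 5, .lett 7, .stab 50 false, .stab 44 false, .stab 44 false, .stab 44 false, .stab 42 false, .stab 44 false, .edge 81 [0,6,7,5,6,2,1,5,5,7], .coin 82, .lett 6, .stab 26 false, .stab 29 false, .stab 25 false, .stab 24 false, .stab 26 false, .stab 29 false, .stab 29 false, .stab 25 false, .edge 100 [7,2,6,2,5,3,6,5], .coin 101, .lett 4, .lett 4, .lett 2, .stab 43 false, .stab 44 false, .stab 44 false, .stab 44 false, .stab 50 false, .stab 50 false, .stab 42 false, .edge 61 [7,3,5,3,7,0], .lett 5, .lett 7, .stab 44 false, .stab 44 false, .stab 42 false, .stab 44 false, .stab 42 false, .edge 63 [1,5,2,7,4,6], .lett 6, .stab 44 false, .stab 44 false, .stab 44 false,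 .stab 50 false, .stab 43 false, .stab 43 false, .edge 102 [0,6,1,7,6,5,2,5,5,6], .coin 103, .lett 4, .lett 4, .lett 2, .stab 14 false, .stab 17 false, .stab 16 false, .stab 14 false, .stab 17 false, .stab 16 false, .edge 46 [1,6,0,5,6,4,7,6], .lett 5, .lett 7, .stab 43 false, .stab 44 false, .stab 44 false, .stab 42 false, .stab 44 false, .stab 44 false, .stab 42 false, .edge 102 [4,6,5,2,6,7,5,2], .coin 103, .lett 6, .stab 15 false, .stab 15 false, .stab 17 false, .stab 17 false, .edge 23 [0,5,3,5,7], .lett 4, .lett 4, .lett 2, .stab 29 false, .stab 25 false, .stab 29 false, .edge 37 [1,5,2,5,0,3], .coin 38, .lett 5, .lett 7, .stab 16 false, .stab 15 false, .stab 17 false, .stab 17 false, .stab 16 false, .stab 17 false, .edge 19 [5,5,5,5,5,6,7], .coin 20, .lett 6, .edge 11 [0,5,5,6,2,5,7,2,7], .coin 12]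
      (pw 11 (v11 4)) [] = true := by
  decide +kernel

theorem run11u4 :
    GK.S.okValI GK.facts 108 [.edge 4 [], .edge 11 [], .coin 12, .lett 7, .stab 0 false, .stab 3 false, .stab 1 false, .stab 2 false, .stab 0 false, .stab 2 false, .stab 3 false, .edge 4 [5,5,5,0], .lett 6, .lett 4, .stab 8 false, .stab 7 false, .stab 7 false, .edge 13 [5,5,0], .lett 3, .lett 5, .lett 5, .edge 47 [5,3,3,5], .stab 44 false, .stab 43 false, .stab 44 false, .edge 73 [2,7,0,7], .coin 74, .lett 7, .stab 15 false, .stab 17 false, .stab 16 false, .stab 16 false, .stab 17 false, .stab 17 false, .stab 15 false, .stab 15 false, .edge 46 [0,7,5,0,2,2,6], .lett 6, .lett 4, .stab 50 false, .stab 44 false, .stab 42 false, .stab 44 false, .edge 96 [5,6,3,7,0,5,3], .coin 97, .lett 3, .lett 5, .lett 5, .stab 26 false, .stab 29 false, .stab 26 false, .stab 26 false, .stab 24 false, .edge 59 [1,5,7,3,0,6,2,5], .stab 50 false, .stab 43 false, .stab 42 false, .stab 44 false, .stab 50 false, .stab 43 false, .edge 96 [2,5,2,7,4],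 .coin 97, .lett 7, .stab 26 false, .stab 29 false, .stab 25 false, .stab 29 false, .stab 26 false, .stab 24 false, .stab 24 false, .edge 100 [1,7,0,2,2,3,6], .coin 101, .lett 6, .lett 4, .stab 50 false, .stab 44 false, .stab 50 false, .stab 50 false, .edge 63 [3,4,6,1,5,7,1], .lett 3, .lett 5, .lett 5, .stab 44 false, .stab 50 false, .stab 44 false, .stab 50 false, .stab 43 false, .stab 42 false, .edge 81 [0,5,5,5,6,7,6,3], .coin 82, .stab 24 false, .stab 29 false, .stab 29 false, .stab 24 false, .stab 25 false, .stab 24 false, .edge 65 [5,5,7,3,2,6,7,5], .lett 7, .stab 44 false, .stab 42 false, .stab 44 false, .stab 50 false, .edge 104 [1,6,2,5,6,7,2], .coin 105, .lett 6, .lett 4, .stab 43 false, .stab 50 false, .stab 44 false, .stab 43 false, .stab 50 false, .stab 42 false, .edge 57 [3,5,3,0,7,6,5], .lett 3, .lett 5, .lett 5, .stab 43 false, .stab 44 false, .stab 43 false, .stab 44 false, .edge 93 [0,7,3,5,7,1,4,6], .coin 95, .stab 44 false, .stab 42 false, .stab 44 false, .stab 50 false,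 .stab 43 false, .stab 42 false, .edge 62 [5,2,2,6,7,5,6,2], .lett 7, .stab 43 false, .stab 42 false, .stab 44 false, .stab 43 false, .stab 50 false, .stab 42 false, .edge 104 [0,0,5,6,0,5], .coin 105, .lett 6, .lett 4, .stab 50 false, .stab 43 false, .stab 44 false, .stab 44 false, .stab 50 false, .stab 44 false, .edge 52 [6,7,2,2,5,7,1], .lett 3, .lett 5, .lett 5, .stab 43 false, .stab 44 false, .stab 43 false, .stab 43 false, .stab 43 false, .stab 42 false, .edge 102 [5,2,6,5,7,5,0], .coin 103, .stab 16 false, .stab 16 false, .stab 17 false, .stab 16 false, .stab 17 false, .stab 16 false, .edge 46 [7,1,5,2,6,7,3], .lett 7, .stab 43 false, .stab 44 false, .stab 50 false, .stab 43 false, .stab 43 false, .stab 42 false, .edge 81 [2,6,7,6,2,7,5], .coin 82, .lett 6, .lett 4, .stab 24 false, .stab 29 false, .stab 24 false, .stab 26 false, .stab 24 false, .edge 100 [1,7,5,0,6,7,0,5], .coin 101, .lett 3, .lett 5, .lett 5, .stab 43 false, .edge 60 [0,6,2,0,4], .stab 24 false, .stab 26 false, .stab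 24 false, .stab 29 false, .stab 29 false, .edge 89 [4,5,6,5,0], .coin 90, .lett 7, .edge 104 [6,7,3,6,3,5,6,7,5], .coin 105, .lett 6, .lett 4, .stab 44 false, .stab 50 false, .stab 44 false, .stab 50 false, .stab 43 false, .stab 42 false, .edge 63 [5,4,5,2,6,1,6], .lett 3, .lett 5, .lett 5, .stab 43 false, .stab 44 false, .stab 44 false, .stab 44 false, .stab 42 false, .stab 44 false, .edge 63 [7,0,2,0,3], .stab 44 false, .stab 50 false, .stab 50 false, .stab 44 false, .stab 43 false, .stab 50 false, .edge 63 [3,5,5,5,0,1,6,7], .lett 7, .stab 42 false, .stab 44 false, .stab 50 false, .stab 44 false, .stab 44 false, .stab 44 false, .stab 43 false, .edge 94 [1,5,6,7,2,5,5,6,5], .coin 95, .lett 6, .lett 4, .stab 50 false, .stab 42 false, .stab 44 false, .stab 50 false, .stab 44 false, .edge 55 [0,6,5,0,7,6,1,5], .lett 3, .lett 5, .lett 5, .stab 42 false, .stab 44 false, .stab 50 false, .stab 44 false, .stab 44 false, .edge 55 [5,7,1,7], .stab 43 false, .stab 44 false, .stab 50 false, .stab 42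 false, .stab 44 false, .stab 44 false, .edge 55 [3,5,5,5,5,5,3,6,5], .lett 7, .stab 42 false, .stab 44 false, .stab 50 false, .stab 44 false, .stab 42 false, .stab 44 false, .edge 104 [0,7,6,1], .coin 105, .lett 6, .lett 4, .stab 43 false, .stab 44 false, .stab 42 false, .stab 44 false, .stab 50 false, .stab 44 false, .stab 42 false, .edge 106 [6,5,7,1,2,5,5,7], .coin 107, .lett 3, .lett 5, .lett 5, .stab 25 false, .stab 29 false, .stab 25 false, .stab 26 false, .edge 30 [6,0,7,6,1,1,6], .stab 17 false, .stab 17 false, .stab 15 false, .edge 79 [1,6,2,5,5,6,7,6,2,5], .coin 80, .lett 7, .stab 26 false, .stab 25 false, .stab 24 false, .edge 30 [0,6,7,2,5,5,7,5,0], .lett 6, .lett 4, .stab 15 false, .stab 17 false, .stab 16 false, .stab 15 false, .stab 16 false, .stab 17 false, .edge 18 [5,7,6,2,7,5,3,5], .lett 3, .lett 5, .lett 5, .stab 16 false, .stab 17 false, .edge 23 [5,5], .edge 37 [5,5], .coin 38, .lett 7, .stab 16 false, .stab 15 false, .stab 17 false, .stab 17 false, .stab 16 false, .stab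 17 false, .edge 19 [5,5,5,5,5,6,7], .coin 20, .lett 6, .lett 4, .edge 11 [5,5,7,3,7,0,6,5], .coin 12, .lett 3, .lett 5, .lett 5]
      (pw 11 (g11 4 ++ GK.S.invAll (v11 4))) [] = true := by
  decide +kernel

end CfsgLib.KnownB.LyCent
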