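import Cfsg.Agent.Lib.KnownB.LyCent.RunData

/-!
Evaluations through the enumeration.
-/

set_option autoImplicit false
set_option maxRecDepth 100000
set_option Elab.async false

namespace CfsgLib.KnownB.LyCent

open CfsgLib.PresCert CfsgLib.DCE
open CfsgLib.Spor.Ly

theorem prT01 :
    GK.S.okVal GK.facts 108 [.lett 3, .lett 3, .stab 1 false, .stab 1 false, .edge 4 [], .lett 1, .lett 6, .edge 13 [5], .lett 1, .lett 2, .lett 2, .lett 6, .lett 3, .lett 3, .lett 4, .lett 0, .lett 4, .lett 1, .lett 5, .lett 0, .lett 5, .lett 6, .stab 17 false, .stab 17 false, .stab 14 false, .stab 17 false, .stab 15 false, .edge 22 [3,6,5,7,1,6,5,7,5], .lett 1, .lett 6, .lett 0, .stab 16 false, .stab 16 false, .stab 17 false, .stab 17 false, .stab 17 false, .edge 23 [7,5,4], .lett 1, .lett 2, .lett 2, .lett 6, .lett 4, .lett 0, .lett 4, .lett 1, .lett 5, .lett 0, .lett 5, .lett 0, .lett 3, .lett 3, .stab 29 false, .stab 29 false, .stab 25 false, .stab 29 false,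 .edge 37 [4,7,6], .coin 38, .lett 1, .lett 6, .stab 16 false, .stab 17 false, .stab 16 false, .edge 22 [3,5,5,7,6,1,5,5], .lett 1, .lett 2, .lett 2, .lett 6, .lett 3, .lett 3, .lett 4, .lett 0, .lett 4, .lett 1, .lett 5, .lett 0, .lett 5, .lett 6, .stab 16 false, .stab 17 false, .stab 16 false, .stab 14 false, .edge 22 [3,5,5,5,6,1,1,7], .lett 1, .lett 6, .lett 0, .stab 16 false, .stab 16 false, .stab 17 false, .stab 17 false, .stab 17 false, .edge 23 [5,5,4,7,6], .lett 1, .lett 2, .lett 2, .lett 6, .lett 4, .lett 0, .lett 4, .lett 1, .lett 5, .lett 0, .lett 5, .lett 0, .lett 3, .lett 3, .stab 29 false, .stab 29 false, .stab 25 false, .stab 29 false, .edge 37 [5,7,6,4,5], .coin 38, .lett 1, .lett 6, .stab 17 false, .stab 17 false, .stab 15 false, .stab 15 false, .stab 14 false, .edge 22 [3,5,5,5,5,6,7,0,6], .lett 1, .lett 2, .lett 2, .lett 6, .lett 3, .lett 3, .lett 4, .lett 0, .lett 4, .lett 1, .lett 5, .lett 0, .lett 5, .lett 6, .stab 16 false,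 .stab 16 false, .stab 17 false, .stab 17 false, .stab 17 false, .edge 19 [5,5,5,5,5,6], .coin 20, .lett 1, .lett 6, .lett 0, .edge 11 [1,7,1,2,6,7,6,5], .coin 12, .lett 1, .lett 2, .lett 2, .lett 6, .lett 4, .lett 0, .lett 4, .lett 1, .lett 5, .lett 0, .lett 5, .lett 0]
      (pw 3 (yT 0 ++ yT 1)) [] = true := by
  decide +kernel

theorem prT02 :
    GK.S.okVal GK.facts 108 [.lett 3, .lett 3, .stab 1 false, .stab 1 false, .edge 4 [], .lett 1, .lett 6, .edge 13 [5], .lett 1, .lett 2, .lett 2, .lett 6, .lett 2, .lett 1, .lett 2, .lett 4, .lett 0, .lett 4, .lett 1, .lett 5, .lett 0, .lett 5, .lett 0, .edge 23 [5,5,4,7,6,5], .lett 1, .lett 6, .lett 3, .stab 25 false, .stab 25 false, .stab 24 false, .stab 24 false, .stab 29 false, .edge 37 [4,4,5,5], .coin 38, .lett 1, .lett 6, .lett 4, .lett 0, .lett 4, .lett 1, .lett 5, .lett 0, .lett 5, .lett 3, .stab 16 false, .stab 15 false, .stab 16 false, .stab 15 false, .stab 15 false, .stab 15 false, .edge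 32 [5,2,6,5,0,4,7,5,6], .lett 1, .stab 25 false, .stab 26 false, .stab 25 false, .stab 29 false, .stab 29 false, .edge 75 [2,6,7,5,7,2,6], .coin 76, .lett 1, .lett 3, .lett 3, .stab 15 false, .stab 17 false, .stab 17 false, .stab 15 false, .stab 15 false, .stab 16 false, .stab 15 false, .stab 14 false, .edge 32 [6,2,7,5,0,3,7], .lett 1, .lett 6, .stab 24 false, .stab 26 false, .stab 25 false, .edge 69 [1,6,4,5,3,5,5], .lett 1, .lett 2, .lett 2, .lett 6, .lett 2, .lett 1, .lett 2, .lett 4, .lett 0, .lett 4, .lett 1, .lett 5, .lett 0, .lett 5, .lett 0, .stab 50 false, .stab 43 false, .stab 42 false, .stab 44 false, .edge 71 [5,5,6,7], .coin 72, .lett 1, .lett 6, .lett 3, .edge 11 [2,4,6,1,5,7,5], .coin 12, .lett 1, .lett 6, .lett 4, .lett 0, .lett 4, .lett 1, .lett 5, .lett 0, .lett 5, .lett 3, .stab 2 false, .stab 1 false, .stab 2 false, .stab 3 false, .stab 1 false, .stab 1 false, .stab 0 false, .stab 2 false, .stab 3 false, .edge 4 [2,7,5,7,6,3,5,7,6],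 .lett 1, .edge 11 [5,5,6,1,5,2,7,6], .coin 12, .lett 1]
      (pw 2 (yT 0 ++ yT 2)) tW = true := by
  decide +kernel

theorem prT03 :
    GK.S.okVal GK.facts 108 [.lett 3, .lett 3, .stab 1 false, .stab 1 false, .edge 4 [], .lett 1, .lett 6, .edge 13 [5], .lett 1, .lett 2, .lett 2, .lett 6, .lett 1, .lett 3, .lett 1, .lett 3, .lett 4, .lett 0, .lett 4, .lett 1, .lett 5, .lett 0, .lett 5, .edge 23 [5,4,5,5,5,7,6,5], .lett 1, .lett 6, .lett 3, .stab 26 false, .stab 24 false, .stab 24 false, .stab 29 false, .edge 37 [5,7,5,4], .coin 38, .lett 1, .lett 1, .lett 3, .lett 6, .lett 4, .lett 0, .lett 4, .lett 1, .lett 5, .lett 0, .lett 5, .lett 1, .lett 3, .lett 3, .stab 17 false, .stab 15 false, .stab 15 false, .stab 15 false, .stab 17 false, .stab 14 false, .edge 32 [2,2,6,3,0], .lett 1, .lett 6, .stab 24 false, .stab 26 false, .stab 25 false, .edge 69 [1,6,4,5,3,5], .lett 1, .lett 2, .lett 2, .lett 6, .lett 1, .lett 3, .lett 1, .lett 3, .lett 4, .lett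 0, .lett 4, .lett 1, .lett 5, .lett 0, .lett 5, .stab 50 false, .stab 43 false, .stab 42 false, .stab 44 false, .edge 71 [6,7,6], .coin 72, .lett 1, .lett 6, .lett 3, .edge 11 [2,4,6,1], .coin 12, .lett 1, .lett 1, .lett 3, .lett 6, .lett 4, .lett 0, .lett 4, .lett 1, .lett 5, .lett 0, .lett 5, .lett 1]
      (pw 2 (yT 0 ++ yT 3)) tW = true := by
  decide +kernel

theorem prT04 :
    GK.S.okVal GK.facts 108 [.lett 3, .lett 3, .stab 1 false, .stab 1 false, .edge 4 [], .lett 1, .lett 6, .edge 13 [5], .lett 1, .lett 2, .lett 2, .lett 6, .lett 1, .lett 1, .lett 3, .lett 4, .lett 0, .lett 4, .lett 1, .lett 5, .lett 0, .lett 5, .lett 3, .edge 23 [5,4,5,5,5,5,5,6], .lett 1, .lett 2, .lett 0, .lett 2, .lett 6, .stab 29 false, .stab 29 false, .edge 37 [4,5,5,5,6,7,5,6], .coin 38, .lett 1, .lett 6, .lett 4, .lett 0, .lett 4, .lett 1, .lett 5, .lett 0, .lett 5, .lett 1, .lett 3, .lett 3, .stab 14 false, .stab 17 false, .stab 17 false, .stab 15 false, .stab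 17 false, .stab 16 false, .stab 14 false, .edge 32 [5,7,1,1,6,5,0,7], .lett 1, .lett 6, .stab 24 false, .stab 26 false, .stab 25 false, .edge 69 [0,5,6,5,3,7,5,6,5,2], .lett 1, .lett 2, .lett 2, .lett 6, .lett 1, .lett 1, .lett 3, .lett 4, .lett 0, .lett 4, .lett 1, .lett 5, .lett 0, .lett 5, .lett 3, .stab 50 false, .stab 43 false, .stab 42 false, .stab 44 false, .edge 71 [5,5,5,5,5,5,6], .coin 72, .lett 1, .lett 2, .lett 0, .lett 2, .lett 6, .edge 11 [2,4,7,5,6,1,5], .coin 12, .lett 1, .lett 6, .lett 4, .lett 0, .lett 4, .lett 1, .lett 5, .lett 0, .lett 5, .lett 1]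
      (pw 2 (yT 0 ++ yT 4)) tW = true := by
  decide +kernel

theorem prT05 :
    GK.S.okVal GK.facts 108 [.lett 3, .lett 3, .stab 1 false, .stab 1 false, .edge 4 [], .lett 1, .lett 6, .edge 13 [5], .lett 1, .lett 2, .lett 2, .lett 6, .lett 3, .lett 3, .lett 1, .edge 23 [7,5,7], .lett 1, .lett 2, .lett 2, .lett 3, .lett 3, .edge 37 [5,5], .coin 38, .lett 1, .lett 6, .stab 16 false, .stab 15 false, .stab 17 false, .stab 17 false, .stab 16 false, .stab 17 false, .edge 19 [5,6,5,7], .coin 20, .lett 1, .lett 2, .lett 2, .lett 6, .lett 3, .lett 3, .lett 1, .edge 11 [0,0,6,1,2], .coin 12, .lett 1, .lett 2, .lett 2]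
      (pw 2 (yT 0 ++ yT 5)) tW = true := by
  decide +kernel

theorem prT06 :
    GK.S.okVal GK.facts 108 [.lett 3, .lett 3, .stab 1 false, .stab 1 false, .edge 4 [], .lett 1, .lett 6, .edge 13 [5], .lett 1, .lett 2, .lett 2, .lett 6, .lett 3, .lett 4, .lett 0, .lett 4, .lett 1, .lett 5, .lett 0, .lett 5, .lett 3, .edge 23 [4,4,6], .lett 1, .lett 2, .lett 6, .stab 24 false, .stab 25 false, .stab 24 false, .stab 29 false, .edge 37 [5,5,5,4,6,7,5,6], .coin 38, .lett 1, .lett 1, .lett 2, .lett 6, .lett 4, .lett 0, .lett 4, .lett 1, .lett 5, .lett 0, .lett 5, .lett 0, .lett 3, .lett 3, .stab 17 false, .stab 15 false, .stab 15 false, .stab 15 false, .stab 17 false, .stab 14 false, .edge 32 [0,5,7,2,1,7,3], .lett 1, .lett 6, .stab 24 false, .stab 26 false, .stab 25 false, .edge 69 [0,0,1,3,3,3,5], .lett 1, .lett 2, .lett 2, .lett 6, .lett 3, .lett 4, .lett 0, .lett 4, .lett 1, .lett 5, .lett 0, .lett 5, .lett 3, .stab 50 false, .stab 43 false, .stab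 42 false, .stab 44 false, .edge 71 [5,6,7], .coin 72, .lett 1, .lett 2, .lett 6, .edge 11 [2,4,7,5,6,1,7,5], .coin 12, .lett 1, .lett 1, .lett 2, .lett 6, .lett 4, .lett 0, .lett 4, .lett 1, .lett 5, .lett 0, .lett 5, .lett 0]
      (pw 2 (yT 0 ++ yT 6)) tW = true := by
  decide +kernel

theorem prT07 :
    GK.S.okVal GK.facts 108 [.lett 3, .lett 3, .stab 1 false, .stab 1 false, .edge 4 [], .lett 1, .lett 6, .edge 13 [5], .lett 1, .lett 2, .lett 2, .lett 6, .lett 3, .lett 4, .lett 0, .lett 4, .lett 1, .lett 5, .lett 0, .lett 5, .lett 3, .lett 0, .edge 23 [4,4,6,5], .lett 1, .lett 6, .lett 3, .stab 24 false, .stab 29 false, .edge 37 [4,4,7,6], .coin 38, .lett 1, .lett 6, .lett 4, .lett 0, .lett 4, .lett 1, .lett 5, .lett 0, .lett 5, .lett 3, .lett 0, .lett 3, .lett 3, .stab 17 false, .stab 15 false, .stab 15 false, .stab 15 false, .stab 17 false, .stab 14 false, .edge 32 [5,7,5,0,6,7,0,5,6], .lett 1, .lett 6, .stab 24 false, .stab 26 false, .stab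 25 false, .edge 69 [1,6,4,5,3,7,6,5], .lett 1, .lett 2, .lett 2, .lett 6, .lett 3, .lett 4, .lett 0, .lett 4, .lett 1, .lett 5, .lett 0, .lett 5, .lett 3, .lett 0, .stab 50 false, .stab 43 false, .stab 42 false, .stab 44 false, .edge 71 [7,6,5,7], .coin 72, .lett 1, .lett 6, .lett 3, .edge 11 [2,4,6,1,5,5,6], .coin 12, .lett 1, .lett 6, .lett 4, .lett 0, .lett 4, .lett 1, .lett 5, .lett 0, .lett 5, .lett 3, .lett 0]
      (pw 2 (yT 0 ++ yT 7)) tW = true := by
  decide +kernel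

theorem prT08 :
    GK.S.okVal GK.facts 108 [.lett 3, .lett 3, .stab 1 false, .stab 1 false, .edge 4 [], .lett 1, .lett 6, .edge 13 [5], .lett 1, .lett 2, .lett 2, .lett 6, .lett 0, .lett 2, .lett 4, .lett 0, .lett 4, .lett 1, .lett 5, .lett 0, .lett 5, .lett 2, .edge 23 [4,5,5,5,5,6,5], .lett 1, .lett 6, .lett 3, .stab 26 false, .stab 24 false, .stab 29 false, .edge 37 [5,5,5,4,5,6,7,6], .coin 38, .lett 1, .lett 1, .lett 3, .lett 6, .lett 4, .lett 0, .lett 4, .lett 1, .lett 5, .lett 0, .lett 5, .lett 3, .lett 3, .stab 17 false, .stab 15 false, .stab 15 false, .stab 15 false, .stab 17 false, .stab 14 false, .edge 32 [2,6,7,3,7,5,7,1,6], .lett 1, .lett 6, .stab 24 false, .stab 26 false, .stab 25 false, .edge 69 [1,6,4,5,3,5,5,7,6], .lett 1, .lett 2, .lett 2, .lett 6, .lett 0, .lett 2, .lett 4, .lett 0, .lett 4, .lett 1, .lett 5, .lett 0, .lett 5, .lett 2, .stab 50 false, .stab 43 false, .stab 42 false, .stab 44 false, .edge 71 [5,5,6,5,7,6,5],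 .coin 72, .lett 1, .lett 6, .lett 3, .edge 11 [3,7,0,2,0], .coin 12, .lett 1, .lett 1, .lett 3, .lett 6, .lett 4, .lett 0, .lett 4, .lett 1, .lett 5, .lett 0, .lett 5]
      (pw 2 (yT 0 ++ yT 8)) tW = true := by
  decide +kernel


end CfsgLib.KnownB.LyCent
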