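import Cfsg.Agent.Lib.KnownB.LyCent.RunData

/-!
Evaluations through the enumeration.
-/

set_option autoImplicit false
set_option maxRecDepth 100000
set_option Elab.async false

namespace CfsgLib.KnownB.LyCent

open CfsgLib.PresCert CfsgLib.DCE
open CfsgLib.Spor.Ly

theorem prT23 :
    GK.S.okVal GK.facts 108 [.lett 2, .lett 1, .lett 2, .lett 4, .lett 0, .lett 4, .lett 1, .lett 5, .lett 0, .lett 5, .lett 0, .stab 1 false, .stab 1 false, .edge 4 [5,5,4,7,6,5], .lett 1, .lett 6, .lett 3, .stab 8 false, .stab 7 false, .stab 8 false, .stab 6 false, .stab 7 false, .stab 8 false, .stab 7 false, .stab 8 false, .stab 7 false, .stab 7 false, .edge 41 [5,5,5,5,6], .lett 1, .lett 6, .lett 4, .lett 0, .lett 4, .lett 1, .lett 5, .lett 0, .lett 5, .lett 3, .stab 50 false, .stab 44 false, .stab 43 false, .stab 44 false, .edge 48 [5,4,7,5], .lett 1, .edge 48 [5,4,5,6,7], .lett 1, .lett 1, .lett 3, .lett 1, .lett 3, .lett 4, .lett 0, .lett 4, .lett 1, .lett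 5, .lett 0, .lett 5, .edge 71 [6,7,5,4,6], .coin 72, .lett 1, .lett 6, .lett 3, .stab 6 false, .stab 8 false, .stab 5 false, .stab 7 false, .stab 8 false, .stab 7 false, .stab 7 false, .edge 13 [5,5,5,4,6,5], .lett 1, .lett 1, .lett 3, .lett 6, .lett 4, .lett 0, .lett 4, .lett 1, .lett 5, .lett 0, .lett 5, .lett 1, .lett 2, .lett 1, .lett 2, .lett 4, .lett 0, .lett 4, .lett 1, .lett 5, .lett 0, .lett 5, .lett 0, .stab 17 false, .stab 16 false, .stab 15 false, .stab 14 false, .stab 17 false, .stab 17 false, .stab 15 false, .stab 14 false, .edge 32 [0,3,0,6,1,7], .lett 1, .lett 6, .lett 3, .stab 24 false, .stab 24 false, .stab 29 false, .stab 25 false, .stab 25 false, .stab 24 false, .edge 75 [1,6,2,4,5], .coin 76, .lett 1, .lett 6, .lett 4, .lett 0, .lett 4, .lett 1, .lett 5, .lett 0, .lett 5, .lett 3, .stab 17 false, .stab 15 false, .edge 18 [4,6,5,7,6], .lett 1, .stab 16 false, .stab 17 false, .stab 15 false, .edge 18 [5,7,6,4,5], .lett 1,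 .lett 1, .lett 3, .lett 1, .lett 3, .lett 4, .lett 0, .lett 4, .lett 1, .lett 5, .lett 0, .lett 5, .stab 16 false, .stab 17 false, .edge 23 [5,5,4,6,5,7,6], .lett 1, .lett 6, .lett 3, .stab 25 false, .stab 24 false, .stab 29 false, .edge 37 [5,5,6,4,7,6], .coin 38, .lett 1, .lett 1, .lett 3, .lett 6, .lett 4, .lett 0, .lett 4, .lett 1, .lett 5, .lett 0, .lett 5, .lett 1, .lett 2, .lett 1, .lett 2, .lett 4, .lett 0, .lett 4, .lett 1, .lett 5, .lett 0, .lett 5, .lett 0, .stab 17 false, .stab 15 false, .stab 15 false, .stab 15 false, .stab 17 false, .stab 14 false, .edge 32 [3,6,1,5,7,0,5], .lett 1, .lett 6, .lett 3, .stab 26 false, .stab 25 false, .stab 29 false, .edge 69 [1,6,5,3,6,7,5], .lett 1, .lett 6, .lett 4, .lett 0, .lett 4, .lett 1, .lett 5, .lett 0, .lett 5, .lett 3, .stab 43 false, .stab 50 false, .stab 44 false, .stab 43 false, .edge 48 [4,5,7,5], .lett 1, .edge 48 [4,5,5,6,7], .lett 1, .lett 1, .lett 3, .lett 1, .lett 3, .lett 4,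 .lett 0, .lett 4, .lett 1, .lett 5, .lett 0, .lett 5, .edge 71 [6,7,5,6], .coin 72, .lett 1, .lett 6, .lett 3, .edge 11 [1,2,5,3,7,2,5,6], .coin 12, .lett 1, .lett 1, .lett 3, .lett 6, .lett 4, .lett 0, .lett 4, .lett 1, .lett 5, .lett 0, .lett 5, .lett 1]
      (pw 3 (yT 2 ++ yT 3)) tW = true := by
  decide +kernel

theorem prT24 :
    GK.S.okVal GK.facts 108 [.lett 2, .lett 1, .lett 2, .lett 4, .lett 0, .lett 4, .lett 1, .lett 5, .lett 0, .lett 5, .lett 0, .stab 1 false, .stab 1 false, .edge 4 [5,5,4,7,6,5], .lett 1, .lett 6, .lett 3, .stab 8 false, .stab 7 false, .stab 8 false, .stab 6 false, .stab 7 false, .stab 8 false, .stab 7 false, .stab 8 false, .stab 7 false, .stab 7 false, .edge 41 [5,5,5,5,6], .lett 1, .lett 6, .lett 4, .lett 0, .lett 4, .lett 1, .lett 5, .lett 0, .lett 5, .lett 3, .stab 50 false, .stab 44 false, .stab 43 false, .stab 44 false, .edge 48 [5,4,7,5], .lett 1, .edge 48 [5,4,5,6,7], .lett 1, .lett 1, .lett 1, .lett 3,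 .lett 4, .lett 0, .lett 4, .lett 1, .lett 5, .lett 0, .lett 5, .lett 3, .edge 71 [5,7,6,4,5], .coin 72, .lett 1, .lett 2, .lett 0, .lett 2, .lett 6, .stab 6 false, .stab 8 false, .stab 5 false, .stab 7 false, .stab 8 false, .stab 7 false, .stab 7 false, .edge 41 [5,5,6,4,7], .lett 1, .lett 6, .lett 4, .lett 0, .lett 4, .lett 1, .lett 5, .lett 0, .lett 5, .lett 1, .lett 2, .lett 1, .lett 2, .lett 4, .lett 0, .lett 4, .lett 1, .lett 5, .lett 0, .lett 5, .lett 0, .stab 43 false, .stab 44 false, .stab 44 false, .stab 42 false, .stab 44 false, .stab 42 false, .edge 64 [1,6,0,3,7,5,3,7], .lett 1, .lett 6, .lett 3, .stab 44 false, .stab 44 false, .stab 44 false, .stab 50 false, .stab 43 false, .edge 83 [2,3,2,2], .coin 84, .lett 1, .lett 6, .lett 4, .lett 0, .lett 4, .lett 1, .lett 5, .lett 0, .lett 5, .lett 3, .stab 42 false, .stab 44 false, .stab 44 false, .stab 42 false, .stab 44 false, .edge 73 [5,4,7,5,6], .coin 74, .lett 1, .stab 17 false, .stab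 16 false, .stab 17 false, .stab 17 false, .stab 15 false, .edge 47 [5,5,4,7,5,6,5], .lett 1, .lett 1, .lett 1, .lett 3, .lett 4, .lett 0, .lett 4, .lett 1, .lett 5, .lett 0, .lett 5, .lett 3, .edge 71 [5,7,5,6], .coin 72, .lett 1, .lett 2, .lett 0, .lett 2, .lett 6, .edge 11 [2,4,7,5,6,1], .coin 12, .lett 1, .lett 6, .lett 4, .lett 0, .lett 4, .lett 1, .lett 5, .lett 0, .lett 5, .lett 1]
      (pw 2 (yT 2 ++ yT 4)) tW = true := by
  decide +kernel

theorem prT25 :
    GK.S.okVal GK.facts 108 [.lett 2, .lett 1, .lett 2, .lett 4, .lett 0, .lett 4, .lett 1, .lett 5, .lett 0, .lett 5, .lett 0, .stab 1 false, .stab 1 false, .edge 4 [5,5,4,7,6,5], .lett 1, .lett 6, .lett 3, .stab 8 false, .stab 7 false, .stab 8 false, .stab 6 false, .stab 7 false, .stab 8 false, .stab 7 false, .stab 8 false, .stab 7 false, .stab 7 false, .edge 41 [5,5,5,5,6], .lett 1, .lett 6, .lett 4, .lett 0, .lett 4, .lett 1, .lett 5, .lett 0, .lett 5, .lett 3, .stab 50 false,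 .stab 44 false, .stab 43 false, .stab 44 false, .edge 48 [5,4,7,5], .lett 1, .edge 48 [5,4,5,6,7], .lett 1, .lett 3, .lett 3, .lett 1, .edge 71 [5,4,7,5,6], .coin 72, .lett 1, .lett 2, .lett 2, .lett 2, .lett 1, .lett 2, .lett 4, .lett 0, .lett 4, .lett 1, .lett 5, .lett 0, .lett 5, .lett 0, .stab 6 false, .stab 7 false, .stab 8 false, .stab 5 false, .stab 7 false, .stab 6 false, .edge 41 [5,5,5,6,7,5,6,5], .lett 1, .lett 6, .lett 3, .stab 44 false, .stab 43 false, .stab 44 false, .edge 71 [5,5,5,7,6], .coin 72, .lett 1, .lett 6, .lett 4, .lett 0, .lett 4, .lett 1, .lett 5, .lett 0, .lett 5, .lett 3, .edge 10 [7,3,7,3,5,6,1], .lett 1, .edge 10 [6,5,2,6,7,1,7], .lett 1, .lett 3, .lett 3, .lett 1, .edge 11 [6,2,3,2,5,7,6,5], .coin 12, .lett 1, .lett 2, .lett 2]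
      (pw 2 (yT 2 ++ yT 5)) tW = true := by
  decide +kernel

theorem prT26 :
    GK.S.okVal GK.facts 108 [.lett 2, .lett 1, .lett 2, .lett 4, .lett 0, .lett 4, .lett 1, .lett 5, .lett 0, .lett 5, .lett 0, .stab 1 false, .stab 1 false, .edge 4 [5,5,4,7,6,5], .lett 1, .lett 6, .lett 3, .stab 8 false, .stab 7 false, .stab 8 false, .stab 6 false, .stab 7 false, .stab 8 false, .stab 7 false, .stab 8 false, .stab 7 false, .stab 7 false, .edge 41 [5,5,5,5,6], .lett 1, .lett 6, .lett 4, .lett 0, .lett 4, .lett 1, .lett 5, .lett 0, .lett 5, .lett 3, .stab 50 false, .stab 44 false, .stab 43 false, .stab 44 false, .edge 48 [5,4,7,5], .lett 1, .edge 48 [5,4,5,6,7], .lett 1, .lett 3, .lett 4, .lett 0, .lett 4, .lett 1, .lett 5, .lett 0, .lett 5, .lett 3, .edge 71 [5,5,4,5,7,6,5], .coin 72, .lett 1, .lett 2, .lett 6, .stab 7 false, .stab 7 false, .stab 7 false, .stab 6 false, .stab 6 false, .stab 7 false, .stab 7 false, .stab 6 false, .stab 7 false, .edge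 41 [5,5,4,5,5,7], .lett 1, .lett 1, .lett 2, .lett 6, .lett 4, .lett 0, .lett 4, .lett 1, .lett 5, .lett 0, .lett 5, .lett 0, .lett 2, .lett 1, .lett 2, .lett 4, .lett 0, .lett 4, .lett 1, .lett 5, .lett 0, .lett 5, .lett 0, .stab 43 false, .stab 44 false, .stab 44 false, .stab 50 false, .stab 44 false, .edge 64 [1,7,6,3,7,2], .lett 1, .lett 6, .lett 3, .stab 44 false, .stab 43 false, .stab 43 false, .stab 42 false, .edge 83 [2,3,5,5,2,7], .coin 84, .lett 1, .lett 6, .lett 4, .lett 0, .lett 4, .lett 1, .lett 5, .lett 0, .lett 5, .lett 3, .stab 42 false, .stab 44 false, .stab 44 false, .stab 44 false, .stab 43 false, .edge 48 [4,5,6,5,7,5], .lett 1, .edge 48 [4,5,5,5,6,5,7], .lett 1, .lett 3, .lett 4, .lett 0, .lett 4, .lett 1, .lett 5, .lett 0, .lett 5, .lett 3, .edge 71 [5,5,5,6], .coin 72, .lett 1, .lett 2, .lett 6, .edge 11 [5,6,7,6,2,6,5,2,6,5], .coin 12, .lett 1, .lett 1, .lett 2, .lett 6, .lett 4, .lett 0, .lett 4, .lett 1, .lett 5, .lett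 0, .lett 5, .lett 0]
      (pw 2 (yT 2 ++ yT 6)) tW = true := by
  decide +kernel

theorem prT27 :
    GK.S.okVal GK.facts 108 [.lett 2, .lett 1, .lett 2, .lett 4, .lett 0, .lett 4, .lett 1, .lett 5, .lett 0, .lett 5, .lett 0, .stab 1 false, .stab 1 false, .edge 4 [5,5,4,7,6,5], .lett 1, .lett 6, .lett 3, .stab 8 false, .stab 7 false, .stab 8 false, .stab 6 false, .stab 7 false, .stab 8 false, .stab 7 false, .stab 8 false, .stab 7 false, .stab 7 false, .edge 41 [5,5,5,5,6], .lett 1, .lett 6, .lett 4, .lett 0, .lett 4, .lett 1, .lett 5, .lett 0, .lett 5, .lett 3, .stab 50 false, .stab 44 false, .stab 43 false, .stab 44 false, .edge 48 [5,4,7,5], .lett 1, .edge 48 [5,4,5,6,7], .lett 1, .lett 3, .lett 4, .lett 0, .lett 4, .lett 1, .lett 5, .lett 0, .lett 5, .lett 3, .lett 0, .edge 71 [7,5,4,6], .coin 72, .lett 1, .lett 6, .lett 3, .stab 8 false, .stab 5 false, .stab 7 false, .stab 6 false, .stab 6 false, .stab 6 false, .stab 7 false, .stab 6 false,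 .stab 7 false, .edge 41 [4,5,5,5,5,6,5], .lett 1, .lett 6, .lett 4, .lett 0, .lett 4, .lett 1, .lett 5, .lett 0, .lett 5, .lett 3, .lett 0, .lett 2, .lett 1, .lett 2, .lett 4, .lett 0, .lett 4, .lett 1, .lett 5, .lett 0, .lett 5, .lett 0, .stab 50 false, .stab 44 false, .stab 42 false, .stab 44 false, .stab 50 false, .stab 44 false, .edge 64 [0,1,5,0,1], .lett 1, .lett 6, .lett 3, .stab 44 false, .stab 44 false, .stab 44 false, .stab 50 false, .stab 43 false, .edge 83 [5,5,6,3,6,7,6,3,7], .coin 84, .lett 1, .lett 6, .lett 4, .lett 0, .lett 4, .lett 1, .lett 5, .lett 0, .lett 5, .lett 3, .stab 50 false, .stab 50 false, .stab 44 false, .stab 44 false, .stab 44 false, .stab 43 false, .edge 48 [4,5,5,6,7,5], .lett 1, .edge 48 [4,7,5], .lett 1, .lett 3, .lett 4, .lett 0, .lett 4, .lett 1, .lett 5, .lett 0, .lett 5, .lett 3, .lett 0, .edge 71 [6,7,5,6,5], .coin 72, .lett 1, .lett 6, .lett 3, .edge 11 [1,2,5,3,7,2,5], .coin 12, .lett 1, .lett 6, .lett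 4, .lett 0, .lett 4, .lett 1, .lett 5, .lett 0, .lett 5, .lett 3, .lett 0]
      (pw 2 (yT 2 ++ yT 7)) tW = true := by
  decide +kernel

theorem prT28 :
    GK.S.okVal GK.facts 108 [.lett 2, .lett 1, .lett 2, .lett 4, .lett 0, .lett 4, .lett 1, .lett 5, .lett 0, .lett 5, .lett 0, .stab 1 false, .stab 1 false, .edge 4 [5,5,4,7,6,5], .lett 1, .lett 6, .lett 3, .stab 8 false, .stab 7 false, .stab 8 false, .stab 6 false, .stab 7 false, .stab 8 false, .stab 7 false, .stab 8 false, .stab 7 false, .stab 7 false, .edge 41 [5,5,5,5,6], .lett 1, .lett 6, .lett 4, .lett 0, .lett 4, .lett 1, .lett 5, .lett 0, .lett 5, .lett 3, .stab 50 false, .stab 44 false, .stab 43 false, .stab 44 false, .edge 48 [5,4,7,5], .lett 1, .edge 48 [5,4,5,6,7], .lett 1, .lett 0, .lett 2, .lett 4, .lett 0, .lett 4, .lett 1, .lett 5, .lett 0, .lett 5, .lett 2, .edge 71 [4,5,7,6], .coin 72, .lett 1, .lett 6, .lett 3, .stab 6 false, .stab 5 false, .stab 7 false, .stab 8 false,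 .stab 7 false, .stab 6 false, .stab 6 false, .stab 8 false, .stab 7 false, .edge 41 [7,5,4], .lett 1, .lett 1, .lett 3, .lett 6, .lett 4, .lett 0, .lett 4, .lett 1, .lett 5, .lett 0, .lett 5, .lett 2, .lett 1, .lett 2, .lett 4, .lett 0, .lett 4, .lett 1, .lett 5, .lett 0, .lett 5, .lett 0, .stab 44 false, .stab 42 false, .stab 44 false, .stab 50 false, .stab 44 false, .edge 64 [5,3,6,0,1,6], .lett 1, .lett 6, .lett 3, .stab 44 false, .stab 44 false, .stab 44 false, .stab 50 false, .stab 43 false, .edge 83 [0,6,7,3,5,5,6,1], .coin 84, .lett 1, .lett 6, .lett 4, .lett 0, .lett 4, .lett 1, .lett 5, .lett 0, .lett 5, .lett 3, .stab 50 false, .stab 50 false, .stab 44 false, .stab 44 false, .stab 44 false, .stab 43 false, .edge 48 [6,5,7,4], .lett 1, .edge 48 [5,5,7,4,5], .lett 1, .lett 0, .lett 2, .lett 4, .lett 0, .lett 4, .lett 1, .lett 5, .lett 0, .lett 5, .lett 2, .edge 71 [5,5,6,5,7,6,5], .coin 72, .lett 1, .lett 6, .lett 3, .edge 11 [3,7,0,2,0],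 .coin 12, .lett 1, .lett 1, .lett 3, .lett 6, .lett 4, .lett 0, .lett 4, .lett 1, .lett 5, .lett 0, .lett 5]
      (pw 2 (yT 2 ++ yT 8)) tW = true := by
  decide +kernel


end CfsgLib.KnownB.LyCent
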