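import Cfsg.Agent.Lib.KnownB.LyCent.RunData

/-!
Evaluations through the enumeration.
-/

set_option autoImplicit false
set_option maxRecDepth 100000
set_option Elab.async false

namespace CfsgLib.KnownB.LyCent

open CfsgLib.PresCert CfsgLib.DCE
open CfsgLib.Spor.Ly

theorem prT45 :
    GK.S.okVal GK.facts 108 [.lett 1, .lett 1, .lett 3, .lett 4, .lett 0, .lett 4, .lett 1, .lett 5, .lett 0, .lett 5, .lett 3, .stab 1 false, .stab 1 false, .edge 4 [5,4,5,5,5,5,5,6], .lett 1, .lett 2, .lett 0, .lett 2, .lett 6, .stab 7 false, .stab 6 false, .stab 5 false, .stab 7 false, .stab 8 false, .stab 6 false, .stab 7 false, .stab 7 false, .stab 8 false, .stab 7 false, .edge 41 [5,5,5,7,6], .lett 1, .lett 6, .lett 4, .lett 0, .lett 4, .lett 1, .lett 5, .lett 0, .lett 5, .lett 1, .lett 3, .lett 3, .lett 1, .stab 44 false, .stab 43 false, .stab 44 false, .edge 71 [5,5,5,4], .coin 72, .lett 1, .lett 2, .lett 2, .lett 1, .lett 1, .lett 3, .lett 4, .lett 0, .lett 4,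 .lett 1, .lett 5, .lett 0, .lett 5, .lett 3, .stab 6 false, .stab 7 false, .stab 8 false, .stab 5 false, .stab 7 false, .stab 6 false, .edge 41 [5,7,5,6,7], .lett 1, .lett 2, .lett 0, .lett 2, .lett 6, .stab 44 false, .stab 43 false, .stab 44 false, .edge 48 [5,6,5], .lett 1, .lett 6, .lett 4, .lett 0, .lett 4, .lett 1, .lett 5, .lett 0, .lett 5, .lett 1, .lett 3, .lett 3, .lett 1, .stab 44 false, .stab 43 false, .stab 44 false, .edge 71 [5,5,5,4,5,5,6,5], .coin 72, .lett 1, .lett 2, .lett 2, .lett 1, .lett 1, .lett 3, .lett 4, .lett 0, .lett 4, .lett 1, .lett 5, .lett 0, .lett 5, .lett 3, .stab 6 false, .stab 7 false, .stab 8 false, .stab 5 false, .stab 7 false, .stab 6 false, .edge 41 [6,7,5,6,5], .lett 1, .lett 2, .lett 0, .lett 2, .lett 6, .stab 44 false, .stab 43 false, .stab 44 false, .edge 71 [5,5,6], .coin 72, .lett 1, .lett 6, .lett 4, .lett 0, .lett 4, .lett 1, .lett 5, .lett 0, .lett 5, .lett 1, .lett 3, .lett 3, .lett 1, .edge 11 [2,6,1,5,5,4,6],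 .coin 12, .lett 1, .lett 2, .lett 2]
      (pw 3 (yT 4 ++ yT 5)) tW = true := by
  decide +kernel

theorem prT46 :
    GK.S.okVal GK.facts 108 [.lett 1, .lett 1, .lett 3, .lett 4, .lett 0, .lett 4, .lett 1, .lett 5, .lett 0, .lett 5, .lett 3, .stab 1 false, .stab 1 false, .edge 4 [5,4,5,5,5,5,5,6], .lett 1, .lett 2, .lett 0, .lett 2, .lett 6, .stab 7 false, .stab 6 false, .stab 5 false, .stab 7 false, .stab 8 false, .stab 6 false, .stab 7 false, .stab 7 false, .stab 8 false, .stab 7 false, .edge 41 [5,5,5,7,6], .lett 1, .lett 6, .lett 4, .lett 0, .lett 4, .lett 1, .lett 5, .lett 0, .lett 5, .lett 1, .lett 3, .lett 4, .lett 0, .lett 4, .lett 1, .lett 5, .lett 0, .lett 5, .lett 3, .stab 44 false, .stab 43 false, .stab 44 false, .edge 71 [5,5,4,5,5,6], .coin 72, .lett 1, .lett 2, .lett 6, .stab 6 false, .stab 5 false, .stab 7 false, .stab 7 false, .stab 8 false, .stab 7 false, .stab 8 false, .stab 7 false, .edge 41 [6,5,4], .lett 1, .lett 1, .lett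 2, .lett 6, .lett 4, .lett 0, .lett 4, .lett 1, .lett 5, .lett 0, .lett 5, .lett 0, .lett 1, .lett 1, .lett 3, .lett 4, .lett 0, .lett 4, .lett 1, .lett 5, .lett 0, .lett 5, .lett 3, .stab 44 false, .stab 44 false, .stab 42 false, .stab 44 false, .stab 42 false, .edge 64 [0,1,5,0,1,7], .lett 1, .lett 2, .lett 0, .lett 2, .lett 6, .stab 44 false, .stab 44 false, .stab 44 false, .stab 50 false, .stab 43 false, .edge 83 [1,5,5,5,3,6,3,5], .coin 84, .lett 1, .lett 6, .lett 4, .lett 0, .lett 4, .lett 1, .lett 5, .lett 0, .lett 5, .lett 1, .lett 3, .lett 4, .lett 0, .lett 4, .lett 1, .lett 5, .lett 0, .lett 5, .lett 3, .stab 42 false, .stab 44 false, .stab 44 false, .stab 44 false, .edge 71 [7,5,7,6], .coin 72, .lett 1, .lett 2, .lett 6, .edge 11 [6,1,5,6,7,6,5,3,5,5], .coin 12, .lett 1, .lett 1, .lett 2, .lett 6, .lett 4, .lett 0, .lett 4, .lett 1, .lett 5, .lett 0, .lett 5, .lett 0]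
      (pw 2 (yT 4 ++ yT 6)) tW = true := by
  decide +kernel

theorem prT47 :
    GK.S.okVal GK.facts 108 [.lett 1, .lett 1, .lett 3, .lett 4, .lett 0, .lett 4, .lett 1, .lett 5, .lett 0, .lett 5, .lett 3, .stab 1 false, .stab 1 false, .edge 4 [5,4,5,5,5,5,5,6], .lett 1, .lett 2, .lett 0, .lett 2, .lett 6, .stab 7 false, .stab 6 false, .stab 5 false, .stab 7 false, .stab 8 false, .stab 6 false, .stab 7 false, .stab 7 false, .stab 8 false, .stab 7 false, .edge 41 [5,5,5,7,6], .lett 1, .lett 6, .lett 4, .lett 0, .lett 4, .lett 1, .lett 5, .lett 0, .lett 5, .lett 1, .lett 3, .lett 4, .lett 0, .lett 4, .lett 1, .lett 5, .lett 0, .lett 5, .lett 3, .lett 0, .stab 44 false, .stab 43 false, .stab 44 false, .edge 71 [5,5,4,5,5,6,5], .coin 72, .lett 1, .lett 6, .lett 3, .stab 7 false, .stab 7 false, .stab 7 false, .stab 6 false, .stab 6 false, .stab 7 false, .stab 7 false, .stab 6 false, .stab 7 false, .edge 41 [5,6,4,5,7,6], .lett 1, .lett 6, .lett 4, .lett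 0, .lett 4, .lett 1, .lett 5, .lett 0, .lett 5, .lett 3, .lett 0, .lett 1, .lett 1, .lett 3, .lett 4, .lett 0, .lett 4, .lett 1, .lett 5, .lett 0, .lett 5, .lett 3, .stab 43 false, .stab 44 false, .stab 44 false, .stab 50 false, .stab 44 false, .edge 64 [1,3,2,6,2,7,5,7], .lett 1, .lett 2, .lett 0, .lett 2, .lett 6, .stab 44 false, .stab 43 false, .stab 43 false, .stab 42 false, .edge 83 [2,3,5,5,2,5,7,6], .coin 84, .lett 1, .lett 6, .lett 4, .lett 0, .lett 4, .lett 1, .lett 5, .lett 0, .lett 5, .lett 1, .lett 3, .lett 4, .lett 0, .lett 4, .lett 1, .lett 5, .lett 0, .lett 5, .lett 3, .lett 0, .stab 42 false, .stab 44 false, .stab 44 false, .stab 44 false, .edge 71 [6,7,5,6,5], .coin 72, .lett 1, .lett 6, .lett 3, .edge 11 [1,2,5,3,7,2,5], .coin 12, .lett 1, .lett 6, .lett 4, .lett 0, .lett 4, .lett 1, .lett 5, .lett 0, .lett 5, .lett 3, .lett 0]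
      (pw 2 (yT 4 ++ yT 7)) tW = true := by
  decide +kernel

theorem prT48 :
    GK.S.okVal GK.facts 108 [.lett 1, .lett 1, .lett 3, .lett 4, .lett 0, .lett 4, .lett 1, .lett 5, .lett 0, .lett 5, .lett 3, .stab 1 false, .stab 1 false, .edge 4 [5,4,5,5,5,5,5,6], .lett 1, .lett 2, .lett 0, .lett 2, .lett 6, .stab 7 false, .stab 6 false, .stab 5 false, .stab 7 false, .stab 8 false, .stab 6 false, .stab 7 false, .stab 7 false, .stab 8 false, .stab 7 false, .edge 41 [5,5,5,7,6], .lett 1, .lett 6, .lett 4, .lett 0, .lett 4, .lett 1, .lett 5, .lett 0, .lett 5, .lett 1, .lett 0, .lett 2, .lett 4, .lett 0, .lett 4, .lett 1, .lett 5, .lett 0, .lett 5, .lett 2, .stab 44 false, .stab 43 false, .stab 44 false, .edge 71 [6,4,5], .coin 72, .lett 1, .lett 6, .lett 3, .stab 8 false, .stab 8 false, .stab 6 false, .stab 7 false, .stab 6 false, .stab 8 false, .stab 7 false, .stab 6 false, .stab 5 false, .stab 7 false, .edge 41 [4,5,5,5,6,7,5], .lett 1, .lett 1, .lett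 3, .lett 6, .lett 4, .lett 0, .lett 4, .lett 1, .lett 5, .lett 0, .lett 5, .lett 1, .lett 1, .lett 3, .lett 4, .lett 0, .lett 4, .lett 1, .lett 5, .lett 0, .lett 5, .lett 3, .stab 50 false, .stab 44 false, .stab 42 false, .stab 44 false, .stab 50 false, .stab 44 false, .edge 64 [1,6,0,3,7,5,3], .lett 1, .lett 2, .lett 0, .lett 2, .lett 6, .stab 44 false, .stab 44 false, .stab 44 false, .stab 50 false, .stab 43 false, .edge 83 [0,2,6,5,4,7,2,6], .coin 84, .lett 1, .lett 6, .lett 4, .lett 0, .lett 4, .lett 1, .lett 5, .lett 0, .lett 5, .lett 1, .lett 0, .lett 2, .lett 4, .lett 0, .lett 4, .lett 1, .lett 5, .lett 0, .lett 5, .lett 2, .stab 42 false, .stab 44 false, .stab 44 false, .stab 44 false, .edge 71 [5,5,6,7,5,6], .coin 72, .lett 1, .lett 6, .lett 3, .edge 11 [6,7,3,6,7,3,5,5], .coin 12, .lett 1, .lett 1, .lett 3, .lett 6, .lett 4, .lett 0, .lett 4, .lett 1, .lett 5, .lett 0, .lett 5]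
      (pw 2 (yT 4 ++ yT 8)) tW = true := by
  decide +kernel


end CfsgLib.KnownB.LyCent
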