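import Cfsg.Agent.Lib.KnownB.LyCent.RunData

/-!
Evaluations through the enumeration.
-/

set_option autoImplicit false
set_option maxRecDepth 100000
set_option Elab.async false

namespace CfsgLib.KnownB.LyCent

open CfsgLib.PresCert CfsgLib.DCE
open CfsgLib.Spor.Ly

theorem prT56 :
    GK.S.okVal GK.facts 108 [.lett 3, .lett 3, .lett 1, .stab 1 false, .stab 1 false, .edge 4 [7,5,7], .lett 1, .lett 2, .lett 2, .lett 3, .lett 4, .lett 0, .lett 4, .lett 1, .lett 5, .lett 0, .lett 5, .lett 3, .edge 11 [5,4,5,6], .coin 12, .lett 1, .lett 2, .lett 6, .stab 3 false, .stab 2 false, .stab 0 false, .stab 0 false, .stab 0 false, .stab 2 false, .stab 1 false, .stab 2 false, .stab 3 false, .edge 4 [5,5,5,3,7,6,5], .lett 1, .lett 1, .lett 2, .lett 6, .lett 4, .lett 0, .lett 4, .lett 1, .lett 5, .lett 0, .lett 5, .lett 0, .lett 3, .lett 3, .lett 1, .stab 6 false, .stab 6 false, .stab 7 false, .stab 7 false, .stab 8 false, .stab 7 false, .stab 6 false,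 .stab 7 false, .stab 8 false, .stab 6 false, .stab 7 false, .edge 41 [7,4,6,5], .lett 1, .lett 2, .lett 2, .lett 3, .lett 4, .lett 0, .lett 4, .lett 1, .lett 5, .lett 0, .lett 5, .lett 3, .edge 71 [7,6,5], .coin 72, .lett 1, .lett 2, .lett 6, .stab 6 false, .stab 6 false, .stab 6 false, .edge 10 [1,2,3,7,4,5,2], .lett 1, .lett 1, .lett 2, .lett 6, .lett 4, .lett 0, .lett 4, .lett 1, .lett 5, .lett 0, .lett 5, .lett 0, .lett 3, .lett 3, .lett 1, .stab 7 false, .stab 7 false, .stab 8 false, .stab 6 false, .stab 6 false, .stab 5 false, .stab 7 false, .stab 6 false, .edge 41 [5,4,5,5,5,6,7,6], .lett 1, .lett 2, .lett 2, .lett 3, .lett 4, .lett 0, .lett 4, .lett 1, .lett 5, .lett 0, .lett 5, .lett 3, .edge 71 [5,6,7], .coin 72, .lett 1, .lett 2, .lett 6, .edge 11 [2,4,7,5,6,1,7,5], .coin 12, .lett 1, .lett 1, .lett 2, .lett 6, .lett 4, .lett 0, .lett 4, .lett 1, .lett 5, .lett 0, .lett 5, .lett 0]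
      (pw 3 (yT 5 ++ yT 6)) tW = true := by
  decide +kernel

theorem prT57 :
    GK.S.okVal GK.facts 108 [.lett 3, .lett 3, .lett 1, .stab 1 false, .stab 1 false, .edge 4 [7,5,7], .lett 1, .lett 2, .lett 2, .lett 3, .lett 4, .lett 0, .lett 4, .lett 1, .lett 5, .lett 0, .lett 5, .lett 3, .lett 0, .edge 11 [5,4,5,6,5], .coin 12, .lett 1, .lett 6, .lett 3, .stab 0 false, .stab 2 false, .stab 2 false, .stab 3 false, .stab 1 false, .stab 2 false, .stab 3 false, .stab 0 false, .stab 2 false, .stab 3 false, .edge 4 [7,6,2,0,5,2,7], .lett 1, .lett 6, .lett 4, .lett 0, .lett 4, .lett 1, .lett 5, .lett 0, .lett 5, .lett 3, .lett 0, .lett 3, .lett 3, .lett 1, .stab 5 false, .stab 7 false, .stab 6 false, .stab 6 false, .stab 5 false, .stab 7 false, .stab 8 false, .stab 7 false, .stab 6 false, .stab 6 false, .stab 6 false, .edge 41 [5,5,4,5,6,5,7,6,5], .lett 1, .lett 2, .lett 2, .lett 3, .lett 4, .lett 0, .lett 4, .lett 1, .lett 5, .lett 0, .lett 5,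 .lett 3, .lett 0, .edge 71 [5,5,6,7,6], .coin 72, .lett 1, .lett 6, .lett 3, .edge 11 [6,7,3,6,7,3,6,7,6], .coin 12, .lett 1, .lett 6, .lett 4, .lett 0, .lett 4, .lett 1, .lett 5, .lett 0, .lett 5, .lett 3, .lett 0]
      (pw 2 (yT 5 ++ yT 7)) tW = true := by
  decide +kernel

theorem prT58 :
    GK.S.okVal GK.facts 108 [.lett 3, .lett 3, .lett 1, .stab 1 false, .stab 1 false, .edge 4 [7,5,7], .lett 1, .lett 2, .lett 2, .lett 0, .lett 2, .lett 4, .lett 0, .lett 4, .lett 1, .lett 5, .lett 0, .lett 5, .lett 2, .edge 11 [6,7,4,5,7], .coin 12, .lett 1, .lett 6, .lett 3, .stab 1 false, .stab 1 false, .stab 2 false, .stab 1 false, .stab 2 false, .stab 2 false, .stab 3 false, .stab 1 false, .stab 1 false, .stab 1 false, .edge 4 [7,2,2,5,3,7,6,5], .lett 1, .lett 1, .lett 3, .lett 6, .lett 4, .lett 0, .lett 4, .lett 1, .lett 5, .lett 0, .lett 5, .lett 3, .lett 3, .lett 1, .stab 6 false, .stab 8 false, .stab 7 false, .stab 6 false, .stab 7 false,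 .stab 6 false, .stab 6 false, .stab 8 false, .stab 6 false, .stab 7 false, .edge 41 [5,5,5,4,6,7,5,6,5], .lett 1, .lett 2, .lett 2, .lett 0, .lett 2, .lett 4, .lett 0, .lett 4, .lett 1, .lett 5, .lett 0, .lett 5, .lett 2, .edge 71 [5,5,6,7,6], .coin 72, .lett 1, .lett 6, .lett 3, .edge 11 [6,7,3,6,7,3,6,7,6], .coin 12, .lett 1, .lett 1, .lett 3, .lett 6, .lett 4, .lett 0, .lett 4, .lett 1, .lett 5, .lett 0, .lett 5]
      (pw 2 (yT 5 ++ yT 8)) tW = true := by
  decide +kernel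


end CfsgLib.KnownB.LyCent
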