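import Cfsg.Agent.Lib.KnownB.LyCent.RunData

/-!
Evaluations through the enumeration.
-/

set_option autoImplicit false
set_option maxRecDepth 100000
set_option Elab.async false

namespace CfsgLib.KnownB.LyCent

open CfsgLib.PresCert CfsgLib.DCE
open CfsgLib.Spor.Ly

theorem prT78 :
    GK.S.okVal GK.facts 108 [.lett 3, .lett 4, .lett 0, .lett 4, .lett 1, .lett 5, .lett 0, .lett 5, .lett 3, .lett 0, .stab 1 false, .stab 1 false, .edge 4 [4,4,6,5], .lett 1, .lett 6, .lett 3, .stab 7 false, .stab 8 false, .stab 7 false, .stab 8 false, .stab 7 false, .stab 7 false, .stab 8 false, .stab 7 false, .stab 7 false, .edge 41 [7,6], .lett 1, .lett 6, .lett 4, .lett 0, .lett 4, .lett 1, .lett 5, .lett 0, .lett 5, .lett 3, .lett 0, .lett 0, .lett 2, .lett 4, .lett 0, .lett 4, .lett 1, .lett 5, .lett 0, .lett 5, .lett 2, .stab 44 false, .stab 43 false, .stab 44 false, .edge 71 [5,5,6,4,5,7,6,5], .coin 72, .lett 1, .lett 6, .lett 3, .stab 6 false, .stab 8 false, .stab 5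 false, .stab 7 false, .stab 8 false, .stab 7 false, .stab 7 false, .edge 13 [5,5,5,4,5,6,5], .lett 1, .lett 1, .lett 3, .lett 6, .lett 4, .lett 0, .lett 4, .lett 1, .lett 5, .lett 0, .lett 5, .lett 3, .lett 4, .lett 0, .lett 4, .lett 1, .lett 5, .lett 0, .lett 5, .lett 3, .lett 0, .stab 17 false, .stab 16 false, .stab 15 false, .stab 14 false, .stab 17 false, .stab 17 false, .stab 15 false, .stab 14 false, .edge 32 [0,3,0,6,1,5,7], .lett 1, .lett 6, .lett 3, .stab 24 false, .stab 24 false, .stab 29 false, .stab 25 false, .stab 25 false, .stab 24 false, .edge 75 [0,5,5,2,6,5,0,6], .coin 76, .lett 1, .lett 6, .lett 4, .lett 0, .lett 4, .lett 1, .lett 5, .lett 0, .lett 5, .lett 3, .lett 0, .lett 0, .lett 2, .lett 4, .lett 0, .lett 4, .lett 1, .lett 5, .lett 0, .lett 5, .lett 2, .stab 17 false, .edge 23 [4,5,7,6], .lett 1, .lett 6, .lett 3, .stab 24 false, .stab 24 false, .stab 29 false, .edge 37 [4,4,7,6], .coin 38, .lett 1, .lett 1, .lett 3, .lett 6, .lett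 4, .lett 0, .lett 4, .lett 1, .lett 5, .lett 0, .lett 5, .lett 3, .lett 4, .lett 0, .lett 4, .lett 1, .lett 5, .lett 0, .lett 5, .lett 3, .lett 0, .stab 17 false, .stab 15 false, .stab 15 false, .stab 15 false, .stab 17 false, .stab 14 false, .edge 32 [2,7,6,5,3,7,1,5], .lett 1, .lett 6, .lett 3, .stab 26 false, .stab 25 false, .stab 29 false, .edge 69 [1,7,1,5,7,2,2,6], .lett 1, .lett 6, .lett 4, .lett 0, .lett 4, .lett 1, .lett 5, .lett 0, .lett 5, .lett 3, .lett 0, .lett 0, .lett 2, .lett 4, .lett 0, .lett 4, .lett 1, .lett 5, .lett 0, .lett 5, .lett 2, .stab 50 false, .stab 43 false, .stab 44 false, .edge 71 [6,5,7,6], .coin 72, .lett 1, .lett 6, .lett 3, .edge 11 [6,7,3,6,7,3], .coin 12, .lett 1, .lett 1, .lett 3, .lett 6, .lett 4, .lett 0, .lett 4, .lett 1, .lett 5, .lett 0, .lett 5]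
      (pw 3 (yT 7 ++ yT 8)) [] = true := by
  decide +kernel


end CfsgLib.KnownB.LyCent
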