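import Cfsg.Agent.Lib.KnownB.LyCent.RunData

/-!
Evaluations through the enumeration.
-/

set_option autoImplicit false
set_option maxRecDepth 100000
set_option Elab.async false

namespace CfsgLib.KnownB.LyCent

open CfsgLib.PresCert CfsgLib.DCE
open CfsgLib.Spor.Ly

theorem sqT0 :
    GK.S.okVal GK.facts 108 [.lett 3, .lett 3, .stab 1 false, .stab 1 false, .edge 4 [], .lett 1, .lett 6, .edge 13 [5], .lett 1, .lett 2, .lett 2, .lett 6, .lett 3, .lett 3, .edge 23 [], .lett 1, .lett 6, .stab 29 false, .stab 26 false, .stab 29 false, .edge 37 [], .coin 38, .lett 1, .lett 2, .lett 2, .lett 6, .lett 3, .lett 3, .stab 16 false, .stab 15 false, .stab 17 false, .stab 17 false, .stab 16 false, .stab 17 false, .edge 19 [5,5,5,6,5,7], .coin 20, .lett 1, .lett 6, .edge 11 [0,0,6,1,2,7,5,7], .coin 12, .lett 1, .lett 2, .lett 2, .lett 6]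
      (pw 3 (yT 0)) tW = true := by
  decide +kernel

theorem comT0 :
    GK.S.okVal GK.facts 108 [.lett 3, .lett 3, .stab 1 false, .stab 1 false, .edge 4 [], .lett 1, .lett 6, .edge 13 [5], .lett 1, .lett 2, .lett 2, .lett 6, .lett 0, .lett 0, .lett 0, .lett 0, .lett 7, .lett 3, .lett 3, .lett 0, .edge 19 [5], .coin 20, .lett 7, .lett 0, .edge 11 [1,7,1,2,6,5,7,5], .coin 12, .lett 2, .lett 2]
      (yT 0 ++ tW ++ GK.S.invAll (yT 0)) tW = true := by
  decide +kernel

theorem sqT1 :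
    GK.S.okVal GK.facts 108 [.lett 3, .lett 3, .lett 4, .lett 0, .lett 4, .lett 1, .lett 5, .lett 0, .lett 5, .lett 6, .stab 1 false, .stab 2 false, .stab 0 false, .stab 3 false, .stab 1 false, .stab 0 false, .stab 2 false, .stab 0 false, .stab 1 false, .stab 2 false, .stab 3 false, .edge 4 [4,6,7,0,0,0], .lett 1, .lett 6, .lett 0, .stab 7 false, .stab 7 false, .stab 7 false, .stab 6 false, .stab 7 false, .stab 8 false, .stab 6 false, .stab 5 false, .stab 7 false, .edge 13 [7,5,7], .lett 1, .lett 2, .lett 2, .lett 6, .lett 4, .lett 0, .lett 4, .lett 1, .lett 5, .lett 0, .lett 5, .lett 0, .lett 3, .lett 3, .lett 4, .lett 0, .lett 4, .lett 1, .lett 5, .lett 0, .lett 5, .lett 6, .edge 19 [7,5,7], .coin 20, .lett 1, .lett 6, .lett 0, .edge 11 [1,7,1,2,6,7,5], .coin 12, .lett 1, .lett 2, .lett 2, .lett 6, .lett 4, .lett 0, .lett 4, .lett 1, .lett 5, .lett 0, .lett 5, .lett 0]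
      (pw 2 (yT 1)) tW = true := by
  decide +kernel

theorem comT1 :
    GK.S.okVal GK.facts 108 [.lett 3, .lett 3, .lett 4, .lett 0, .lett 4, .lett 1, .lett 5, .lett 0, .lett 5, .lett 6, .stab 1 false, .stab 2 false, .stab 0 false, .stab 3 false, .stab 1 false, .stab 0 false, .stab 2 false, .stab 0 false, .stab 1 false, .stab 2 false, .stab 3 false, .edge 4 [4,6,7,0,0,0], .lett 1, .lett 6, .lett 0, .stab 7 false, .stab 7 false, .stab 7 false, .stab 6 false, .stab 7 false, .stab 8 false, .stab 6 false, .stab 5 false, .stab 7 false, .edge 13 [7,5,7], .lett 1, .lett 2, .lett 2, .lett 6, .lett 4, .lett 0, .lett 4, .lett 1, .lett 5, .lett 0, .lett 5, .lett 0, .lett 0, .lett 0, .lett 0, .lett 0, .lett 1, .lett 4, .lett 1, .lett 4, .lett 0, .lett 5, .lett 1, .lett 5, .lett 7, .lett 3, .lett 3, .lett 0, .edge 19 [7,5,7], .coin 20, .lett 1, .lett 7, .lett 0, .edge 11 [1,7,1,2,6,5,7], .coin 12, .lett 7, .lett 4, .lett 1, .lett 4, .lett 0, .lett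 5, .lett 1, .lett 5, .lett 2, .lett 2]
      (yT 1 ++ tW ++ GK.S.invAll (yT 1)) tW = true := by
  decide +kernel

theorem sqT2 :
    GK.S.okVal GK.facts 108 [.lett 2, .lett 1, .lett 2, .lett 4, .lett 0, .lett 4, .lett 1, .lett 5, .lett 0, .lett 5, .lett 0, .stab 1 false, .stab 1 false, .edge 4 [5,5,4,7,6,5], .lett 1, .lett 6, .lett 3, .stab 8 false, .stab 7 false, .stab 8 false, .stab 6 false, .stab 7 false, .stab 8 false, .stab 7 false, .stab 8 false, .stab 7 false, .stab 7 false, .edge 41 [5,5,5,5,6], .lett 1, .lett 6, .lett 4, .lett 0, .lett 4, .lett 1, .lett 5, .lett 0, .lett 5, .lett 3, .stab 50 false, .stab 44 false, .stab 43 false, .stab 44 false, .edge 48 [5,4,7,5], .lett 1, .edge 48 [5,4,5,6,7], .lett 1, .lett 2, .lett 1, .lett 2, .lett 4, .lett 0, .lett 4, .lett 1, .lett 5, .lett 0, .lett 5, .lett 0, .edge 71 [5,5,6,5,7,6], .coin 72, .lett 1, .lett 6, .lett 3, .edge 11 [3,2,2,7,6,1], .coin 12, .lett 1, .lett 6, .lett 4, .lett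 0, .lett 4, .lett 1, .lett 5, .lett 0, .lett 5, .lett 3, .stab 1 false, .stab 0 false, .stab 3 false, .stab 1 false, .stab 1 false, .stab 0 false, .stab 1 false, .stab 2 false, .stab 3 false, .edge 4 [1,5,6,7,0,5,7,2], .lett 1, .edge 11 [5,3,3,6,1,5,6], .coin 12, .lett 1]
      (pw 2 (yT 2)) tW = true := by
  decide +kernel

theorem comT2 :
    GK.S.okVal GK.facts 108 [.lett 2, .lett 1, .lett 2, .lett 4, .lett 0, .lett 4, .lett 1, .lett 5, .lett 0, .lett 5, .lett 0, .stab 1 false, .stab 1 false, .edge 4 [5,5,4,7,6,5], .lett 1, .lett 6, .lett 3, .stab 8 false, .stab 7 false, .stab 8 false, .stab 6 false, .stab 7 false, .stab 8 false, .stab 7 false, .stab 8 false, .stab 7 false, .stab 7 false, .edge 41 [5,5,5,5,6], .lett 1, .lett 6, .lett 4, .lett 0, .lett 4, .lett 1, .lett 5, .lett 0, .lett 5, .lett 3, .stab 50 false, .stab 44 false, .stab 43 false, .stab 44 false, .edge 48 [5,4,7,5], .lett 1, .edge 48 [5,4,5,6,7], .lett 1, .lett 0,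 .lett 0, .lett 0, .lett 0, .lett 0, .edge 48 [7,4,5], .lett 0, .edge 48 [5,4,5,6,7,5], .lett 2, .lett 4, .lett 1, .lett 4, .lett 0, .lett 5, .lett 1, .lett 5, .lett 7, .lett 0, .stab 44 false, .stab 43 false, .stab 44 false, .edge 71 [5,5,7], .coin 72, .lett 2, .lett 7, .lett 0, .edge 11 [2,4,6,1,5,6,5,7], .coin 12, .lett 1, .lett 4, .lett 1, .lett 4, .lett 0, .lett 5, .lett 1, .lett 5, .lett 3, .lett 0, .lett 3]
      (yT 2 ++ tW ++ GK.S.invAll (yT 2)) tW = true := by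
  decide +kernel

theorem sqT3 :
    GK.S.okVal GK.facts 108 [.lett 1, .lett 3, .lett 1, .lett 3, .lett 4, .lett 0, .lett 4, .lett 1, .lett 5, .lett 0, .lett 5, .stab 1 false, .stab 1 false, .edge 4 [5,4,5,5,5,7,6,5], .lett 1, .lett 6, .lett 3, .stab 7 false, .stab 8 false, .stab 6 false, .stab 7 false, .stab 8 false, .stab 7 false, .stab 8 false, .stab 7 false, .stab 7 false, .edge 41 [5,5,5,5,6,7], .lett 1, .lett 1, .lett 3, .lett 6, .lett 4, .lett 0, .lett 4, .lett 1, .lett 5, .lett 0, .lett 5, .lett 1, .lett 1, .lett 3, .lett 1, .lett 3, .lett 4, .lett 0, .lett 4, .lett 1, .lett 5, .lett 0, .lett 5, .stab 44 false, .stab 43 false, .stab 44 false, .edge 71 [6,7,6], .coin 72, .lett 1, .lett 6, .lett 3, .edge 11 [2,4,6,1], .coin 12, .lett 1, .lett 1, .lett 3, .lett 6, .lett 4, .lett 0, .lett 4, .lett 1, .lett 5, .lett 0, .lett 5, .lett 1]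
      (pw 2 (yT 3)) tW = true := by
  decide +kernel

theorem comT3 :
    GK.S.okVal GK.facts 108 [.lett 1, .lett 3, .lett 1, .lett 3, .lett 4, .lett 0, .lett 4, .lett 1, .lett 5, .lett 0, .lett 5, .stab 1 false, .stab 1 false, .edge 4 [5,4,5,5,5,7,6,5], .lett 1, .lett 6, .lett 3, .stab 7 false, .stab 8 false, .stab 6 false, .stab 7 false, .stab 8 false, .stab 7 false, .stab 8 false, .stab 7 false, .stab 7 false, .edge 41 [5,5,5,5,6,7], .lett 1, .lett 1, .lett 3, .lett 6, .lett 4, .lett 0, .lett 4, .lett 1, .lett 5, .lett 0, .lett 5, .lett 1, .lett 0, .lett 0, .lett 0, .lett 0, .lett 0, .lett 4, .lett 1, .lett 4, .lett 0, .lett 5, .lett 1, .lett 5, .lett 7, .lett 2, .lett 0, .lett 0, .edge 71 [5,5,5,6,5,7], .coin 72, .lett 2, .lett 7, .lett 0, .edge 11 [2,4,5,6,5,7,5,0,6], .coin 12, .lett 4, .lett 1, .lett 4, .lett 0, .lett 5, .lett 1, .lett 5, .lett 2, .lett 0, .lett 2, .lett 0]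
      (yT 3 ++ tW ++ GK.S.invAll (yT 3)) tW = true := by
  decide +kernel

theorem sqT4 :
    GK.S.okVal GK.facts 108 [.lett 1, .lett 1, .lett 3, .lett 4, .lett 0, .lett 4, .lett 1, .lett 5, .lett 0, .lett 5, .lett 3, .stab 1 false, .stab 1 false, .edge 4 [5,4,5,5,5,5,5,6], .lett 1, .lett 2, .lett 0, .lett 2, .lett 6, .stab 7 false, .stab 6 false, .stab 5 false, .stab 7 false, .stab 8 false, .stab 6 false, .stab 7 false, .stab 7 false, .stab 8 false, .stab 7 false, .edge 41 [5,5,5,7,6], .lett 1, .lett 6, .lett 4, .lett 0, .lett 4, .lett 1, .lett 5, .lett 0, .lett 5, .lett 1, .lett 1, .lett 1, .lett 3, .lett 4, .lett 0, .lett 4, .lett 1, .lett 5, .lett 0, .lett 5, .lett 3, .stab 44 false, .stab 43 false, .stab 44 false, .edge 71 [5,5,6], .coin 72, .lett 1, .lett 2, .lett 0, .lett 2, .lett 6, .edge 11 [0,1,5,7,1,6,1,5], .coin 12, .lett 1, .lett 6, .lett 4, .lett 0, .lett 4, .lett 1, .lett 5, .lett 0, .lett 5, .lett 1]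
      (pw 2 (yT 4)) tW = true := by
  decide +kernel

theorem comT4 :
    GK.S.okVal GK.facts 108 [.lett 1, .lett 1, .lett 3, .lett 4, .lett 0, .lett 4, .lett 1, .lett 5, .lett 0, .lett 5, .lett 3, .stab 1 false, .stab 1 false, .edge 4 [5,4,5,5,5,5,5,6], .lett 1, .lett 2, .lett 0, .lett 2, .lett 6, .stab 7 false, .stab 6 false, .stab 5 false, .stab 7 false, .stab 8 false, .stab 6 false, .stab 7 false, .stab 7 false, .stab 8 false, .stab 7 false, .edge 41 [5,5,5,7,6], .lett 1, .lett 6, .lett 4, .lett 0, .lett 4, .lett 1, .lett 5, .lett 0, .lett 5, .lett 1, .lett 0, .lett 0, .lett 0, .lett 0, .lett 0, .lett 4, .lett 1, .lett 4, .lett 0, .lett 5, .lett 1, .lett 5, .lett 7, .lett 0, .edge 71 [5,5,7,6,5], .coin 72, .lett 7, .lett 3, .lett 1, .lett 3, .lett 0, .edge 11 [2,4,6,1,5,5,5,7,6], .coin 12, .lett 2, .lett 4, .lett 1, .lett 4, .lett 0, .lett 5, .lett 1, .lett 5, .lett 2, .lett 0, .lett 0]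
      (yT 4 ++ tW ++ GK.S.invAll (yT 4)) tW = true := by
  decide +kernel

theorem sqT5 :
    GK.S.okVal GK.facts 108 [.lett 3, .lett 3, .lett 1, .stab 1 false, .stab 1 false, .edge 4 [7,5,7], .lett 1, .lett 2, .lett 2, .lett 3, .lett 3, .lett 1, .edge 11 [5], .coin 12, .lett 1, .lett 2, .lett 2]
      (pw 2 (yT 5)) tW = true := by
  decide +kernel

theorem comT5 :
    GK.S.okVal GK.facts 108 [.lett 3, .lett 3, .lett 1, .stab 1 false, .stab 1 false, .edge 4 [7,5,7], .lett 1, .lett 2, .lett 2, .lett 0, .lett 0, .lett 0, .lett 0, .lett 3, .lett 3, .lett 0, .edge 11 [7,5,7], .coin 12, .lett 0, .lett 2, .lett 2]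
      (yT 5 ++ tW ++ GK.S.invAll (yT 5)) tW = true := by
  decide +kernel

theorem sqT6 :
    GK.S.okVal GK.facts 108 [.lett 3, .lett 4, .lett 0, .lett 4, .lett 1, .lett 5, .lett 0, .lett 5, .lett 3, .stab 1 false, .stab 1 false, .edge 4 [4,4,6], .lett 1, .lett 2, .lett 6, .stab 7 false, .stab 8 false, .stab 7 false, .stab 6 false, .stab 8 false, .stab 7 false, .stab 6 false, .stab 5 false, .stab 7 false, .stab 7 false, .edge 41 [5,6,5,7], .lett 1, .lett 1, .lett 2, .lett 6, .lett 4, .lett 0, .lett 4, .lett 1, .lett 5, .lett 0, .lett 5, .lett 0, .lett 3, .lett 4, .lett 0, .lett 4, .lett 1, .lett 5, .lett 0, .lett 5, .lett 3, .stab 44 false, .stab 43 false, .stab 44 false, .edge 71 [5,5,5,5,5], .coin 72, .lett 1, .lett 2, .lett 6, .edge 11 [5,6,7,6,2,6,5,2,6], .coin 12, .lett 1, .lett 1, .lett 2, .lett 6, .lett 4, .lett 0, .lett 4, .lett 1, .lett 5, .lett 0, .lett 5, .lett 0]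
      (pw 2 (yT 6)) tW = true := by
  decide +kernel

theorem comT6 :
    GK.S.okVal GK.facts 108 [.lett 3, .lett 4, .lett 0, .lett 4, .lett 1, .lett 5, .lett 0, .lett 5, .lett 3, .stab 1 false, .stab 1 false, .edge 4 [4,4,6], .lett 1, .lett 2, .lett 6, .stab 7 false, .stab 8 false, .stab 7 false, .stab 6 false, .stab 8 false, .stab 7 false, .stab 6 false, .stab 5 false, .stab 7 false, .stab 7 false, .edge 41 [5,6,5,7], .lett 1, .lett 1, .lett 2, .lett 6, .lett 4, .lett 0, .lett 4, .lett 1, .lett 5, .lett 0, .lett 5, .lett 0, .lett 0, .lett 0, .lett 0, .lett 0, .lett 1, .lett 4, .lett 1, .lett 4, .lett 0, .lett 5, .lett 1, .lett 5, .lett 7, .lett 3, .lett 0, .lett 0, .edge 71 [5,5,6,7], .coin 72, .lett 7, .lett 3, .lett 0, .edge 11 [0,7,6,5,3,0,3,7], .coin 12, .lett 2, .lett 4, .lett 1, .lett 4, .lett 0, .lett 5, .lett 1, .lett 5, .lett 2]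
      (yT 6 ++ tW ++ GK.S.invAll (yT 6)) tW = true := by
  decide +kernel

theorem sqT7 :
    GK.S.okVal GK.facts 108 [.lett 3, .lett 4, .lett 0, .lett 4, .lett 1, .lett 5, .lett 0, .lett 5, .lett 3, .lett 0, .stab 1 false, .stab 1 false, .edge 4 [4,4,6,5], .lett 1, .lett 6, .lett 3, .stab 7 false, .stab 8 false, .stab 7 false, .stab 8 false, .stab 7 false, .stab 7 false, .stab 8 false, .stab 7 false, .stab 7 false, .edge 41 [7,6], .lett 1, .lett 6, .lett 4, .lett 0, .lett 4, .lett 1, .lett 5, .lett 0, .lett 5, .lett 3, .lett 0, .lett 3, .lett 4, .lett 0, .lett 4, .lett 1, .lett 5, .lett 0, .lett 5, .lett 3, .lett 0, .stab 44 false, .stab 43 false, .stab 44 false, .edge 71 [5,5,6,7,5,6,5], .coin 72, .lett 1, .lett 6, .lett 3, .edge 11 [6,7,3,6,7,3,6], .coin 12, .lett 1, .lett 6, .lett 4, .lett 0, .lett 4, .lett 1, .lett 5, .lett 0, .lett 5, .lett 3, .lett 0]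
      (pw 2 (yT 7)) tW = true := by
  decide +kernel

theorem comT7 :
    GK.S.okVal GK.facts 108 [.lett 3, .lett 4, .lett 0, .lett 4, .lett 1, .lett 5, .lett 0, .lett 5, .lett 3, .lett 0, .stab 1 false, .stab 1 false, .edge 4 [4,4,6,5], .lett 1, .lett 6, .lett 3, .stab 7 false, .stab 8 false, .stab 7 false, .stab 8 false, .stab 7 false, .stab 7 false, .stab 8 false, .stab 7 false, .stab 7 false, .edge 41 [7,6], .lett 1, .lett 6, .lett 4, .lett 0, .lett 4, .lett 1, .lett 5, .lett 0, .lett 5, .lett 3, .lett 0, .lett 0, .lett 0, .lett 0, .lett 0, .lett 1, .lett 2, .lett 4, .lett 1, .lett 4, .lett 0, .lett 5, .lett 1, .lett 5, .lett 7, .lett 0, .edge 71 [5,5,5,7,6,5], .coin 72, .lett 2, .lett 7, .lett 0, .edge 11 [5,6,7,6,2,6,5,2], .coin 12, .lett 1, .lett 2, .lett 4, .lett 1, .lett 4, .lett 0, .lett 5, .lett 1, .lett 5, .lett 2]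
      (yT 7 ++ tW ++ GK.S.invAll (yT 7)) tW = true := by
  decide +kernel

theorem sqT8 :
    GK.S.okVal GK.facts 108 [.lett 0, .lett 2, .lett 4, .lett 0, .lett 4, .lett 1, .lett 5, .lett 0, .lett 5, .lett 2, .stab 1 false, .stab 1 false, .edge 4 [4,5,5,5,5,6,5], .lett 1, .lett 6, .lett 3, .stab 8 false, .stab 7 false, .stab 8 false, .stab 7 false, .stab 8 false, .stab 7 false, .stab 7 false, .stab 8 false, .stab 7 false, .stab 7 false, .edge 41 [5,5,5,5,6,7,6], .lett 1, .lett 1, .lett 3, .lett 6, .lett 4, .lett 0, .lett 4, .lett 1, .lett 5, .lett 0, .lett 5, .lett 0, .lett 2, .lett 4, .lett 0, .lett 4, .lett 1, .lett 5, .lett 0, .lett 5, .lett 2, .stab 44 false, .stab 43 false, .stab 44 false, .edge 71 [5,5,7,6,5,7], .coin 72, .lett 1, .lett 6, .lett 3, .edge 11 [2,4,6,1,6], .coin 12, .lett 1, .lett 1, .lett 3, .lett 6, .lett 4, .lett 0, .lett 4, .lett 1, .lett 5, .lett 0, .lett 5]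
      (pw 2 (yT 8)) tW = true := by
  decide +kernel

theorem comT8 :
    GK.S.okVal GK.facts 108 [.lett 0, .lett 2, .lett 4, .lett 0, .lett 4, .lett 1, .lett 5, .lett 0, .lett 5, .lett 2, .stab 1 false, .stab 1 false, .edge 4 [4,5,5,5,5,6,5], .lett 1, .lett 6, .lett 3, .stab 8 false, .stab 7 false, .stab 8 false, .stab 7 false, .stab 8 false, .stab 7 false, .stab 7 false, .stab 8 false, .stab 7 false, .stab 7 false, .edge 41 [5,5,5,5,6,7,6], .lett 1, .lett 1, .lett 3, .lett 6, .lett 4, .lett 0, .lett 4, .lett 1, .lett 5, .lett 0, .lett 5, .lett 0, .lett 0, .lett 0, .lett 0, .lett 4, .lett 1, .lett 4, .lett 0, .lett 5, .lett 1, .lett 5, .lett 7, .lett 2, .lett 0, .lett 0, .edge 71 [5,5,5,6,7,6,5], .coin 72, .lett 2, .lett 7, .lett 0, .edge 11 [2,4,7,5,6,1,5,7], .coin 12, .lett 3, .lett 4, .lett 1, .lett 4, .lett 0, .lett 5, .lett 1, .lett 5, .lett 3, .lett 1]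
      (yT 8 ++ tW ++ GK.S.invAll (yT 8)) tW = true := by
  decide +kernel

theorem endT0 :
    okEnd GK.S GK.facts 108 [.lett 3, .lett 3, .stab 1 false, .stab 1 false, .edge 4 [], .lett 1, .lett 6, .edge 13 [5], .lett 1, .lett 2, .lett 2, .lett 6]
      (yT 0) 3 [1,1,1,1,2,2,6] = true := by
  decide +kernel


end CfsgLib.KnownB.LyCent
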