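import Cfsg.Agent.Lib.KnownB.LyCent.RunData

/-!
Evaluations through the enumeration.
-/

set_option autoImplicit false
set_option maxRecDepth 100000
set_option Elab.async false

namespace CfsgLib.KnownB.LyCent

open CfsgLib.PresCert CfsgLib.DCE
open CfsgLib.Spor.Ly

theorem powXv0 :
    GK.S.okVal GK.facts 108 [.lett 1, .lett 1, .lett 4, .lett 3, .lett 4, .lett 2, .lett 0, .edge 4 [3,7,3,5,7], .lett 6, .lett 3, .lett 5, .lett 2, .lett 5, .lett 1, .lett 1, .lett 4, .lett 3, .lett 4, .lett 2, .lett 0, .stab 8 false, .stab 7 false, .stab 8 false, .stab 7 false, .stab 6 false, .stab 5 false, .stab 7 false, .stab 7 false, .edge 13 [0,1,1,6,5,7,1], .lett 6, .lett 3, .lett 5, .lett 2, .lett 5, .lett 1, .lett 1, .lett 4, .lett 3, .lett 4, .lett 2, .lett 0, .stab 15 false, .stab 17 false, .stab 17 false, .stab 16 false, .stab 15 false, .stab 17 false, .edge 85 [5,7,6,1,5,7,5,3], .coin 86, .lett 6, .lett 3, .lett 5, .lett 2, .lett 5, .lett 1, .lett 1, .lett 4,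 .lett 3, .lett 4, .lett 2, .lett 0, .stab 29 false, .stab 29 false, .stab 24 false, .stab 26 false, .stab 25 false, .edge 69 [1,7,6,1,5,5,3,7,5], .lett 6, .lett 3, .lett 5, .lett 2, .lett 5, .lett 1, .lett 1, .lett 4, .lett 3, .lett 4, .lett 2, .lett 0, .stab 50 false, .stab 44 false, .stab 43 false, .stab 42 false, .edge 77 [1,7,5,0,6,1,5,6,5], .coin 78, .lett 6, .lett 3, .lett 5, .lett 2, .lett 5, .lett 1, .lett 1, .lett 4, .lett 3, .lett 4, .lett 2, .lett 0, .stab 24 false, .stab 24 false, .stab 26 false, .stab 25 false, .edge 35 [0,2,5,7,5,6,5,0], .lett 6, .lett 3, .lett 5, .lett 2, .lett 5, .lett 1, .lett 1, .lett 4, .lett 3, .lett 4, .lett 2, .lett 0, .stab 25 false, .stab 29 false, .stab 29 false, .stab 24 false, .stab 26 false, .stab 24 false, .edge 69 [7,6,2,6,2,6,7,5], .lett 6, .lett 3, .lett 5, .lett 2, .lett 5, .lett 1, .lett 1, .lett 4, .lett 3, .lett 4, .lett 2, .lett 0, .stab 50 false, .stab 44 false, .stab 42 false, .stab 44 false, .stab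 42 false, .edge 77 [3,3,7,3,6], .coin 78, .lett 6, .lett 3, .lett 5, .lett 2, .lett 5, .lett 1, .lett 1, .lett 4, .lett 3, .lett 4, .lett 2, .lett 0, .stab 25 false, .stab 24 false, .stab 26 false, .stab 29 false, .stab 24 false, .edge 28 [6,3,7,1,6,7,3], .lett 6, .lett 3, .lett 5, .lett 2, .lett 5, .lett 1, .lett 1, .lett 4, .lett 3, .lett 4, .lett 2, .lett 0, .stab 15 false, .stab 15 false, .stab 17 false, .stab 17 false, .edge 19 [5,5], .coin 20, .lett 6, .lett 3, .lett 5, .lett 2, .lett 5, .lett 1, .lett 1, .lett 4, .lett 3, .lett 4, .lett 2, .lett 0, .edge 11 [5,5,3,2,7,0,6,5,7], .coin 12, .lett 6, .lett 3, .lett 5, .lett 2, .lett 5]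
      (pw 11 (vX 0)) (xW ++ xW) = true := by
  decide +kernel

theorem powXu0 :
    GK.S.okVal GK.facts 108 [.lett 0, .lett 0, .lett 4, .lett 3, .lett 4, .lett 2, .lett 7, .stab 0 false, .stab 0 false, .stab 2 false, .stab 1 false, .stab 2 false, .stab 3 false, .stab 0 false, .stab 1 false, .stab 1 false, .stab 1 false, .edge 4 [5,7,5,6,5], .lett 1, .lett 3, .lett 5, .lett 2, .lett 5, .lett 0, .lett 0, .lett 0, .lett 0, .lett 4, .lett 3, .lett 4, .lett 2, .lett 7, .stab 8 false, .stab 7 false, .stab 7 false, .stab 8 false, .stab 7 false, .stab 6 false, .stab 7 false, .stab 7 false, .stab 6 false, .stab 5 false, .stab 7 false, .edge 13 [6,5,7,5], .lett 1, .lett 3, .lett 5, .lett 2, .lett 5, .lett 0, .lett 0, .lett 0, .lett 0, .lett 4, .lett 3, .lett 4, .lett 2, .lett 7, .stab 15 false, .stab 17 false, .stab 16 false, .stab 17 false, .stab 15 false, .edge 21 [0,5,0,5,7,6,5], .lett 1, .lett 3, .lett 5, .lett 2, .lett 5, .lett 0, .lett 0, .lett 0, .lett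 0, .lett 4, .lett 3, .lett 4, .lett 2, .lett 7, .stab 16 false, .stab 17 false, .stab 16 false, .stab 14 false, .stab 17 false, .stab 15 false, .stab 14 false, .edge 85 [5,6,7,0,3,2], .coin 86, .lett 1, .lett 3, .lett 5, .lett 2, .lett 5, .lett 0, .lett 0, .lett 0, .lett 0, .lett 4, .lett 3, .lett 4, .lett 2, .lett 7, .stab 25 false, .stab 25 false, .stab 29 false, .stab 25 false, .stab 25 false, .edge 75 [3,0,0,7,6,3], .coin 76, .lett 1, .lett 3, .lett 5, .lett 2, .lett 5, .lett 0, .lett 0, .lett 0, .lett 0, .lett 4, .lett 3, .lett 4, .lett 2, .lett 7, .stab 16 false, .stab 16 false, .edge 22 [2,5,5,7,0,7], .lett 1, .lett 3, .lett 5, .lett 2, .lett 5, .lett 0, .lett 0, .lett 0, .lett 0, .lett 4, .lett 3, .lett 4, .lett 2, .lett 7, .stab 17 false, .stab 16 false, .stab 17 false, .stab 16 false, .stab 17 false, .stab 17 false, .stab 15 false, .edge 85 [5,7,0,4,5,5,6,7], .coin 86, .lett 1, .lett 3, .lett 5, .lett 2, .lett 5, .lett 0, .lett 0, .lett 0,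 .lett 0, .lett 4, .lett 3, .lett 4, .lett 2, .lett 7, .stab 26 false, .stab 24 false, .stab 29 false, .edge 37 [1,7,1,2,5,6,5,7,6], .coin 38, .lett 1, .lett 3, .lett 5, .lett 2, .lett 5, .lett 0, .lett 0, .lett 0, .lett 0, .lett 4, .lett 3, .lett 4, .lett 2, .lett 7, .stab 16 false, .stab 17 false, .stab 16 false, .edge 22 [3,5,7,6,5,7,1,6], .lett 1, .lett 3, .lett 5, .lett 2, .lett 5, .lett 0, .lett 0, .lett 0, .lett 0, .lett 4, .lett 3, .lett 4, .lett 2, .lett 7, .stab 16 false, .stab 17 false, .edge 19 [0,0,7,6,2,5,6,5,7], .coin 20, .lett 1, .lett 3, .lett 5, .lett 2, .lett 5, .lett 0, .lett 0, .lett 0, .lett 0, .lett 4, .lett 3, .lett 4, .lett 2, .lett 7, .edge 11 [1,7,1,2,5,7,5], .coin 12, .lett 1, .lett 3, .lett 5, .lett 2, .lett 5, .lett 0, .lett 0]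
      (pw 11 (gX 0 ++ GK.S.invAll (vX 0))) (xW ++ xW) = true := by
  decide +kernel

theorem powXv1 :
    GK.S.okVal GK.facts 108 [.lett 6, .stab 3 false, .edge 4 [5,5,5,5], .lett 1, .lett 4, .lett 3, .lett 4, .lett 2, .lett 7, .lett 4, .lett 3, .lett 4, .lett 2, .lett 6, .stab 6 false, .stab 7 false, .stab 7 false, .stab 7 false, .stab 6 false, .stab 6 false, .stab 7 false, .stab 8 false, .stab 5 false, .stab 7 false, .stab 6 false, .edge 41 [1,7,2,1,7,5,6,7], .lett 1, .lett 4, .lett 3, .lett 4, .lett 2, .lett 7, .lett 4, .lett 3, .lett 4, .lett 2, .lett 6, .stab 44 false, .stab 44 false, .stab 50 false, .stab 44 false, .stab 43 false, .edge 77 [1,7,5,6,3,5,2,5], .coin 78, .lett 1, .lett 4, .lett 3, .lett 4, .lett 2, .lett 7, .lett 4, .lett 3, .lett 4, .lett 2, .lett 6, .stab 24 false, .stab 25 false, .stab 29 false, .stab 26 false, .stab 29 false, .stab 25 false, .edge 28 [3,6,3,6,3,7], .lett 1, .lett 4, .lett 3, .lett 4, .lett 2, .lett 7, .lett 4,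 .lett 3, .lett 4, .lett 2, .lett 6, .edge 21 [1,1,2,2,7,5,2], .lett 1, .lett 4, .lett 3, .lett 4, .lett 2, .lett 7, .lett 4, .lett 3, .lett 4, .lett 2, .lett 6, .stab 15 false, .stab 15 false, .stab 15 false, .stab 17 false, .stab 17 false, .stab 16 false, .stab 17 false, .edge 21 [7,2,6,1,0,3], .lett 1, .lett 4, .lett 3, .lett 4, .lett 2, .lett 7, .lett 4, .lett 3, .lett 4, .lett 2, .lett 6, .stab 15 false, .stab 17 false, .stab 15 false, .stab 17 false, .stab 17 false, .stab 15 false, .stab 16 false, .stab 14 false, .edge 21 [0,5,7,6,2,5,5,5,0], .lett 1, .lett 4, .lett 3, .lett 4, .lett 2, .lett 7, .lett 4, .lett 3, .lett 4, .lett 2, .lett 6, .stab 16 false, .stab 16 false, .stab 14 false, .stab 17 false, .stab 17 false, .stab 14 false, .stab 17 false, .stab 15 false, .edge 85 [0,5,6,5,2,5,0,7,6,5], .coin 86, .lett 1, .lett 4, .lett 3, .lett 4, .lett 2, .lett 7, .lett 4, .lett 3, .lett 4, .lett 2, .lett 6, .stab 26 false, .stab 29 false, .stab 26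 false, .edge 69 [0,3,3,7,6,2,5,7], .lett 1, .lett 4, .lett 3, .lett 4, .lett 2, .lett 7, .lett 4, .lett 3, .lett 4, .lett 2, .lett 6, .stab 43 false, .stab 44 false, .edge 71 [5,7,5,3,6,5,7,5,3], .coin 72, .lett 1, .lett 4, .lett 3, .lett 4, .lett 2, .lett 7, .lett 4, .lett 3, .lett 4, .lett 2, .lett 6, .edge 11 [5,5,5,7,2,6,7,0,5,6], .coin 12, .lett 1, .lett 4, .lett 3, .lett 4, .lett 2, .lett 7, .lett 4, .lett 3, .lett 4, .lett 2]
      (pw 11 (vX 1)) (xW ++ xW) = true := by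
  decide +kernel

theorem powXu1 :
    GK.S.okVal GK.facts 108 [.edge 4 [], .lett 1, .lett 3, .lett 5, .lett 2, .lett 5, .lett 6, .lett 3, .lett 5, .lett 2, .lett 5, .lett 0, .stab 7 false, .stab 6 false, .stab 6 false, .stab 7 false, .stab 7 false, .stab 8 false, .stab 7 false, .edge 13 [6,3,3,7,3,5,6,5], .lett 7, .stab 15 false, .stab 14 false, .stab 17 false, .stab 16 false, .stab 17 false, .stab 17 false, .stab 15 false, .edge 21 [5,0,2,4,7,5], .lett 1, .lett 3, .lett 5, .lett 2, .lett 5, .lett 6, .lett 3, .lett 5, .lett 2, .lett 5, .lett 0, .stab 17 false, .stab 16 false, .stab 17 false, .stab 17 false, .edge 19 [5,2,5,7,2,3,6,5], .coin 20, .lett 7, .stab 8 false, .stab 7 false, .stab 8 false, .stab 7 false, .stab 7 false, .stab 7 false, .stab 6 false, .stab 7 false, .edge 41 [6,3,0,5,6,5,7,6], .lett 1, .lett 3, .lett 5, .lett 2, .lett 5, .lett 6, .lett 3, .lett 5, .lett 2, .lett 5, .lett 0, .stab 44 false, .stab 44 false, .stab 44 false, .stab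 50 false, .stab 43 false, .edge 77 [0,5,6,7,1,6,2,7], .coin 78, .lett 7, .stab 29 false, .stab 25 false, .stab 26 false, .stab 24 false, .edge 75 [2,5,7,0,1,5,2], .coin 76, .lett 1, .lett 3, .lett 5, .lett 2, .lett 5, .lett 6, .lett 3, .lett 5, .lett 2, .lett 5, .lett 0, .stab 16 false, .stab 16 false, .edge 22 [0,1,6,1,7,5,7,1], .lett 7, .stab 17 false, .stab 17 false, .stab 16 false, .stab 17 false, .stab 15 false, .edge 32 [2,6,2,3,7,3,5], .lett 1, .lett 3, .lett 5, .lett 2, .lett 5, .lett 6, .lett 3, .lett 5, .lett 2, .lett 5, .lett 0, .stab 29 false, .stab 29 false, .stab 24 false, .stab 24 false, .edge 75 [2,1,7,5,6,5,3], .coin 76, .lett 7, .stab 14 false, .stab 17 false, .stab 17 false, .stab 17 false, .edge 32 [1,5,5,4,6,5,7], .lett 1, .lett 3, .lett 5, .lett 2, .lett 5, .lett 6, .lett 3, .lett 5, .lett 2, .lett 5, .lett 0, .stab 26 false, .stab 25 false, .stab 25 false, .stab 29 false, .stab 25 false, .stab 26 false, .stab 25 false, .edge 28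 [1,7,6,2,4,5,5,6], .lett 7, .stab 15 false, .stab 16 false, .stab 15 false, .stab 17 false, .stab 15 false, .stab 14 false, .edge 32 [5,0,1,6,2,5,6,7], .lett 1, .lett 3, .lett 5, .lett 2, .lett 5, .lett 6, .lett 3, .lett 5, .lett 2, .lett 5, .lett 0, .stab 26 false, .stab 25 false, .stab 24 false, .stab 24 false, .stab 29 false, .edge 28 [2,5,7,3,2,5,6], .lett 7, .stab 17 false, .stab 14 false, .stab 17 false, .stab 17 false, .stab 17 false, .stab 17 false, .edge 47 [1,0,0,5,6,1,7], .lett 1, .lett 3, .lett 5, .lett 2, .lett 5, .lett 6, .lett 3, .lett 5, .lett 2, .lett 5, .lett 0, .stab 50 false, .stab 44 false, .stab 50 false, .stab 43 false, .stab 42 false, .edge 77 [0,3,0,7,6,3,5], .coin 78, .lett 7, .stab 25 false, .stab 25 false, .stab 29 false, .stab 24 false, .edge 69 [2,5,2,5,6,5,0,7,6,5], .lett 1, .lett 3, .lett 5, .lett 2, .lett 5, .lett 6, .lett 3, .lett 5, .lett 2, .lett 5, .lett 0, .stab 50 false, .stab 43 false, .stab 42 false, .stab 44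 false, .edge 71 [6,0,0,7,5,7,2,7], .coin 72, .lett 7, .stab 6 false, .stab 5 false, .stab 7 false, .stab 6 false, .stab 6 false, .stab 7 false, .stab 8 false, .stab 7 false, .edge 13 [0,4,7,5,6,5,2,7], .lett 1, .lett 3, .lett 5, .lett 2, .lett 5, .lett 6, .lett 3, .lett 5, .lett 2, .lett 5, .lett 0, .stab 14 false, .stab 17 false, .stab 17 false, .stab 17 false, .edge 22 [1,7,3,5,3,6,7,5,7], .lett 7, .stab 17 false, .stab 17 false, .stab 17 false, .stab 17 false, .stab 17 false, .edge 19 [2,7,2,3,7,6,5], .coin 20, .lett 1, .lett 3, .lett 5, .lett 2, .lett 5, .lett 6, .lett 3, .lett 5, .lett 2, .lett 5, .lett 0, .edge 11 [7,2,5,6,1,7,5,6,7], .coin 12, .lett 7]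
      (pw 11 (gX 1 ++ GK.S.invAll (vX 1))) xW = true := by
  decide +kernel

theorem powXv2 :
    GK.S.okVal GK.facts 108 [.edge 4 [], .lett 1, .lett 7, .lett 4, .lett 3, .lett 4, .lett 2, .lett 4, .lett 3, .lett 4, .lett 2, .edge 13 [2,5,7,2,6,1,6,7], .lett 1, .lett 7, .lett 4, .lett 3, .lett 4, .lett 2, .lett 4, .lett 3, .lett 4, .lett 2, .stab 16 false, .stab 16 false, .stab 14 false, .stab 17 false, .stab 17 false, .edge 21 [2,7,3,4,5,5,5,6], .lett 1, .lett 7, .lett 4, .lett 3, .lett 4, .lett 2, .lett 4, .lett 3, .lett 4, .lett 2, .stab 15 false, .stab 15 false, .stab 17 false, .stab 17 false, .stab 14 false, .edge 85 [0,5,5,7,5,2,6,7,0,5,6], .coin 86, .lett 1, .lett 7, .lett 4, .lett 3, .lett 4, .lett 2, .lett 4, .lett 3, .lett 4, .lett 2, .stab 26 false, .stab 29 false, .stab 24 false, .stab 24 false, .stab 25 false, .stab 29 false, .edge 28 [5,3,5,5,7,6,1,5], .lett 1, .lett 7, .lett 4, .lett 3, .lett 4, .lett 2, .lett 4, .lett 3, .lett 4, .lett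 2, .stab 16 false, .stab 17 false, .stab 14 false, .stab 17 false, .stab 15 false, .stab 14 false, .edge 21 [1,7,3,4,5,5,5,5], .lett 1, .lett 7, .lett 4, .lett 3, .lett 4, .lett 2, .lett 4, .lett 3, .lett 4, .lett 2, .stab 16 false, .stab 15 false, .stab 17 false, .stab 17 false, .stab 17 false, .edge 23 [2,5,7,6,1,3,5,7], .lett 1, .lett 7, .lett 4, .lett 3, .lett 4, .lett 2, .lett 4, .lett 3, .lett 4, .lett 2, .stab 25 false, .stab 26 false, .stab 29 false, .stab 24 false, .stab 29 false, .stab 24 false, .edge 75 [1,3,0,3,5,7,6], .coin 76, .lett 1, .lett 7, .lett 4, .lett 3, .lett 4, .lett 2, .lett 4, .lett 3, .lett 4, .lett 2, .stab 17 false, .stab 17 false, .stab 16 false, .stab 15 false, .stab 17 false, .stab 17 false, .edge 18 [1,2,5,7,0,5,5,6,7,6], .lett 1, .lett 7, .lett 4, .lett 3, .lett 4, .lett 2, .lett 4, .lett 3, .lett 4, .lett 2, .stab 17 false, .stab 17 false, .stab 17 false, .stab 17 false, .edge 19 [6,7,5,7], .coin 20, .lett 1, .lett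 7, .lett 4, .lett 3, .lett 4, .lett 2, .lett 4, .lett 3, .lett 4, .lett 2, .edge 11 [5,3,6,0,7,5,6,7], .coin 12, .lett 1, .lett 7, .lett 4, .lett 3, .lett 4, .lett 2, .lett 4, .lett 3, .lett 4, .lett 2]
      (pw 11 (vX 2)) (xW ++ xW) = true := by
  decide +kernel

theorem powXu2 :
    GK.S.okVal GK.facts 108 [.lett 6, .lett 3, .lett 5, .lett 2, .lett 5, .lett 3, .lett 5, .lett 2, .lett 5, .lett 6, .lett 0, .stab 3 false, .stab 2 false, .stab 1 false, .stab 0 false, .stab 1 false, .stab 1 false, .stab 0 false, .stab 2 false, .stab 2 false, .stab 3 false, .stab 1 false, .edge 4 [6,7,6], .lett 6, .lett 3, .lett 5, .lett 2, .lett 5, .lett 3, .lett 5, .lett 2, .lett 5, .lett 6, .lett 0, .stab 6 false, .stab 8 false, .stab 6 false, .stab 7 false, .stab 6 false, .stab 7 false, .stab 6 false, .stab 6 false, .stab 7 false, .edge 13 [2,6,2,6,7,5,6,5], .lett 6, .lett 3, .lett 5, .lett 2, .lett 5, .lett 3, .lett 5, .lett 2, .lett 5, .lett 6, .lett 0, .stab 14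 false, .stab 17 false, .stab 16 false, .stab 15 false, .stab 17 false, .stab 15 false, .edge 22 [5,7,2,2,6,7,6], .lett 6, .lett 3, .lett 5, .lett 2, .lett 5, .lett 3, .lett 5, .lett 2, .lett 5, .lett 6, .lett 0, .stab 16 false, .stab 16 false, .stab 17 false, .stab 17 false, .stab 17 false, .edge 23 [0,5,0,5,4,5,3,7,6], .lett 6, .lett 3, .lett 5, .lett 2, .lett 5, .lett 3, .lett 5, .lett 2, .lett 5, .lett 6, .lett 0, .stab 24 false, .stab 29 false, .stab 29 false, .stab 25 false, .stab 25 false, .edge 28 [1,5,5,7,3,0,6], .lett 6, .lett 3, .lett 5, .lett 2, .lett 5, .lett 3, .lett 5, .lett 2, .lett 5, .lett 6, .lett 0, .stab 17 false, .stab 17 false, .stab 16 false, .stab 17 false, .stab 15 false, .stab 17 false, .edge 22 [5,5,6,7,3,5,3,5,7], .lett 6, .lett 3, .lett 5, .lett 2, .lett 5, .lett 3, .lett 5, .lett 2, .lett 5, .lett 6, .lett 0, .stab 17 false, .stab 15 false, .stab 14 false, .stab 17 false, .stab 15 false, .edge 32 [5,5,6,2,5,7,2], .lett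 6, .lett 3, .lett 5, .lett 2, .lett 5, .lett 3, .lett 5, .lett 2, .lett 5, .lett 6, .lett 0, .stab 26 false, .stab 29 false, .stab 26 false, .stab 29 false, .edge 28 [1,6,2,6,7,5,6], .lett 6, .lett 3, .lett 5, .lett 2, .lett 5, .lett 3, .lett 5, .lett 2, .lett 5, .lett 6, .lett 0, .stab 15 false, .stab 17 false, .stab 15 false, .stab 17 false, .stab 15 false, .stab 16 false, .stab 15 false, .edge 21 [5,7,2,6,1,3,5], .lett 6, .lett 3, .lett 5, .lett 2, .lett 5, .lett 3, .lett 5, .lett 2, .lett 5, .lett 6, .lett 0, .stab 15 false, .stab 15 false, .stab 17 false, .stab 16 false, .stab 17 false, .edge 19 [5,7,2,7,5,7,6,2,7], .coin 20, .lett 6, .lett 3, .lett 5, .lett 2, .lett 5, .lett 3, .lett 5, .lett 2, .lett 5, .lett 6, .lett 0, .edge 11 [0,6,7,0,5,6,2,0,7], .coin 12]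
      (pw 11 (gX 2 ++ GK.S.invAll (vX 2))) xW = true := by
  decide +kernel

theorem powXv3 :
    GK.S.okVal GK.facts 108 [.edge 4 [], .lett 1, .lett 7, .lett 3, .lett 5, .lett 2, .lett 5, .lett 3, .lett 5, .lett 2, .lett 5, .edge 13 [5,6,7,2,7,6,2], .lett 1, .lett 7, .lett 3, .lett 5, .lett 2, .lett 5, .lett 3, .lett 5, .lett 2, .lett 5, .stab 16 false, .stab 17 false, .stab 17 false, .stab 16 false, .stab 17 false, .stab 16 false, .stab 14 false, .edge 85 [5,5,3,5,6,7,2,5,5], .coin 86, .lett 1, .lett 7, .lett 3, .lett 5, .lett 2, .lett 5, .lett 3, .lett 5, .lett 2, .lett 5, .stab 29 false, .stab 29 false, .stab 24 false, .stab 26 false, .stab 25 false, .edge 69 [1,5,5,6,5,7,3,6,5], .lett 1, .lett 7, .lett 3, .lett 5, .lett 2, .lett 5, .lett 3, .lett 5, .lett 2, .lett 5, .stab 50 false, .stab 44 false, .stab 43 false, .stab 42 false, .edge 77 [0,4,7,6,3,6,0], .coin 78, .lett 1, .lett 7, .lett 3, .lett 5, .lett 2, .lett 5, .lett 3, .lett 5, .lett 2,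 .lett 5, .stab 24 false, .stab 24 false, .stab 26 false, .stab 25 false, .edge 35 [0,2,7,6,1,5,5,5,6], .lett 1, .lett 7, .lett 3, .lett 5, .lett 2, .lett 5, .lett 3, .lett 5, .lett 2, .lett 5, .stab 25 false, .stab 29 false, .stab 29 false, .stab 24 false, .stab 26 false, .stab 24 false, .edge 69 [7,6,2,6,2,6,5,7,6], .lett 1, .lett 7, .lett 3, .lett 5, .lett 2, .lett 5, .lett 3, .lett 5, .lett 2, .lett 5, .stab 50 false, .stab 44 false, .stab 42 false, .stab 44 false, .stab 42 false, .edge 77 [5,7,5,2,0], .coin 78, .lett 1, .lett 7, .lett 3, .lett 5, .lett 2, .lett 5, .lett 3, .lett 5, .lett 2, .lett 5, .stab 25 false, .stab 24 false, .stab 26 false, .stab 29 false, .stab 24 false, .edge 28 [2,7,1,3,3,3], .lett 1, .lett 7, .lett 3, .lett 5, .lett 2, .lett 5, .lett 3, .lett 5, .lett 2, .lett 5, .stab 15 false, .stab 15 false, .stab 17 false, .stab 17 false, .edge 19 [5,5,5,5,5,5,6], .coin 20, .lett 1, .lett 7, .lett 3, .lett 5, .lett 2, .lett 5, .lett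 3, .lett 5, .lett 2, .lett 5, .edge 11 [5,5,3,6,7,6,3,5,6], .coin 12, .lett 1, .lett 7, .lett 3, .lett 5, .lett 2, .lett 5, .lett 3, .lett 5, .lett 2, .lett 5]
      (pw 11 (vX 3)) (xW ++ xW) = true := by
  decide +kernel

theorem powXu3 :
    GK.S.okVal GK.facts 108 [.lett 4, .lett 3, .lett 4, .lett 2, .lett 4, .lett 3, .lett 4, .lett 2, .lett 4, .lett 3, .lett 4, .lett 2, .lett 6, .lett 0, .stab 2 false, .stab 3 false, .stab 1 false, .stab 2 false, .stab 1 false, .stab 2 false, .stab 1 false, .stab 0 false, .stab 3 false, .stab 2 false, .stab 3 false, .edge 4 [7,5,6,0,5,5,7,3,5], .lett 4, .lett 3, .lett 4, .lett 2, .lett 4, .lett 3, .lett 4, .lett 2, .lett 4, .lett 3, .lett 4, .lett 2, .lett 6, .lett 0, .stab 7 false, .stab 7 false, .stab 8 false, .stab 7 false, .stab 8 false, .stab 7 false, .edge 13 [6,7,6,5], .lett 4, .lett 3, .lett 4, .lett 2, .lett 4, .lett 3, .lett 4, .lett 2, .lett 4, .lett 3, .lett 4, .lett 2, .lett 6, .lett 0, .stab 17 false,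 .stab 17 false, .stab 17 false, .stab 16 false, .stab 17 false, .stab 17 false, .stab 15 false, .edge 18 [0,2,5,5,6,0,7,5,6,7], .lett 4, .lett 3, .lett 4, .lett 2, .lett 4, .lett 3, .lett 4, .lett 2, .lett 4, .lett 3, .lett 4, .lett 2, .lett 6, .lett 0, .stab 16 false, .stab 15 false, .stab 17 false, .stab 15 false, .stab 17 false, .stab 16 false, .stab 15 false, .edge 32 [5,6,7,6,5,3,6,1,7], .lett 4, .lett 3, .lett 4, .lett 2, .lett 4, .lett 3, .lett 4, .lett 2, .lett 4, .lett 3, .lett 4, .lett 2, .lett 6, .lett 0, .stab 29 false, .edge 37 [3,2,2,1,6,5], .coin 38, .lett 4, .lett 3, .lett 4, .lett 2, .lett 4, .lett 3, .lett 4, .lett 2, .lett 4, .lett 3, .lett 4, .lett 2, .lett 6, .lett 0, .stab 17 false, .stab 15 false, .stab 15 false, .stab 15 false, .stab 17 false, .edge 21 [0,0,0,7,2,0,0,0], .lett 4, .lett 3, .lett 4, .lett 2, .lett 4, .lett 3, .lett 4, .lett 2, .lett 4, .lett 3, .lett 4, .lett 2, .lett 6, .lett 0, .stab 16 false, .stab 16 false,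 .stab 17 false, .stab 15 false, .stab 17 false, .stab 15 false, .stab 14 false, .edge 85 [1,6,5,3,5,5,6,5,7], .coin 86, .lett 4, .lett 3, .lett 4, .lett 2, .lett 4, .lett 3, .lett 4, .lett 2, .lett 4, .lett 3, .lett 4, .lett 2, .lett 6, .lett 0, .stab 29 false, .stab 25 false, .stab 24 false, .stab 29 false, .stab 29 false, .stab 25 false, .stab 24 false, .edge 28 [1,1,7,6,2,2,5], .lett 4, .lett 3, .lett 4, .lett 2, .lett 4, .lett 3, .lett 4, .lett 2, .lett 4, .lett 3, .lett 4, .lett 2, .lett 6, .lett 0, .stab 16 false, .stab 15 false, .stab 16 false, .stab 17 false, .stab 17 false, .stab 14 false, .stab 17 false, .edge 21 [1,2,5,2,5,5,7,6], .lett 4, .lett 3, .lett 4, .lett 2, .lett 4, .lett 3, .lett 4, .lett 2, .lett 4, .lett 3, .lett 4, .lett 2, .lett 6, .lett 0, .stab 17 false, .stab 14 false, .stab 17 false, .stab 16 false, .stab 15 false, .stab 17 false, .edge 19 [0,5,7,5,0,6,1,5,6], .coin 20, .lett 4, .lett 3, .lett 4, .lett 2, .lett 4, .lett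 3, .lett 4, .lett 2, .lett 4, .lett 3, .lett 4, .lett 2, .lett 6, .lett 0, .edge 11 [1,7,1,2,7,5,7], .coin 12]
      (pw 11 (gX 3 ++ GK.S.invAll (vX 3))) xW = true := by
  decide +kernel

theorem comZ :
    GK.S.okVal GK.facts 108 [.edge 4 [], .lett 1, .lett 0, .lett 2, .lett 1, .lett 3, .lett 0, .edge 11 [6,7,5,7], .coin 12]
      ([8, 1] ++ xW ++ [0, 8]) xW = true := by
  decide +kernel

theorem endX1 :
    okEnd GK.S GK.facts 108 [.edge 4 [], .lett 1, .stab 8 true, .stab 5 false]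
      (pX 1) 1 [] = true := by
  decide +kernel

theorem endX2 :
    okEnd GK.S GK.facts 108 [.edge 4 [], .lett 1, .lett 6, .lett 3, .lett 5, .lett 2, .lett 5, .edge 13 [0,3,3,0,5,3,2], .lett 1, .lett 3, .lett 5, .lett 2, .lett 5, .lett 7, .stab 17 false, .stab 17 false, .stab 15 false, .stab 15 false, .stab 17 false, .stab 17 false, .edge 47 [3,2,5,0,6,5,7,5], .lett 1, .lett 4, .lett 3, .lett 4, .lett 2, .stab 43 true]
      (pX 2) 8 [1,1,1,2] = true := by
  decide +kernel

theorem endX3 :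
    okEnd GK.S GK.facts 108 [.edge 4 [], .lett 1, .lett 6, .edge 13 [5], .lett 1, .lett 6, .lett 4, .lett 3, .lett 4, .lett 2, .lett 0, .edge 23 [0,2,5], .lett 4, .lett 3, .lett 4, .lett 2, .lett 6, .lett 3, .lett 5, .lett 2, .lett 5, .stab 29 false, .stab 25 true, .stab 29 false, .stab 26 true, .stab 24 true]
      (pX 3) 5 [5,2,4,2,4,7,3,4,7,5,2,5,1,2,0,4,6,5,0,4] = true := by
  decide +kernel

theorem endX4 :
    okEnd GK.S GK.facts 108 [.edge 4 [], .lett 1, .lett 6, .edge 13 [5], .lett 1, .stab 14 false]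
      (pX 4) 3 [] = true := by
  decide +kernel


end CfsgLib.KnownB.LyCent
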