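import Cfsg.Agent.Lib.KnownB.LyCent.DataS2
import Cfsg.Agent.Lib.KnownB.LyCent.Chunk
import Cfsg.Agent.Lib.Spor.Ly.GKData

/-!
Further checks.
-/

set_option autoImplicit false
set_option maxRecDepth 100000
set_option Elab.async false

namespace CfsgLib.KnownB.LyCent

open CfsgLib.PresCert CfsgLib.DCE

theorem e2_shape : e2.okShape CfsgLib.Spor.Ly.GK.P = true := by
  decide +kernel

theorem e2_free : okFree CfsgLib.Spor.Ly.GK.P 3906 e2_reps = true := by
  decide +kernel

theorem e2_repIdx_ok : sameB CfsgLib.Spor.Ly.GK.P CfsgLib.Spor.Ly.GK.base (e2_rep ++ [0, 2, 1, 3] ++ ivw e2_rep) (e2.word e2_repIdx) = true := by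
  decide +kernel

theorem e2_comm : ((List.range e2.len).filter (commB CfsgLib.Spor.Ly.GK.P CfsgLib.Spor.Ly.GK.base e2 (e2_rep ++ [0, 2, 1, 3] ++ ivw e2_rep))).length ≤ 504 := by
  decide +kernel


end CfsgLib.KnownB.LyCent
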