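import Cfsg.Agent.Lib.KnownB.LyCent.DataS3
import Cfsg.Agent.Lib.KnownB.LyCent.Chunk
import Cfsg.Agent.Lib.Spor.Ly.GKData

/-!
Enumeration checks.
-/

set_option autoImplicit false
set_option maxRecDepth 100000
set_option Elab.async false

namespace CfsgLib.KnownB.LyCent

open CfsgLib.PresCert CfsgLib.DCE

theorem e3_invs_0 : okInvs CfsgLib.Spor.Ly.GK.P CfsgLib.Spor.Ly.GK.base e3 e3_inv 0 720 = true := by
  decide +kernel

theorem e3_invs_1 : okInvs CfsgLib.Spor.Ly.GK.P CfsgLib.Spor.Ly.GK.base e3 e3_inv 720 720 = true := by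
  decide +kernel

theorem e3_invs_2 : okInvs CfsgLib.Spor.Ly.GK.P CfsgLib.Spor.Ly.GK.base e3 e3_inv 1440 720 = true := by
  decide +kernel

theorem e3_invs_3 : okInvs CfsgLib.Spor.Ly.GK.P CfsgLib.Spor.Ly.GK.base e3 e3_inv 2160 720 = true := by
  decide +kernel

theorem e3_invs : ∀ k < 2880, okInvs CfsgLib.Spor.Ly.GK.P CfsgLib.Spor.Ly.GK.base e3 e3_inv k 1 = true := by
  intro k hk
  by_cases h0 : k < 720
  · exact chunk_at okInvs_chunk e3_invs_0 (by omega) h0
  by_cases h1 : k < 1440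
  · exact chunk_at okInvs_chunk e3_invs_1 (by omega) h1
  by_cases h2 : k < 2160
  · exact chunk_at okInvs_chunk e3_invs_2 (by omega) h2
  by_cases h3 : k < 2880
  · exact chunk_at okInvs_chunk e3_invs_3 (by omega) h3
  omega


end CfsgLib.KnownB.LyCent
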