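import Cfsg.Agent.Lib.KnownB.LyCent.DataS4
import Cfsg.Agent.Lib.KnownB.LyCent.Chunk
import Cfsg.Agent.Lib.Spor.Ly.GKData

/-!
Enumeration checks.
-/

set_option autoImplicit false
set_option maxRecDepth 100000
set_option Elab.async false

namespace CfsgLib.KnownB.LyCent

open CfsgLib.PresCert CfsgLib.DCE

theorem e4_invs_0 : okInvs CfsgLib.Spor.Ly.GK.P CfsgLib.Spor.Ly.GK.base e4 e4_inv 0 756 = true := by
  decide +kernel

theorem e4_invs_1 : okInvs CfsgLib.Spor.Ly.GK.P CfsgLib.Spor.Ly.GK.base e4 e4_inv 756 756 = true := by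
  decide +kernel

theorem e4_invs_2 : okInvs CfsgLib.Spor.Ly.GK.P CfsgLib.Spor.Ly.GK.base e4 e4_inv 1512 756 = true := by
  decide +kernel

theorem e4_invs_3 : okInvs CfsgLib.Spor.Ly.GK.P CfsgLib.Spor.Ly.GK.base e4 e4_inv 2268 756 = true := by
  decide +kernel

theorem e4_invs_4 : okInvs CfsgLib.Spor.Ly.GK.P CfsgLib.Spor.Ly.GK.base e4 e4_inv 3024 756 = true := by
  decide +kernel

theorem e4_invs_5 : okInvs CfsgLib.Spor.Ly.GK.P CfsgLib.Spor.Ly.GK.base e4 e4_inv 3780 756 = true := by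
  decide +kernel

theorem e4_invs_6 : okInvs CfsgLib.Spor.Ly.GK.P CfsgLib.Spor.Ly.GK.base e4 e4_inv 4536 756 = true := by
  decide +kernel

theorem e4_invs_7 : okInvs CfsgLib.Spor.Ly.GK.P CfsgLib.Spor.Ly.GK.base e4 e4_inv 5292 756 = true := by
  decide +kernel

theorem e4_invs : ∀ k < 6048, okInvs CfsgLib.Spor.Ly.GK.P CfsgLib.Spor.Ly.GK.base e4 e4_inv k 1 = true := by
  intro k hk
  by_cases h0 : k < 756
  · exact chunk_at okInvs_chunk e4_invs_0 (by omega) h0
  by_cases h1 : k < 1512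
  · exact chunk_at okInvs_chunk e4_invs_1 (by omega) h1
  by_cases h2 : k < 2268
  · exact chunk_at okInvs_chunk e4_invs_2 (by omega) h2
  by_cases h3 : k < 3024
  · exact chunk_at okInvs_chunk e4_invs_3 (by omega) h3
  by_cases h4 : k < 3780
  · exact chunk_at okInvs_chunk e4_invs_4 (by omega) h4
  by_cases h5 : k < 4536
  · exact chunk_at okInvs_chunk e4_invs_5 (by omega) h5
  by_cases h6 : k < 5292
  · exact chunk_at okInvs_chunk e4_invs_6 (by omega) h6
  by_cases h7 : k < 6048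
  · exact chunk_at okInvs_chunk e4_invs_7 (by omega) h7
  omega


end CfsgLib.KnownB.LyCent
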