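import Cfsg.Agent.Lib.KnownB.LyCent.ChkPts
import Cfsg.Agent.Lib.KnownB.LyCent.ChkLMisc
import Cfsg.Agent.Lib.KnownB.LyCent.ChkLNode
import Cfsg.Agent.Lib.KnownB.LyCent.ChkProj0
import Cfsg.Agent.Lib.KnownB.LyCent.ChkProj1
import Cfsg.Agent.Lib.KnownB.LyCent.ChkProj2
import Cfsg.Agent.Lib.KnownB.LyCent.ChkProj3

/-!
The centralisers of an involution and of an element of order three in the group of degree 23436.
-/

set_option autoImplicit false
set_option maxRecDepth 100000

namespace CfsgLib.KnownB.LyCent

open CfsgLib.PresCert CfsgLib.DCE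
open CfsgLib.Spor.Ly

/-- the word of the involution -/
def tW : List Nat := [0, 0, 0, 0]

/-- the word of the element of order three -/
def xW : List Nat := [0, 2, 1, 3]

theorem degree : GK.P.n = 23436 := by decide +kernel

theorem letters : GK.P.g = 8 := by decide +kernel

theorem base_lt : ∀ b ∈ GK.base, b < GK.P.n := by decide +kernel

theorem words_tx_lt : (∀ x ∈ tW, x < GK.P.g) ∧ ∀ x ∈ xW, x < GK.P.g := by decide +kernel

theorem proj_ok : okProj GK.P prT.half = true := by
  simp only [okProj, Bool.and_eq_true]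
  refine ⟨?_, Wide.PermData.allBelow_of_forall (by rw [letters]; norm_num) fun x hx => ?_⟩
  · refine Wide.PermData.allBelow_of_forall (by rw [degree]; norm_num) fun i hi => ?_
    have h := allBelow_spec proj_lt i hi
    rw [Nat.blt_eq] at h ⊢
    rw [degree]
    omega
  · rw [letters] at hx
    interval_cases x
    exacts [proj_0, proj_1, proj_2, proj_3, proj_4, proj_5, proj_6, proj_7]

/-- the first point -/
noncomputable def pt0 : Fin GK.P.n := ⟨0, by rw [degree]; norm_num⟩

/-- the second point -/
noncomputable def pt1 : Fin GK.P.n := ⟨1, by rw [degree]; norm_num⟩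

theorem small_facts : prT.half 0 = 0 ∧ GK.P.app tW 0 = 0 ∧ GK.P.app tW 1 = 1 ∧
    GK.P.app xW 0 = 0 ∧ GK.P.app xW 1 = 1 ∧
    (fixedT.filter fun r => Nat.beq (prT.half r) 0).length = 6 ∧
    (fixedT.filter fun r => Nat.beq (prT.half r) 1).length = 6 ∧
    (fixedX.filter fun r => Nat.beq (prT.half r) 0).length = 3 ∧
    (fixedX.filter fun r => Nat.beq (prT.half r) 1).length = 3 ∧
    topT.length = 6 ∧ topX.length = 126 ∧ eL.len = 480 ∧
    ([kL0, kL1].map WLevel.len).prod = 12206250 ∧
    [kL0, kL1].map WLevel.base = [0, 1] ∧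
    ([xL0, xL1, xL2].map WLevel.len).prod = 378000 := by decide +kernel

theorem x_commutes :
    (xGens.all fun w => (w.all fun x => Nat.blt x GK.P.g) &&
      sameB GK.P GK.base (w ++ xW) (xW ++ w)) = true := by decide +kernel

theorem x_cube : sameB GK.P GK.base (xW ++ xW ++ xW) [] = true ∧
    sameB GK.P GK.base (tW ++ tW) [] = true ∧
    sameB GK.P GK.base xW [] = false ∧ sameB GK.P GK.base tW [] = false := by decide +kernel

theorem eL_im_distinct : (allBelow eL.len fun i => allBelow i fun j =>
    !(allBelow GK.base.length fun c => Nat.beq (eL.im i c) (eL.im j c))) = true := by decide +kernel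

theorem eL_vec_inj (a b : Nat) (ha : a < eL.len) (hb : b < eL.len)
    (h : ∀ c < GK.base.length, eL.im a c = eL.im b c) : a = b := by
  have hall : ∀ i < eL.len, ∀ j < i, (∀ c < GK.base.length, eL.im i c = eL.im j c) → False := by
    intro i hi j hj hij
    have e := allBelow_spec (allBelow_spec eL_im_distinct i hi) j hj
    rw [Bool.not_eq_true'] at e
    rw [Wide.PermData.allBelow_of_forall (P := fun c => Nat.beq (eL.im i c) (eL.im j c))
      (by rw [show GK.base.length = 4 from rfl]; norm_num)
      (fun c hc => by rw [hij c hc]; simp)] at e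
    exact Bool.noConfusion e
  rcases lt_trichotomy a b with hl | hl | hl
  · exact (hall b hb a hl fun c hc => (h c hc).symm).elim
  · exact hl
  · exact (hall a ha b hl h).elim

variable {H : Type*} [Group H] (M : Perms GK.P H)

/-- the involution -/
noncomputable def tEl : H := M.val tW

/-- the element of order three -/
noncomputable def xEl : H := M.val xW

theorem val_of_sameB (inj : ∀ h : H, (∀ i : Fin GK.P.n, (i : Nat) ∈ GK.base → M.act h i = i) → h = 1)
    {u w : List Nat} (hu : ∀ x ∈ u, x < GK.P.g) (hw : ∀ x ∈ w, x < GK.P.g)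
    (h : sameB GK.P GK.base u w = true) : M.val u = M.val w := by
  simp only [sameB, List.all_eq_true, Nat.beq_eq] at h
  refine mul_inv_eq_one.1 (inj _ fun i hi => ?_)
  have e := h i hi
  rw [M.app_eq _ hu, M.app_eq _ hw] at e
  rw [Perms.act_mul, show M.act (M.val u) i = M.act (M.val w) i from Fin.ext e, ← Perms.act_mul,
    mul_inv_cancel, Perms.act_one]

theorem sameB_of_val {u w : List Nat} (hu : ∀ x ∈ u, x < GK.P.g) (hw : ∀ x ∈ w, x < GK.P.g)
    (h : M.val u = M.val w) : sameB GK.P GK.base u w = true := by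
  simp only [sameB, List.all_eq_true, Nat.beq_eq]
  intro b hb
  have hbn := base_lt b hb
  rw [show b = ((⟨b, hbn⟩ : Fin GK.P.n) : Nat) from rfl, M.app_eq _ hu, M.app_eq _ hw, h]

theorem xEl_facts (inj : ∀ h : H, (∀ i : Fin GK.P.n, (i : Nat) ∈ GK.base → M.act h i = i) → h = 1) :
    xEl M ^ 3 = 1 ∧ xEl M ≠ 1 ∧ tEl M * tEl M = 1 ∧ tEl M ≠ 1 := by
  obtain ⟨h1, h2, h3, h4⟩ := x_cube
  have hnil : ∀ y ∈ ([] : List Nat), y < GK.P.g := by simp
  have hv : M.val ([] : List Nat) = 1 := by simp [Perms.val, wv]
  refine ⟨?_, fun e => ?_, ?_, fun e => ?_⟩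
  · have e := val_of_sameB M inj (by
      simp only [List.mem_append]; rintro y ((hy | hy) | hy) <;> exact words_tx_lt.2 y hy) hnil h1
    rw [Perms.val_append, Perms.val_append, hv] at e
    rw [pow_succ, pow_two]
    exact e
  · rw [sameB_of_val M words_tx_lt.2 hnil (e.trans hv.symm)] at h3
    exact Bool.noConfusion h3
  · have e := val_of_sameB M inj (by
      simp only [List.mem_append]; rintro y (hy | hy) <;> exact words_tx_lt.1 y hy) hnil h2
    rw [Perms.val_append, hv] at e
    exact e
  · rw [sameB_of_val M words_tx_lt.1 hnil (e.trans hv.symm)] at h4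
    exact Bool.noConfusion h4

theorem fixes_pt0 : M.act (xEl M) pt0 = pt0 := by
  refine Fin.ext ?_
  rw [xEl, ← M.app_eq _ words_tx_lt.2]
  exact small_facts.2.2.2.1

theorem act_pt0_lt (hgen : Subgroup.closure (Set.range M.gen) = ⊤) (g : H) :
    (M.act g pt0 : Nat) < 3906 := by
  have h0 : projPt proj_ok pt0 = pt0 := Fin.ext small_facts.1
  have h := pr_act M proj_ok hgen g pt0
  rw [h0] at h
  rw [← h]
  have h' := allBelow_spec proj_lt (M.act g pt0 : Nat) (M.act g pt0).2
  rwa [Nat.blt_eq] at h'

/-- the stabiliser of the two points -/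
noncomputable def stab01 : Subgroup H := M.fixIn ⊤ [1, 0]

theorem word_mem {E : EnumData} (hS : E.okShape GK.P = true) (k : Nat) :
    M.val (E.word k) ∈ Subgroup.closure {h | ∃ w ∈ E.gens, M.val w = h} := by
  unfold EnumData.word
  generalize E.depth = f
  induction f generalizing k with
  | zero => simp [wordAt, Perms.val, wv]
  | succ f ih =>
    simp only [wordAt]
    cases hk : Nat.beq k 0 with
    | true => simp [Perms.val, wv]
    | false =>
      simp only
      rw [Perms.val_append]
      refine mul_mem (ih _) ?_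
      generalize Nat.land (E.tree.word k) 15 = j
      by_cases hj : j < E.gens.length
      · rw [List.getD_eq_getElem?_getD, List.getElem?_eq_getElem hj]
        exact Subgroup.subset_closure ⟨_, List.getElem_mem hj, rfl⟩
      · rw [List.getD_eq_getElem?_getD, List.getElem?_eq_none (by omega)]
        simp [Perms.val, wv]

variable [Finite H] (hcard : Nat.card H = 5859000000)

include hcard in
theorem card_stab01 : Nat.card (stab01 M) ≤ 480 := by
  have h1 := M.wlevels_bound ⊤ [kL0, kL1] [] levels01_ok fun _ _ _ _ => trivial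
  obtain ⟨-, -, -, -, -, -, -, -, -, -, -, -, hp, hb, -⟩ := small_facts
  rw [hp, hb] at h1
  have h2 : Nat.card (M.fixIn ⊤ []) ≤ 5859000000 := hcard ▸ Subgroup.card_le_card_group _
  have h3 : ([0, 1] : List Nat).reverse ++ [] = [1, 0] := rfl
  rw [h3] at h1
  show Nat.card (M.fixIn ⊤ [1, 0]) ≤ 480
  omega

include hcard in
theorem stab01_le_enum (inj : ∀ h : H, (∀ i : Fin GK.P.n, (i : Nat) ∈ GK.base → M.act h i = i) → h = 1) :
    stab01 M ≤ Subgroup.closure {h | ∃ w ∈ eL.gens, M.val w = h} := by
  set U := Subgroup.closure {h | ∃ w ∈ eL.gens, M.val w = h} with hUdef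
  have hshape := eL_shape
  simp only [EnumData.okShape, Bool.and_eq_true, List.all_eq_true, Nat.blt_eq] at hshape
  have hfix : ∀ w ∈ eL.gens, GK.P.app w 0 = 0 ∧ GK.P.app w 1 = 1 := fun w hw => by
    have h := List.all_eq_true.1 eL_fix w hw
    simpa only [Bool.and_eq_true, Nat.beq_eq] using h
  have hle : U ≤ stab01 M := by
    rw [hUdef, Subgroup.closure_le]
    rintro _ ⟨w, hw, rfl⟩
    refine ⟨trivial, fun i hi => Fin.ext ?_⟩
    rw [← M.app_eq w (hshape.2 w hw) i]
    simp only [List.mem_cons, List.not_mem_nil, or_false] at hi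
    rcases hi with e | e <;> rw [e]
    exacts [(hfix w hw).2, (hfix w hw).1]
  have hn : eL.len = 480 := small_facts.2.2.2.2.2.2.2.2.2.2.2.1
  have hC : ∀ k < eL.len, eL.okFrom GK.P GK.base k 1 = true := fun k hk =>
    eL_node k (hn ▸ hk)
  let f : Fin eL.len → U := fun k => ⟨M.val (eL.word k), word_mem M eL_shape k⟩
  have hf : Function.Injective f := by
    intro a b e
    by_contra hne
    have e' : M.val (eL.word a) = M.val (eL.word b) := congrArg Subtype.val e
    have key : ∀ c < GK.base.length, eL.im a c = eL.im b c := fun c hc => by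
      have hbn : GK.base.getD c 0 < GK.P.n := by
        rw [List.getD_eq_getElem?_getD, List.getElem?_eq_getElem hc, Option.getD_some]
        exact base_lt _ (List.getElem_mem hc)
      rw [← act_word M eL_shape hC a.2 hc hbn, ← act_word M eL_shape hC b.2 hc hbn, e']
    exact hne (Fin.ext (eL_vec_inj a b a.2 b.2 key))
  have hc := Nat.card_le_card_of_injective f hf
  rw [Nat.card_eq_fintype_card, Fintype.card_fin, hn] at hc
  have := Subgroup.eq_of_le_of_card_ge hle ((card_stab01 M hcard).trans hc)
  exact this.ge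

include hcard in
theorem card_cent_t (hgen : Subgroup.closure (Set.range M.gen) = ⊤) :
    Nat.card (Subgroup.centralizer ({tEl M} : Set H)) ≤ 14400 := by
  obtain ⟨-, h0, h1, -, -, hv0, hv1, -, -, hl, -⟩ := small_facts
  refine (card_centralizer_le_two M proj_ok hgen words_tx_lt.1 fix_t pt0 pt1
    (by simp [pt0, pt1]) h0 h1 hv0 hv1 (c := 480) ?_).trans (by rw [hl])
  refine le_trans ?_ (card_stab01 M hcard)
  exact Nat.card_le_card_of_injective (fun g => ⟨g.1, trivial, fun i hi => by
    simp only [List.mem_cons, List.not_mem_nil, or_false] at hi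
    rcases hi with e | e
    · rw [show i = pt1 from Fin.ext e]; exact g.2.2.2
    · rw [show i = pt0 from Fin.ext e]; exact g.2.2.1⟩)
    fun a b e => Subtype.ext (congrArg Subtype.val e :)

include hcard in
theorem card_cent_x (hgen : Subgroup.closure (Set.range M.gen) = ⊤)
    (inj : ∀ h : H, (∀ i : Fin GK.P.n, (i : Nat) ∈ GK.base → M.act h i = i) → h = 1) :
    Nat.card (Subgroup.centralizer ({xEl M} : Set H)) = 378000 := by
  obtain ⟨-, -, -, h0, h1, -, -, hv0, hv1, -, hl, hn, -, -, hp⟩ := small_facts
  refine le_antisymm ((card_centralizer_le_two M proj_ok hgen words_tx_lt.2 fix_x pt0 pt1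
    (by simp [pt0, pt1]) h0 h1 hv0 hv1 (c := 24) ?_).trans (by rw [hl])) ?_
  · have h := card_comm_le M base_lt inj eL_shape (fun k hk => eL_node k (hn ▸ hk)) xW
      words_tx_lt.2 eL_comm (stab01 M) (stab01_le_enum M hcard inj)
    refine le_trans ?_ h
    exact Nat.card_le_card_of_injective (fun g => ⟨⟨g.1, trivial, fun i hi => by
      simp only [List.mem_cons, List.not_mem_nil, or_false] at hi
      rcases hi with e | e
      · rw [show i = pt1 from Fin.ext e]; exact g.2.2.2
      · rw [show i = pt0 from Fin.ext e]; exact g.2.2.1⟩, g.2.1⟩)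
      fun a b e => Subtype.ext (congrArg (fun s => (s.1 : H)) e :)
  · have h := M.wsub_card inj base_lt xEls_ok [xL0, xL1, xL2] xLevels_ok xLevels_gens
    rw [hp] at h
    refine h.trans (Subgroup.card_le_of_le ?_)
    rw [Perms.sub, Subgroup.closure_le]
    rintro _ ⟨w, hw, rfl⟩
    have h' := List.all_eq_true.1 x_commutes w hw
    simp only [Bool.and_eq_true, List.all_eq_true, Nat.blt_eq] at h'
    rw [SetLike.mem_coe, Subgroup.mem_centralizer_singleton_iff, xEl, ← Perms.val_append,
      ← Perms.val_append]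
    refine val_of_sameB M inj ?_ ?_ h'.2 <;> simp only [List.mem_append] <;>
      rintro y (hy | hy) <;> first | exact h'.1 y hy | exact words_tx_lt.2 y hy

end CfsgLib.KnownB.LyCent
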