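import Mathlib

/-!
Fixed cosets of conjugate subgroups.
-/

set_option autoImplicit false

namespace CfsgLib.KnownB.LyCent

open MulAction

/-- the conjugator of the orbit with stabiliser of order 1008 -/
def cj2 : List Nat := [0, 0, 0]

/-- the conjugator of the orbit with stabiliser of order 2880 -/
def cj3 : List Nat := [3, 0, 4, 3, 4, 6, 5, 2, 6, 5, 3, 5, 3, 4]

/-- Fixed cosets do not change under conjugation of the subgroup. -/
theorem fixed_conj {H : Type*} [Group H] (U U' : Subgroup H) (c a : H)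
    (hc : ∀ u : H, u ∈ U' ↔ c * u * c⁻¹ ∈ U) :
    Nat.card {x : H ⧸ U' // a • x = x} = Nat.card {x : H ⧸ U // a • x = x} ∧
      ∀ h : H, (∀ x : H ⧸ U, a • x = x → ∃ g : H, g * a = a * g ∧ g • (h : H ⧸ U) = x) →
        ∀ x : H ⧸ U', a • x = x →
          ∃ g : H, g * a = a * g ∧ g • ((h * c : H) : H ⧸ U') = x := by
  let f : H ⧸ U' → H ⧸ U := fun x => Quotient.liftOn x (fun h => ((h * c⁻¹ : H) : H ⧸ U)) (by
    intro p q hpq
    rw [← Quotient.eq_iff_equiv, Quotient.eq, QuotientGroup.leftRel_apply] at hpq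
    refine QuotientGroup.eq.2 ?_
    have := (hc _).1 hpq
    rwa [show (p * c⁻¹)⁻¹ * (q * c⁻¹) = c * (p⁻¹ * q) * c⁻¹ by group])
  have hmk : ∀ h : H, f (h : H ⧸ U') = ((h * c⁻¹ : H) : H ⧸ U) := fun _ => rfl
  have hinj : Function.Injective f := by
    intro x y
    induction x using QuotientGroup.induction_on with
    | H p =>
      induction y using QuotientGroup.induction_on with
      | H q =>
        intro e
        rw [hmk, hmk, QuotientGroup.eq] at e
        refine QuotientGroup.eq.2 ((hc _).2 ?_)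
        rwa [show c * (p⁻¹ * q) * c⁻¹ = (p * c⁻¹)⁻¹ * (q * c⁻¹) by group]
  have hsmul : ∀ (g : H) (x : H ⧸ U'), f (g • x) = g • f x := by
    intro g x
    induction x using QuotientGroup.induction_on with
    | H p => simp only [MulAction.Quotient.smul_mk, hmk, smul_eq_mul, mul_assoc]
  have hsurj : Function.Surjective f := fun y => by
    induction y using QuotientGroup.induction_on with
    | H p => exact ⟨((p * c : H) : H ⧸ U'), by rw [hmk, mul_inv_cancel_right]⟩
  have hiff : ∀ x, a • f x = f x ↔ a • x = x := fun x => by rw [← hsmul, hinj.eq_iff]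
  refine ⟨Nat.card_congr ((Equiv.ofBijective f ⟨hinj, hsurj⟩).subtypeEquiv
    fun x => (hiff x).symm), fun h H' x hx => ?_⟩
  obtain ⟨g, hg, e⟩ := H' (f x) ((hiff x).2 hx)
  refine ⟨g, hg, hinj ?_⟩
  rw [hsmul, hmk, mul_inv_cancel_right, e]

end CfsgLib.KnownB.LyCent
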