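import Cfsg.Agent.Lib.KnownB.LyCent.RunBase
import Cfsg.Agent.Lib.KnownB.LyCent.KCent
import Cfsg.Agent.Lib.KnownB.LyCent.Conj

/-!
Words for the evaluations.
-/

set_option autoImplicit false
set_option maxRecDepth 100000
set_option Elab.async false

namespace CfsgLib.KnownB.LyCent

open CfsgLib.PresCert CfsgLib.DCE
open CfsgLib.Spor.Ly

/-- words whose images generate the alternating group of degree 11 modulo the involution -/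
def yT : Fin 9 → List Nat :=
  ![[3,3,8,1,6,8,1,2,2,6],
    [3,3,4,0,4,1,5,0,5,6,8,1,6,0,8,1,2,2,6,4,0,4,1,5,0,5,0],
    [2,1,2,4,0,4,1,5,0,5,0,8,1,6,3,8,1,6,4,0,4,1,5,0,5,3,8,1,8,1],
    [1,3,1,3,4,0,4,1,5,0,5,8,1,6,3,8,1,1,3,6,4,0,4,1,5,0,5,1],
    [1,1,3,4,0,4,1,5,0,5,3,8,1,2,0,2,6,8,1,6,4,0,4,1,5,0,5,1],
    [3,3,1,8,1,2,2],
    [3,4,0,4,1,5,0,5,3,8,1,2,6,8,1,1,2,6,4,0,4,1,5,0,5,0],
    [3,4,0,4,1,5,0,5,3,0,8,1,6,3,8,1,6,4,0,4,1,5,0,5,3,0],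
    [0,2,4,0,4,1,5,0,5,2,8,1,6,3,8,1,1,3,6,4,0,4,1,5,0,5]]

/-- generators of the centraliser of the element of order three -/
def gX : Fin 4 → List Nat :=
  ![[0,0], [8,1], [6], [4,3,4,2]]

/-- factors -/
def vX : Fin 4 → List Nat :=
  ![[1,1,4,3,4,2,0,8,6,3,5,2,5],
    [6,8,1,4,3,4,2,7,4,3,4,2],
    [8,1,7,4,3,4,2,4,3,4,2],
    [8,1,7,3,5,2,5,3,5,2,5]]

/-- words reaching the orbits of fixed points -/
def pX : Fin 5 → List Nat :=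
  ![[], [8,1], [8,1,6,3,5,2,5,8,1,3,5,2,5,7,8,1,4,3,4,2], [8,1,6,8,1,6,4,3,4,2,0,8,4,3,4,2,6,3,5,2,5], [8,1,6,8,1]]

/-- numbers of the facts generating the stabilisers -/
def stabF : Fin 5 → List Nat :=
  ![[0,1,2,3], [5,6,7,8], [42,43,44,50], [24,25,26,29], [14,15,16,17]]

/-- numbers of the orbits -/
def orbNo : Fin 5 → Nat :=
  ![0, 1, 8, 5, 3]


end CfsgLib.KnownB.LyCent
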