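import Cfsg.Agent.Lib.KnownB.LyCent.DataU
import Cfsg.Agent.Lib.KnownB.LyCent.RunData
import Cfsg.Agent.Lib.KnownB.LyCent.KCent
import Cfsg.Agent.Lib.KnownB.LyCent.DataS2
import Cfsg.Agent.Lib.KnownB.LyCent.DataS3
import Cfsg.Agent.Lib.KnownB.LyCent.DataS4

/-!
The point stabiliser and the orbit stabilisers.
-/

set_option autoImplicit false
set_option maxRecDepth 100000
set_option Elab.async false

namespace CfsgLib.KnownB.LyCent

open CfsgLib.PresCert CfsgLib.DCE

theorem levelU_ok : okWLevels CfsgLib.Spor.Ly.GK.P [] [kLU] = true := by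
  decide +kernel

theorem levelU_base : kLU.base = 3906 ∧ kLU.len = 19530 := by
  decide +kernel

/-- indices of the generators of the stabiliser -/
def stabIdx2 : List Nat := [65, 19, 921, 186]

theorem stab_ok2 : ((List.range 4).all fun c =>
    let w := (Setup.fget CfsgLib.Spor.Ly.GK.facts ((stabF 2).getD c 0)).p
    (w.all fun x => Nat.blt x CfsgLib.Spor.Ly.GK.P.g) && (cj2.all fun x => Nat.blt x CfsgLib.Spor.Ly.GK.P.g) && sameB CfsgLib.Spor.Ly.GK.P CfsgLib.Spor.Ly.GK.base (cj2 ++ w ++ ivw cj2) (e2.word (stabIdx2.getD c 0))) = true := by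
  decide +kernel

/-- indices of the generators of the stabiliser -/
def stabIdx3 : List Nat := [439, 649, 17, 450]

theorem stab_ok3 : ((List.range 4).all fun c =>
    let w := (Setup.fget CfsgLib.Spor.Ly.GK.facts ((stabF 3).getD c 0)).p
    (w.all fun x => Nat.blt x CfsgLib.Spor.Ly.GK.P.g) && (cj3.all fun x => Nat.blt x CfsgLib.Spor.Ly.GK.P.g) && sameB CfsgLib.Spor.Ly.GK.P CfsgLib.Spor.Ly.GK.base (cj3 ++ w ++ ivw cj3) (e3.word (stabIdx3.getD c 0))) = true := by
  decide +kernel

/-- indices of the generators of the stabiliser -/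
def stabIdx4 : List Nat := [74, 258, 20, 5307]

theorem stab_ok4 : ((List.range 4).all fun c =>
    let w := (Setup.fget CfsgLib.Spor.Ly.GK.facts ((stabF 4).getD c 0)).p
    (w.all fun x => Nat.blt x CfsgLib.Spor.Ly.GK.P.g) && (([] : List Nat).all fun x => Nat.blt x CfsgLib.Spor.Ly.GK.P.g) && sameB CfsgLib.Spor.Ly.GK.P CfsgLib.Spor.Ly.GK.base (([] : List Nat) ++ w ++ ivw ([] : List Nat)) (e4.word (stabIdx4.getD c 0))) = true := by
  decide +kernel

theorem stab_ok1 : ((List.range 4).all fun c =>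
    let w := (Setup.fget CfsgLib.Spor.Ly.GK.facts ((stabF 1).getD c 0)).p
    (w.all fun x => Nat.blt x CfsgLib.Spor.Ly.GK.P.g) && Nat.beq (CfsgLib.Spor.Ly.GK.P.app w 3906) 3906) = true := by
  decide +kernel


end CfsgLib.KnownB.LyCent
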