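import Cfsg.Agent.Lib.Recog.CarmichaelPresentation
import Cfsg.Prelude.Def_SporadicB

/-!
Criteria for centralisers: a bound by fixed points, a double cover of an alternating group from
elements satisfying Carmichael's relations modulo the centre, and centres of central extensions of
simple groups.
-/

set_option autoImplicit false

namespace CfsgLib.KnownB.LyCent

open Subgroup MulAction

/-- The centraliser is at most the number of fixed points times the centraliser in a stabiliser. -/
theorem card_centralizer_le {G X : Type*} [Group G] [Finite G] [MulAction G X] (p : X) (t : G)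
    (ht : t • p = p) {f c : ℕ} (F : Finset X) (hF : F.card ≤ f) (hfix : ∀ q, t • q = q → q ∈ F)
    (hc : Nat.card (stabilizer G p ⊓ centralizer ({t} : Set G) : Subgroup G) ≤ c) :
    Nat.card (centralizer ({t} : Set G)) ≤ f * c := by
  set C := centralizer ({t} : Set G) with hC
  rw [← Subgroup.card_mul_index (stabilizer C p), MulAction.index_stabilizer, Nat.mul_comm f c]
  refine Nat.mul_le_mul (le_trans ?_ hc) (le_trans ?_ hF)
  · exact Nat.card_le_card_of_injective
      (fun g : stabilizer C p => (⟨g.1.1, g.2, g.1.2⟩ : (stabilizer G p ⊓ C : Subgroup G)))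
      fun a b h => Subtype.ext (Subtype.ext (congrArg Subtype.val h :))
  · rw [← Set.ncard_coe_finset F]
    refine Set.ncard_le_ncard ?_ F.finite_toSet
    rintro _ ⟨g, rfl⟩
    refine hfix _ ?_
    change t • ((g : G) • p) = (g : G) • p
    rw [← mul_smul, ← mem_centralizer_singleton_iff.1 g.2, mul_smul, ht]

/-- With simple non-abelian central quotient by `Z` the centre is `Z`. -/
theorem center_eq_of_simple_quotient {C : Type*} [Group C] (Z : Subgroup C) [Z.Normal]
    (hZ : Z ≤ center C) [IsSimpleGroup (C ⧸ Z)] (hna : ∃ a b : C ⧸ Z, a * b ≠ b * a) :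
    center C = Z := by
  refine le_antisymm ?_ hZ
  rcases IsSimpleGroup.eq_bot_or_eq_top_of_normal ((center C).map (QuotientGroup.mk' Z))
    (Subgroup.Normal.map inferInstance _ (QuotientGroup.mk'_surjective Z)) with h | h
  · rw [Subgroup.map_eq_bot_iff, QuotientGroup.ker_mk'] at h
    exact h
  · obtain ⟨a, b, hab⟩ := hna
    have ha : a ∈ (center C).map (QuotientGroup.mk' Z) := h ▸ mem_top a
    obtain ⟨x, hx, rfl⟩ := ha
    obtain ⟨y, rfl⟩ := QuotientGroup.mk'_surjective Z b
    exact absurd (by rw [← map_mul, ← map_mul, (mem_center_iff.1 hx y).symm]) hab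

/-- A non-split double cover of an alternating group from Carmichael's relations modulo `t`. -/
theorem isNonsplitDoubleCover_alt (m : ℕ) (hm : 3 ≤ m) {C : Type*} [Group C] [Finite C] (t : C)
    (ht2 : orderOf t = 2) (htc : t ∈ center C)
    (hcard : Nat.card C ≤ (m + 2).factorial) (y : Fin m → C)
    (hrel : ∀ r ∈ CfsgLib.Recog.carmichaelRelators m, FreeGroup.lift y r ∈ zpowers t)
    (hne : ∃ i, y i ∉ zpowers t) (q : C) (hq : q * q = t) :
    Cfsg.IsNonsplitDoubleCover C (alternatingGroup (Fin (m + 2))) := by
  haveI : (zpowers t).Normal := ⟨fun x hx g => by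
    rw [(mem_center_iff.1 (zpowers_le.2 htc hx) g), mul_assoc, mul_inv_cancel, mul_one]; exact hx⟩
  obtain ⟨e⟩ := CfsgLib.Recog.presentation_alternating m (by omega)
  let ψ : PresentedGroup (CfsgLib.Recog.carmichaelRelators m) →* C ⧸ zpowers t :=
    PresentedGroup.toGroup (f := fun i => QuotientGroup.mk' (zpowers t) (y i)) fun r hr => by
      rw [show FreeGroup.lift (fun i => QuotientGroup.mk' (zpowers t) (y i)) r =
        ((QuotientGroup.mk' (zpowers t)).comp (FreeGroup.lift y)) r from
          congrFun (congrArg DFunLike.coe (FreeGroup.ext_hom _ _ fun i => by simp)) r]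
      exact (QuotientGroup.eq_one_iff _).2 (hrel r hr)
  let φ : alternatingGroup (Fin (m + 2)) →* C ⧸ zpowers t := ψ.comp e.symm.toMonoidHom
  haveI hs : IsSimpleGroup (alternatingGroup (Fin (m + 2))) :=
    alternatingGroup.isSimpleGroup (by simp; omega)
  have hinj : Function.Injective φ := by
    rw [← MonoidHom.ker_eq_bot_iff]
    refine (IsSimpleGroup.eq_bot_or_eq_top_of_normal φ.ker inferInstance).resolve_right fun h => ?_
    obtain ⟨i, hi⟩ := hne
    have h' : φ (e (PresentedGroup.of i)) = 1 := MonoidHom.mem_ker.1 (h ▸ mem_top _)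
    simp only [φ, MonoidHom.comp_apply, MulEquiv.coe_toMonoidHom, MulEquiv.symm_apply_apply, ψ,
      PresentedGroup.toGroup.of] at h'
    exact hi ((QuotientGroup.eq_one_iff _).1 h')
  have hA := two_mul_nat_card_alternatingGroup (α := Fin (m + 2))
  rw [Nat.card_perm, Nat.card_fin] at hA
  have hle : Nat.card (C ⧸ zpowers t) ≤ Nat.card (alternatingGroup (Fin (m + 2))) := by
    have h := Subgroup.card_eq_card_quotient_mul_card_subgroup (zpowers t)
    rw [Nat.card_zpowers, ht2] at h
    omega
  let E : alternatingGroup (Fin (m + 2)) ≃* C ⧸ zpowers t :=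
    MulEquiv.ofBijective φ ((Nat.bijective_iff_injective_and_card φ).2
      ⟨hinj, le_antisymm (Nat.card_le_card_of_injective φ hinj) hle⟩)
  haveI : IsSimpleGroup (C ⧸ zpowers t) := E.symm.isSimpleGroup
  have hna : ∃ a b : C ⧸ zpowers t, a * b ≠ b * a := by
    by_contra h
    push Not at h
    have hcomm : ∀ a b : alternatingGroup (Fin (m + 2)), a * b = b * a := fun a b =>
      E.injective (by rw [map_mul, map_mul, h])
    haveI : IsMulCommutative (alternatingGroup (Fin (m + 2))) := ⟨⟨hcomm⟩⟩
    have := alternatingGroup.center_eq_bot (α := Fin (m + 2)) (by simp; omega)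
    rw [Subgroup.center_eq_top] at this
    exact top_ne_bot this
  have hcen : center C = zpowers t := center_eq_of_simple_quotient _ (zpowers_le.2 htc) hna
  refine ⟨by rw [hcen, Nat.card_zpowers, ht2],
    ⟨(QuotientGroup.quotientMulEquivOfEq hcen).trans E.symm⟩, fun L hL => ?_⟩
  rw [hcen] at hL
  obtain ⟨⟨z, l⟩, hzl⟩ := hL.2 q
  have hz2 : (z : C) * z = 1 := by
    obtain ⟨k, hk⟩ := mem_zpowers_iff.1 z.2
    have : t * t = 1 := by rw [← sq, ← ht2, pow_orderOf_eq_one]
    rw [← hk, ← (Commute.refl t).mul_zpow, this, one_zpow]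
  have hcm : (l : C) * z = z * l := mem_center_iff.1 (zpowers_le.2 htc z.2) l
  have hl : (l : C) * l = t := by
    rw [← hq, ← hzl]
    simp only
    calc (l : C) * l = ((z : C) * z) * (l * l) := by rw [hz2, one_mul]
      _ = (z : C) * (z * l) * l := by simp only [mul_assoc]
      _ = (z : C) * (l * z) * l := by rw [hcm]
      _ = (z : C) * l * (z * l) := by simp only [mul_assoc]
  have htL : t ∈ L := hl ▸ mul_mem l.2 l.2
  have ht1 : t = 1 := (Subgroup.disjoint_def.1 hL.disjoint) (mem_zpowers t) htL
  rw [ht1, orderOf_one] at ht2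
  exact absurd ht2 (by norm_num)

end CfsgLib.KnownB.LyCent
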