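import Cfsg.Prelude.Def_Sporadic
import Cfsg.Prelude.Def_SporadicB
import Cfsg.Prelude.Def_Exceptional
import Cfsg.Agent.Lib.Small.Basic

/-!
A group of Lyons order with a subgroup of index 8835156 as a permutation group.
-/

set_option autoImplicit false

namespace CfsgLib.KnownB.LyCent

open MulAction

theorem isNonsplit_congr {A B K : Type*} [Group A] [Group B] [Group K] (e : A ≃* B)
    (h : Cfsg.IsNonsplitDoubleCover A K) : Cfsg.IsNonsplitDoubleCover B K := by
  obtain ⟨h1, ⟨f⟩, h3⟩ := h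
  have hc : (Subgroup.center A).map e.toMonoidHom = Subgroup.center B := by
    ext b
    constructor
    · rintro ⟨a, ha, rfl⟩
      refine Subgroup.mem_center_iff.2 fun x => ?_
      obtain ⟨y, rfl⟩ := e.surjective x
      simp only [MulEquiv.coe_toMonoidHom]
      rw [← map_mul, ← map_mul, Subgroup.mem_center_iff.1 ha y]
    · intro hb
      obtain ⟨a, rfl⟩ := e.surjective b
      refine ⟨a, Subgroup.mem_center_iff.2 fun y => e.injective ?_, rfl⟩
      rw [map_mul, map_mul, Subgroup.mem_center_iff.1 hb (e y)]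
  refine ⟨?_, ⟨?_⟩, fun L hL => h3 (L.comap e.toMonoidHom) ?_⟩
  · rw [← h1, ← hc]
    exact (Nat.card_congr (e.subgroupMap _).toEquiv).symm
  · exact (QuotientGroup.congr _ _ e hc).symm.trans f
  · refine ⟨fun x y hxy => ?_, fun a => ?_⟩
    · have := hL.1 (a₁ := (⟨e x.1, hc ▸ ⟨_, x.1.2, rfl⟩⟩, ⟨e x.2, x.2.2⟩))
        (a₂ := (⟨e y.1, hc ▸ ⟨_, y.1.2, rfl⟩⟩, ⟨e y.2, y.2.2⟩))
        (by simpa only [← map_mul] using congrArg e hxy)
      simp only [Prod.mk.injEq, Subtype.mk.injEq, EmbeddingLike.apply_eq_iff_eq] at this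
      exact Prod.ext (Subtype.ext this.1) (Subtype.ext (e.injective (congrArg Subtype.val this.2)))
    · obtain ⟨⟨u, v⟩, huv⟩ := hL.2 (e a)
      obtain ⟨u', hu', eu⟩ := (hc.symm ▸ u.2 : (u : B) ∈ (Subgroup.center A).map e.toMonoidHom)
      obtain ⟨v', ev⟩ := e.surjective (v : B)
      refine ⟨(⟨u', hu'⟩, ⟨v', show e v' ∈ L from ev ▸ v.2⟩), e.injective ?_⟩
      simp only [map_mul]
      exact (congrArg₂ (· * ·) eu ev).trans huv

/-- the statement of the existence of the Lyons group from an abstract group -/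
theorem realization {G : Type*} [Group G] [Finite G] (hG : Cfsg.IsLy G) (K : Subgroup G)
    (hK : K.index = 8835156) (hK2 : IsSimpleGroup K) (t : G) (ht : orderOf t = 2)
    (hC : Cfsg.IsNonsplitDoubleCover (Subgroup.centralizer ({t} : Set G))
      (alternatingGroup (Fin 11))) :
    ∃ H : Subgroup (Equiv.Perm (Fin 8835156)), Cfsg.IsLy H ∧
      IsPretransitive H (Fin 8835156) ∧ Cfsg.IsG2 (stabilizer H (0 : Fin 8835156)) ∧
      ∃ t : H, orderOf t = 2 ∧ Cfsg.IsNonsplitDoubleCover
        (Subgroup.centralizer ({t} : Set H)) (alternatingGroup (Fin 11)) := by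
  haveI := hG.1
  have hne : K ≠ ⊤ := fun h => by rw [h, Subgroup.index_top] at hK; omega
  let e₀ : G ⧸ K ≃ Fin 8835156 :=
    (Finite.equivFin (G ⧸ K)).trans (finCongr ((Subgroup.index_eq_card K).symm.trans hK))
  let eK : G ⧸ K ≃ Fin 8835156 :=
    e₀.trans (Equiv.swap (e₀ ((1 : G) : G ⧸ K)) 0)
  have eK1 : eK ((1 : G) : G ⧸ K) = 0 := by simp [eK]
  let f : G →* Equiv.Perm (Fin 8835156) :=
    eK.permCongrHom.toMonoidHom.comp (MulAction.toPermHom G (G ⧸ K))
  have hf : Function.Injective f :=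
    eK.permCongrHom.injective.comp (CfsgLib.Small.toPermHom_injective hne)
  let e : G ≃* f.range := MonoidHom.ofInjective hf
  have hfix : ∀ g : G, f g (0 : Fin 8835156) = 0 ↔ g ∈ K := by
    intro g
    have h0 : f g (0 : Fin 8835156) = eK (g • ((1 : G) : G ⧸ K)) := by
      rw [← eK1]; simp [f, Equiv.permCongrHom, Equiv.permCongr_apply]
    rw [h0, ← eK1, EmbeddingLike.apply_eq_iff_eq, MulAction.Quotient.smul_mk, smul_eq_mul, mul_one,
      QuotientGroup.eq, mul_one, inv_mem_iff]
  have hst : K.map e.toMonoidHom = stabilizer f.range (0 : Fin 8835156) := by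
    ext x
    obtain ⟨g, rfl⟩ := e.surjective x
    constructor
    · rintro ⟨g', hg', e'⟩
      show f g (0 : Fin 8835156) = 0
      rw [← e.injective e']
      exact (hfix g').2 hg'
    · intro hx
      exact ⟨g, (hfix g).1 hx, rfl⟩
  refine ⟨f.range, ⟨e.symm.isSimpleGroup, ?_⟩, ⟨fun i j => ?_⟩, ?_, e t, ?_, ?_⟩
  · rw [← Nat.card_congr e.toEquiv]; exact hG.2
  · obtain ⟨gi, hgi⟩ := QuotientGroup.mk_surjective (eK.symm i)
    obtain ⟨gj, hgj⟩ := QuotientGroup.mk_surjective (eK.symm j)
    refine ⟨e (gj * gi⁻¹), ?_⟩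
    show eK.permCongr (MulAction.toPerm (gj * gi⁻¹)) i = j
    rw [Equiv.permCongr_apply, MulAction.toPerm_apply, ← hgi, MulAction.Quotient.smul_mk,
      smul_eq_mul, inv_mul_cancel_right, hgj, Equiv.apply_symm_apply]
  · rw [← hst]
    haveI := hK2
    have ek := (e.subgroupMap K).symm
    refine ⟨ek.isSimpleGroup, 5, ?_, by norm_num, ?_⟩
    · exact (Nat.prime_five).isPrimePow
    · refine (Nat.card_congr ek.toEquiv).trans ?_
      have h := Subgroup.card_mul_index K
      rw [hK, hG.2] at h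
      norm_num
      omega
  · rw [← ht]; exact orderOf_injective e.toMonoidHom e.injective t
  · have hmap : (Subgroup.centralizer ({t} : Set G)).map e.toMonoidHom =
        Subgroup.centralizer ({e t} : Set f.range) := by
      ext x
      obtain ⟨g, rfl⟩ := e.surjective x
      rw [Subgroup.mem_centralizer_singleton_iff]
      constructor
      · rintro ⟨g', hg', e'⟩
        rw [← e', MulEquiv.coe_toMonoidHom, ← map_mul, ← map_mul,
          Subgroup.mem_centralizer_singleton_iff.1 hg']
      · intro h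
        rw [← map_mul, ← map_mul] at h
        exact ⟨g, Subgroup.mem_centralizer_singleton_iff.2 (e.injective h), rfl⟩
    exact hmap ▸ isNonsplit_congr (e.subgroupMap _) hC

end CfsgLib.KnownB.LyCent
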