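import Mathlib

/-!
Simplicity of a primitive group with a prime dividing the degree once, generated by elements of that
order.
-/

set_option autoImplicit false

namespace CfsgLib.KnownB.LyCent

open MulAction Subgroup

theorem isSimpleGroup_of_blocks {G X : Type*} [Group G] [Finite G] [Nontrivial G] [Fintype X]
    [MulAction G X] [IsPretransitive G X] (hf : ∀ g : G, (∀ y : X, g • y = y) → g = 1)
    {p : ℕ} [hp : Fact p.Prime] (hpX : p ∣ Fintype.card X) (hp2 : ¬ p ^ 2 ∣ Nat.card G)
    (x₀ : X) {r : ℕ} (part : X → Fin r) (hx₀ : ∀ y, part y = part x₀ → y = x₀)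
    (hpart : ∀ y z, part y = part z → ∃ g : G, g • x₀ = x₀ ∧ g • y = z)
    (hblk : ∀ A : Finset (Fin r), part x₀ ∈ A →
      IsBlock G {y : X | part y ∈ A} → A = {part x₀} ∨ A = Finset.univ)
    (s : Set G) (hs : closure s = ⊤) (hgen : ∀ g ∈ s, ∃ u v : G, g = u * v ∧ u ^ p = 1 ∧ v ^ p = 1) :
    IsSimpleGroup G := by
  classical
  refine { eq_bot_or_eq_top_of_normal := fun N hN => ?_ }
  let A : Finset (Fin r) := Finset.univ.filter fun k => ∃ y ∈ orbit N x₀, part y = k
  have hO : ∀ y, y ∈ orbit N x₀ ↔ part y ∈ A := by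
    intro y
    simp only [A, Finset.mem_filter, Finset.mem_univ, true_and]
    refine ⟨fun h => ⟨y, h, rfl⟩, ?_⟩
    rintro ⟨z, ⟨n, rfl⟩, e⟩
    obtain ⟨g, hg0, hgz⟩ := hpart _ _ e
    refine ⟨⟨g * n * g⁻¹, hN.conj_mem _ n.2 g⟩, ?_⟩
    show (g * (n : G) * g⁻¹) • x₀ = y
    rw [mul_smul, mul_smul, show g⁻¹ • x₀ = x₀ from inv_smul_eq_iff.2 hg0.symm]
    exact hgz
  have hblock : IsBlock G (orbit N x₀) := IsBlock.orbit_of_normal x₀
  rcases hblk A ((hO x₀).1 (mem_orbit_self x₀))
    ((show {y : X | part y ∈ A} = orbit N x₀ from Set.ext fun y => (hO y).symm) ▸ hblock) with hA | hA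
  · left
    rw [eq_bot_iff]
    intro n hn
    refine Subgroup.mem_bot.2 (hf n fun y => ?_)
    obtain ⟨g, rfl⟩ := exists_smul_eq G x₀ y
    have h : (g⁻¹ * n * g) • x₀ = x₀ := by
      have hm : g⁻¹ * n * g ∈ N := by simpa using hN.conj_mem n hn g⁻¹
      refine hx₀ _ (Finset.mem_singleton.1 (hA ▸ (hO _).1 ?_))
      exact ⟨⟨_, hm⟩, rfl⟩
    rw [mul_smul, mul_smul, inv_smul_eq_iff] at h
    exact h
  · right
    have hsz : Nat.card (orbit N x₀) = Fintype.card X := by
      have : orbit N x₀ = Set.univ := Set.ext fun y => by simp [hO, hA]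
      rw [this]
      simp [Nat.card_eq_fintype_card]
    have hpN : p ∣ Nat.card N := by
      refine dvd_trans hpX (hsz ▸ ?_)
      rw [Nat.card_coe_set_eq, ← index_stabilizer]
      exact index_dvd_card _
    obtain ⟨n, hn⟩ := exists_prime_orderOf_dvd_card' p hpN
    have hall : ∀ u : G, u ^ p = 1 → u ∈ N := by
      intro u hu
      by_cases hu1 : u = 1
      · exact hu1 ▸ N.one_mem
      have hou : orderOf u = p := orderOf_eq_prime hu hu1
      have hu' : IsPGroup p (zpowers u) := IsPGroup.of_card (n := 1) (by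
        rw [Nat.card_zpowers, hou, pow_one])
      have hn' : IsPGroup p (zpowers (n : G)) := IsPGroup.of_card (n := 1) (by
        rw [Nat.card_zpowers, Subgroup.orderOf_coe, hn, pow_one])
      obtain ⟨P, hP⟩ := hu'.exists_le_sylow
      obtain ⟨R, hR⟩ := hn'.exists_le_sylow
      have hcard : ∀ T : Sylow p G, Nat.card T ≤ p := by
        intro T
        obtain ⟨k, hk⟩ := IsPGroup.iff_card.1 T.isPGroup'
        rw [hk]
        rcases k with _ | _ | k
        · simpa using hp.out.one_le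
        · simp
        · exact absurd ((Dvd.intro _ (by ring : p ^ 2 * p ^ k = p ^ (k + 1 + 1))).trans
            (hk ▸ Subgroup.card_subgroup_dvd_card (T : Subgroup G))) hp2
      have eR : zpowers (n : G) = R := Subgroup.eq_of_le_of_card_ge hR (by
        rw [Nat.card_zpowers, Subgroup.orderOf_coe, hn]; exact hcard R)
      obtain ⟨g, hg⟩ := exists_smul_eq G R P
      have hPN : (P : Subgroup G) ≤ N := by
        intro y hy
        rw [← hg] at hy
        obtain ⟨z, hz, rfl⟩ := hy
        refine hN.conj_mem z (zpowers_le.2 n.2 ?_) g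
        rw [eR]; exact hz
      exact hPN (hP (mem_zpowers u))
    rw [eq_top_iff, ← hs, closure_le]
    intro g hg
    obtain ⟨u, v, rfl, hu, hv⟩ := hgen g hg
    exact N.mul_mem (hall u hu) (hall v hv)

/-- The divisibility form. -/
theorem isSimpleGroup_of_parts {G X : Type*} [Group G] [Finite G] [Nontrivial G] [Fintype X]
    [MulAction G X] [IsPretransitive G X] (hf : ∀ g : G, (∀ y : X, g • y = y) → g = 1)
    {p : ℕ} [hp : Fact p.Prime] (hpX : p ∣ Fintype.card X) (hp2 : ¬ p ^ 2 ∣ Nat.card G)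
    (x₀ : X) {r : ℕ} (part : X → Fin r) (hx₀ : ∀ y, part y = part x₀ → y = x₀)
    (hpart : ∀ y z, part y = part z → ∃ g : G, g • x₀ = x₀ ∧ g • y = z)
    (hdiv : ∀ A : Finset (Fin r), part x₀ ∈ A →
      (Finset.univ.filter fun y => part y ∈ A).card ∣ Fintype.card X →
      A = {part x₀} ∨ A = Finset.univ)
    (s : Set G) (hs : closure s = ⊤) (hgen : ∀ g ∈ s, ∃ u v : G, g = u * v ∧ u ^ p = 1 ∧ v ^ p = 1) :
    IsSimpleGroup G := by
  classical
  refine isSimpleGroup_of_blocks hf hpX hp2 x₀ part hx₀ hpart (fun A hA hB => hdiv A hA ?_) s hs hgen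
  have h := hB.ncard_dvd_card ⟨x₀, hA⟩
  rw [Nat.card_eq_fintype_card] at h
  convert h
  rw [← Set.ncard_coe_finset]
  exact congrArg Set.ncard (Set.ext fun y => by simp)

end CfsgLib.KnownB.LyCent
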