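import Cfsg.Agent.Lib.KnownB.LyCent.KCent
import Cfsg.Agent.Lib.KnownB.LyCent.DataSub
import Cfsg.Agent.Lib.KnownB.LyCent.DataUp
import Cfsg.Agent.Lib.KnownB.LyCent.Simple
import Cfsg.Agent.Lib.Spor.Ly.GKData

/-!
The group of degree 23436 and order 5859000000 is simple.
-/

set_option autoImplicit false
set_option maxRecDepth 100000

namespace CfsgLib.KnownB.LyCent

open CfsgLib.PresCert CfsgLib.DCE MulAction
open CfsgLib.Spor.Ly

/-- the suborbit of a point -/
noncomputable def subOf (q : Nat) : Nat := partT.half q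

theorem sub_levels : okWOrbit GK.P sub1 = true ∧ okWOrbit GK.P sub2 = true ∧
    okWOrbit GK.P sub3 = true ∧ okWOrbit GK.P kL0 = true := by decide +kernel

theorem sub_fix : ([sub1, sub2, sub3].all fun L =>
    L.gens.all fun w => Nat.beq (GK.P.app w 0) 0) = true ∧ kL0.base = 0 := by decide +kernel

/-- a point lies on an orbit -/
noncomputable def onOrbit (L : WLevel) (q : Nat) : Bool :=
  Nat.blt (L.pos.word q) L.len &&
    Nat.beq (Nat.land (L.orb.word (L.pos.word q)) (nat_lit 65535)) q

theorem sub_cover : (allBelow 3906 fun q => Nat.blt (subOf q) 4 && onOrbit kL0 q &&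
    (!(Nat.beq (subOf q) 0) || Nat.beq q 0) && (!(Nat.beq (subOf q) 1) || onOrbit sub1 q) &&
    (!(Nat.beq (subOf q) 2) || onOrbit sub2 q) &&
    (!(Nat.beq (subOf q) 3) || onOrbit sub3 q)) = true := by decide +kernel

theorem low_id' : (allBelow 3906 fun i => Nat.beq (prT.half i) i) = true := by decide +kernel

/-- a word separating the points `0` and the suborbit of 30 points -/
def wSep : List Nat := [6, 4, 1, 2, 4, 6]

theorem sep_ok : subOf (GK.P.app wSep 0) = 3 ∧ subOf 1603 = 3 ∧ subOf (GK.P.app wSep 1603) = 2 ∧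
    (wSep.all fun x => Nat.blt x GK.P.g) = true ∧ subOf 0 = 0 := by decide +kernel

theorem fac31_ok : (fac31.all fun e => (e.2.all fun x => Nat.blt x GK.P.g) &&
    Nat.blt e.1 GK.P.g && sameB GK.P GK.base ((List.replicate 31 e.2).flatten) [] &&
    sameB GK.P GK.base ((List.replicate 31 ([e.1] ++ ivw e.2)).flatten) []) = true ∧
    fac31.map Prod.fst = [0, 2, 4, 6] := by decide +kernel

theorem class_sizes : (List.range 4).map (fun i =>
    ((List.range 3906).filter fun q => Nat.beq (subOf q) i).length) = [1, 3125, 750, 30] := by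
  decide +kernel

theorem sub_div : ∀ A : Finset (Fin 4), (0 : Fin 4) ∈ A →
    (∑ i ∈ A, ![1, 3125, 750, 30] i) ∣ 3906 → A = {0} ∨ A = Finset.univ ∨ A = {0, 3} := by
  decide +kernel

theorem val_replicate {P : PermData} {H : Type*} [Group H] (M : Perms P H) (n : Nat) (w : List Nat) :
    M.val ((List.replicate n w).flatten) = M.val w ^ n := by
  induction n with
  | zero => simp [Perms.val, wv]
  | succ n ih => rw [List.replicate_succ, List.flatten_cons, Perms.val_append, ih, pow_succ']

/-- The group is simple. -/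
theorem isSimpleGroup_K {H : Type*} [Group H] [Finite H] (M : Perms GK.P H)
    (hcard : Nat.card H = 5859000000) (hgen : Subgroup.closure (Set.range M.gen) = ⊤)
    (inj : ∀ h : H, (∀ i : Fin GK.P.n, (i : Nat) ∈ GK.base → M.act h i = i) → h = 1) :
    IsSimpleGroup H := by
  classical
  haveI : Fact (Nat.Prime 31) := ⟨by norm_num⟩
  haveI : Nontrivial H := Finite.one_lt_card_iff_nontrivial.1 (by rw [hcard]; norm_num)
  have hn : ∀ q : Fin 3906, (q : Nat) < GK.P.n := fun q => by
    rw [degree]; omega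
  have hlow : ∀ (g : H) (q : Fin 3906), (M.act g ⟨q, hn q⟩ : Nat) < 3906 := by
    intro g q
    have h0 : projPt proj_ok ⟨q, hn q⟩ = ⟨q, hn q⟩ := Fin.ext (by
      have h := allBelow_spec low_id' q q.2
      rwa [Nat.beq_eq] at h)
    have h := pr_act M proj_ok hgen g ⟨q, hn q⟩
    rw [h0] at h
    rw [← h]
    have h' := allBelow_spec proj_lt _ (M.act g ⟨q, hn q⟩).2
    rwa [Nat.blt_eq] at h'
  let sm : H → Fin 3906 → Fin 3906 := fun g q => ⟨M.act g⁻¹ ⟨q, hn q⟩, hlow g⁻¹ q⟩
  letI : MulAction H (Fin 3906) :=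
    { smul := sm
      one_smul := fun q => Fin.ext (by
        show (M.act (1 : H)⁻¹ ⟨q, hn q⟩ : Nat) = q
        rw [inv_one, Perms.act_one])
      mul_smul := fun g g' q => Fin.ext (by
        show (M.act (g * g')⁻¹ ⟨q, hn q⟩ : Nat) = M.act g⁻¹ ⟨sm g' q, hn _⟩
        rw [mul_inv_rev, Perms.act_mul]) }
  have hsm : ∀ (g : H) (q : Fin 3906), ((g • q : Fin 3906) : Nat) = M.act g⁻¹ ⟨q, hn q⟩ :=
    fun _ _ => rfl
  have hword : ∀ w : List Nat, (∀ x ∈ w, x < GK.P.g) → ∀ q : Fin 3906,
      (((M.val w)⁻¹ • q : Fin 3906) : Nat) = GK.P.app w q := fun w hw q => by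
    rw [hsm, inv_inv]
    exact (M.app_eq w hw ⟨q, hn q⟩).symm
  -- orbits of levels
  have horbit : ∀ (L : WLevel) (U : Subgroup H), okWOrbit GK.P L = true →
      (∀ w ∈ L.gens, M.val w ∈ U) → ∀ q : Fin 3906, onOrbit L q = true →
      ∀ b : Fin 3906, (b : Nat) = L.base → ∃ g ∈ U, g • b = q := by
    intro L U hL hU q hq b hb
    simp only [okWOrbit, Bool.and_eq_true, List.all_eq_true, Nat.blt_eq, Nat.beq_eq] at hL
    obtain ⟨⟨⟨⟨-, h00⟩, -⟩, hgl⟩, horb'⟩ := hL
    have horb := fun p hp => allBelow_spec horb' p hp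
    simp only [Bool.and_eq_true, Bool.or_eq_true, Nat.blt_eq, Nat.beq_eq] at horb
    have key : ∀ p, p < L.len → ∃ g ∈ U,
        ((g • b : Fin 3906) : Nat) = Nat.land (L.orb.word p) 65535 := by
      intro p
      induction p using Nat.strong_induction_on with
      | _ p ihp =>
        intro hp
        obtain ⟨-, hp0 | ⟨⟨hpar, hk⟩, himg⟩⟩ := horb p hp
        · subst hp0
          exact ⟨1, one_mem _, by rw [one_smul, h00, hb]⟩
        obtain ⟨g, hg, eg⟩ := ihp _ hpar (hpar.trans hp)
        have hmem : L.gens.getD (Nat.shiftRight (L.orb.word p) 32) [] ∈ L.gens := by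
          rw [List.getD_eq_getElem?_getD, List.getElem?_eq_getElem hk]
          exact List.getElem_mem hk
        generalize L.gens.getD (Nat.shiftRight (L.orb.word p) 32) [] = w at hmem himg
        refine ⟨(M.val w)⁻¹ * g, mul_mem (inv_mem (hU _ hmem)) hg, ?_⟩
        rw [mul_smul, hword w (hgl _ hmem), eg]
        exact himg
    simp only [onOrbit, Bool.and_eq_true, Nat.blt_eq, Nat.beq_eq] at hq
    obtain ⟨g, hg, eg⟩ := key _ hq.1
    exact ⟨g, hg, Fin.ext (eg.trans hq.2)⟩
  have hcov := fun q : Fin 3906 => allBelow_spec sub_cover q q.2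
  simp only [Bool.and_eq_true, Bool.or_eq_true, Bool.not_eq_true', Nat.blt_eq, Nat.beq_eq] at hcov
  let x₀ : Fin 3906 := ⟨0, by norm_num⟩
  haveI : IsPretransitive H (Fin 3906) := by
    refine ⟨fun p q => ?_⟩
    obtain ⟨g, -, eg⟩ := horbit kL0 ⊤ sub_levels.2.2.2 (fun _ _ => trivial) p (hcov p).1.1.1.1.2 x₀
      (sub_fix.2.symm)
    obtain ⟨g', -, eg'⟩ := horbit kL0 ⊤ sub_levels.2.2.2 (fun _ _ => trivial) q (hcov q).1.1.1.1.2 x₀
      (sub_fix.2.symm)
    exact ⟨g' * g⁻¹, by rw [← eg, ← eg', mul_smul, inv_smul_smul]⟩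
  let part : Fin 3906 → Fin 4 := fun q => ⟨subOf q, (hcov q).1.1.1.1.1⟩
  have hx0 : part x₀ = 0 := Fin.ext sep_ok.2.2.2.2
  have hfilter : ∀ i : Fin 4, (Finset.univ.filter fun q : Fin 3906 => part q = i).card =
      ![1, 3125, 750, 30] i := by
    intro i
    have hL : ((List.range 3906).filter fun q => Nat.beq (subOf q) i).length =
        ![1, 3125, 750, 30] i := by
      have h := congrArg (fun l => l.getD (i : Nat) 0) class_sizes
      fin_cases i <;> simpa using h
    rw [← hL, ← List.toFinset_card_of_nodup (List.nodup_range.filter _)]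
    refine Finset.card_bij (fun q _ => (q : Nat)) (fun q hq => ?_) (fun a _ b _ e => Fin.ext e)
      (fun q hq => ?_)
    · simp only [Finset.mem_filter, Finset.mem_univ, true_and] at hq
      simp only [List.mem_toFinset, List.mem_filter, List.mem_range, Nat.beq_eq]
      exact ⟨q.2, congrArg Fin.val hq⟩
    · simp only [List.mem_toFinset, List.mem_filter, List.mem_range, Nat.beq_eq] at hq
      exact ⟨⟨q, hq.1⟩, Finset.mem_filter.2 ⟨Finset.mem_univ _, Fin.ext hq.2⟩, rfl⟩
  refine isSimpleGroup_of_blocks (p := 31) (fun g hg => ?_) (by rw [Fintype.card_fin]; norm_num)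
    (by rw [hcard]; norm_num) x₀ part (fun y hy => ?_) (fun y z e => ?_) (fun A hA hB => ?_)
    {g | ∃ x ∈ [0, 2, 4, 6], M.val [x] = g} ?_ ?_
  · refine inv_eq_one.1 (inj _ fun i hi => Fin.ext ?_)
    have hi' : (i : Nat) < 3906 := by
      simp only [GK.base, List.mem_cons, List.not_mem_nil, or_false] at hi
      omega
    have h := congrArg Fin.val (hg ⟨i, hi'⟩)
    rwa [hsm] at h
  · rw [hx0] at hy
    rcases (hcov y).1.1.1.2 with h | h
    · rw [show subOf y = 0 from congrArg Fin.val hy] at h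
      simp at h
    · exact Fin.ext h
  · have hstab : ∀ L : WLevel, L ∈ [sub1, sub2, sub3] → okWOrbit GK.P L = true →
        ∀ w ∈ L.gens, M.val w ∈ stabilizer H x₀ := by
      intro L hL hok w hw
      have h := List.all_eq_true.1 (List.all_eq_true.1 sub_fix.1 L hL) w hw
      rw [Nat.beq_eq] at h
      simp only [okWOrbit, Bool.and_eq_true, List.all_eq_true, Nat.blt_eq] at hok
      rw [← inv_mem_iff]
      exact Fin.ext ((hword w (hok.1.2 w hw) x₀).trans h)
    have hsame : ∀ (L : WLevel) (i : Nat), L ∈ [sub1, sub2, sub3] → okWOrbit GK.P L = true →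
        (∀ q : Fin 3906, subOf q = i → onOrbit L q = true) → subOf y = i →
        ∃ g : H, g • x₀ = x₀ ∧ g • y = z := by
      intro L i hL hok hon hy
      have hz : subOf z = i := (congrArg Fin.val e).symm.trans hy
      have hb : L.base < 3906 := by
        simp only [List.mem_cons, List.not_mem_nil, or_false] at hL
        rcases hL with rfl | rfl | rfl <;> decide +kernel
      obtain ⟨g, hg, eg⟩ := horbit L _ hok (hstab L hL hok) y (hon y hy) ⟨L.base, hb⟩ rfl
      obtain ⟨g', hg', eg'⟩ := horbit L _ hok (hstab L hL hok) z (hon z hz) ⟨L.base, hb⟩ rfl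
      exact ⟨g' * g⁻¹, mul_mem hg' (inv_mem hg), by rw [← eg, ← eg', mul_smul, inv_smul_smul]⟩
    have hno : ∀ {i : Nat} {b : Bool} (q : Fin 3906), subOf q = i →
        Nat.beq (subOf q) i = false ∨ b = true → b = true := fun q hq h => by
      rcases h with h | h
      · rw [hq] at h; simp at h
      · exact h
    rcases (show subOf y = 0 ∨ subOf y = 1 ∨ subOf y = 2 ∨ subOf y = 3 by
      have := (hcov y).1.1.1.1.1; omega) with h | h | h | h
    · refine ⟨1, one_smul _ _, ?_⟩
      have hz : subOf z = 0 := (congrArg Fin.val e).symm.trans h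
      have hy0 : (y : Nat) = 0 := by
        rcases (hcov y).1.1.1.2 with h' | h'
        · rw [h] at h'; simp at h'
        · exact h'
      have hz0 : (z : Nat) = 0 := by
        rcases (hcov z).1.1.1.2 with h' | h'
        · rw [hz] at h'; simp at h'
        · exact h'
      rw [one_smul]
      exact Fin.ext (hy0.trans hz0.symm)
    · exact hsame sub1 1 (by simp) sub_levels.1 (fun q hq => hno q hq (hcov q).1.1.2) h
    · exact hsame sub2 2 (by simp) sub_levels.2.1 (fun q hq => hno q hq (hcov q).1.2) h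
    · exact hsame sub3 3 (by simp) sub_levels.2.2.1 (fun q hq => hno q hq (hcov q).2) h
  · rw [hx0] at hA
    have hd : (∑ i ∈ A, ![1, 3125, 750, 30] i) ∣ 3906 := by
      have h := hB.ncard_dvd_card ⟨x₀, show part x₀ ∈ A from hx0.symm ▸ hA⟩
      rw [Nat.card_eq_fintype_card, Fintype.card_fin] at h
      convert h
      rw [show {y : Fin 3906 | part y ∈ A} = ↑(Finset.univ.filter fun q => part q ∈ A) from
        Set.ext fun q => by simp, Set.ncard_coe_finset,
        Finset.card_eq_sum_card_fiberwise (f := part) (t := A) (fun q hq => by simpa using hq)]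
      refine Finset.sum_congr rfl fun i hi => ?_
      rw [← hfilter i, Finset.filter_filter]
      refine congrArg Finset.card (Finset.filter_congr fun q _ => ?_)
      exact ⟨fun h => ⟨h ▸ hi, h⟩, fun h => h.2⟩
    rw [hx0]
    rcases sub_div A hA hd with h | h | h
    · exact Or.inl h
    · exact Or.inr h
    · exfalso
      subst h
      obtain ⟨e1, e2, e3, e4, e5⟩ := sep_ok
      simp only [List.all_eq_true, Nat.blt_eq] at e4
      let zz : Fin 3906 := ⟨1603, by norm_num⟩
      have hm : ∀ q : Fin 3906, subOf q = 0 ∨ subOf q = 3 → part q ∈ ({0, 3} : Finset (Fin 4)) :=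
        fun q h => by
          rcases h with h | h
          · simp [show part q = 0 from Fin.ext h]
          · simp [show part q = 3 from Fin.ext h]
      have hd' := (isBlock_iff_smul_eq_of_nonempty.1 hB) (g := (M.val wSep)⁻¹)
        ⟨(M.val wSep)⁻¹ • x₀,
          ⟨x₀, hm _ (Or.inl e5), rfl⟩, hm _ (Or.inr (by rw [hword _ e4]; exact e1))⟩
      have hin : (M.val wSep)⁻¹ • zz ∈ {y : Fin 3906 | part y ∈ ({0, 3} : Finset (Fin 4))} :=
        hd' ▸ Set.smul_mem_smul_set (hm zz (Or.inr e2))
      have h2 : subOf ((M.val wSep)⁻¹ • zz : Fin 3906) = 2 := by rw [hword _ e4]; exact e3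
      simp [part, h2, Fin.ext_iff] at hin
  · rw [eq_top_iff, ← hgen, Subgroup.closure_le]
    rintro _ ⟨j, rfl⟩
    refine Subgroup.subset_closure ⟨2 * (j : Nat), ?_, ?_⟩
    · have hm : M.m = 4 := by
        have h : (8 : Nat) = 2 * M.m := letters ▸ M.g_eq
        omega
      have hj : (j : Nat) < 4 := hm ▸ j.2
      simp only [List.mem_cons, List.not_mem_nil, or_false]
      omega
    · have hd : 2 * (j : Nat) / 2 = j := by omega
      simp [Perms.val, wv, lv, hd]
  · rintro _ ⟨x, hx, rfl⟩
    obtain ⟨hf, hfst⟩ := fac31_ok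
    rw [← hfst, List.mem_map] at hx
    obtain ⟨⟨x', w⟩, hmem, rfl⟩ := hx
    have h := List.all_eq_true.1 hf _ hmem
    simp only [Bool.and_eq_true, List.all_eq_true, Nat.blt_eq] at h
    obtain ⟨⟨⟨hw, hx'⟩, h1⟩, h2⟩ := h
    have hu : ∀ y ∈ [x'] ++ ivw w, y < GK.P.g := by
      simp only [List.mem_append, List.mem_singleton]
      rintro y (rfl | hy)
      exacts [hx', M.ivw_lt hw y hy]
    have hrep : ∀ u : List Nat, (∀ y ∈ u, y < GK.P.g) →
        sameB GK.P GK.base ((List.replicate 31 u).flatten) [] = true → M.val u ^ 31 = 1 := by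
      intro u hu h
      rw [← val_replicate, val_of_sameB M inj (fun y hy => by
        obtain ⟨l, hl, hyl⟩ := List.mem_flatten.1 hy
        rw [List.eq_of_mem_replicate hl] at hyl
        exact hu y hyl) (by simp) h]
      simp [Perms.val, wv]
    refine ⟨M.val ([x'] ++ ivw w), M.val w, ?_, hrep _ hu h2, hrep _ hw h1⟩
    rw [Perms.val_append, Perms.val_ivw, inv_mul_cancel_right]

end CfsgLib.KnownB.LyCent
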