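import Cfsg.Agent.Lib.KnownB.LyCent.Final
import Cfsg.Agent.Lib.KnownB.LyCent.Simple
import Cfsg.Agent.Lib.KnownB.LyCent.SimpleK
import Cfsg.Agent.Lib.KnownB.LyCent.ChkRuns11

/-!
A finite group with a closed enumeration of the Lyons group is simple.
-/

set_option autoImplicit false
set_option maxRecDepth 100000

namespace CfsgLib.KnownB.LyCent

open CfsgLib.PresCert CfsgLib.DCE MulAction
open CfsgLib.Spor.Ly

/-- lengths of the orbits -/
def orbSizes : Fin 5 → ℕ := ![1, 19530, 5812500, 2034375, 968750]

theorem orb_div : ∀ A : Finset (Fin 5), (0 : Fin 5) ∈ A →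
    (∑ i ∈ A, orbSizes i) ∣ 8835156 → A = {0} ∨ A = Finset.univ := by decide +kernel

theorem orb_sum : ∑ i, orbSizes i = 8835156 ∧ ∀ i, orbSizes i * sizes i = 5859000000 := by
  decide +kernel

theorem lt11 : (∀ n : Fin 5, ((v11 n).all fun x => Nat.blt x 9) = true) := by decide +kernel

variable {H Q : Type*} [Group H] [Group Q] [Finite H] [Finite Q] {N : Model GK.S H Q} (T : Kit N)

include T in
/-- The group is simple. -/
theorem isSimpleGroup_Q : IsSimpleGroup Q := by
  classical
  haveI : Fact (Nat.Prime 11) := ⟨by norm_num⟩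
  letI : Fintype (Q ⧸ N.f.range) := Fintype.ofFinite _
  let one : Q ⧸ N.f.range := ((1 : Q) : Q ⧸ N.f.range)
  let bij := Equiv.ofBijective _ T.hbij
  let part : Q ⧸ N.f.range → Fin 5 := fun q => part5 (bij.symm q).1
  have hpt : ∀ z, part (pointOf N T.hls T.hfs z) = part5 z.1 := fun z => by
    show part5 (bij.symm (pointOf N T.hls T.hfs z)).1 = part5 z.1
    rw [show pointOf N T.hls T.hfs z = bij z from rfl, Equiv.symm_apply_apply]
  have hindex : ∀ k : Fin GK.lives.length,
      Nat.card (H ⧸ liveStab N GK.facts GK.lives[k]) = orbSizes (part5 k) := by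
    intro k
    have h := Subgroup.card_mul_index (liveStab N GK.facts GK.lives[k])
    rw [T.hcard, T.hsize k, ← orb_sum.2 (part5 k), Nat.mul_comm] at h
    rw [← Subgroup.index_eq_card]
    refine Nat.eq_of_mul_eq_mul_right ?_ h
    exact (T.hsize k) ▸ Nat.card_pos
  have hfib : ∀ i : Fin 5, (Finset.univ.filter fun q => part q = i).card = orbSizes i := by
    intro i
    obtain ⟨k, rfl⟩ := part5.surjective i
    rw [← hindex k]
    letI : Fintype (H ⧸ liveStab N GK.facts GK.lives[k]) := Fintype.ofFinite _
    rw [Nat.card_eq_fintype_card, ← Finset.card_univ]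
    refine (Finset.card_bij (fun x _ => pointOf N T.hls T.hfs ⟨k, x⟩) ?_ ?_ ?_).symm
    · intro x _
      simp only [Finset.mem_filter, Finset.mem_univ, true_and]
      exact hpt _
    · intro x _ x' _ e
      exact eq_of_heq (Sigma.mk.inj (T.hbij.1 e)).2
    · intro q hk
      obtain ⟨⟨k', x⟩, rfl⟩ := T.hbij.2 q
      simp only [Finset.mem_filter, Finset.mem_univ, true_and, hpt,
        EmbeddingLike.apply_eq_iff_eq] at hk
      subst hk
      exact ⟨x, Finset.mem_univ _, rfl⟩
  have hsum : ∀ A : Finset (Fin 5),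
      (Finset.univ.filter fun q => part q ∈ A).card = ∑ i ∈ A, orbSizes i := by
    intro A
    rw [Finset.card_eq_sum_card_fiberwise (f := part) (t := A) (fun q hq => by simpa using hq)]
    refine Finset.sum_congr rfl fun i hi => ?_
    rw [← hfib i, Finset.filter_filter]
    refine congrArg Finset.card (Finset.filter_congr fun q _ => ?_)
    exact ⟨fun h => h.2, fun h => ⟨h ▸ hi, h⟩⟩
  have hcardX : Fintype.card (Q ⧸ N.f.range) = 8835156 := by
    rw [← orb_sum.1, ← hsum, ← Finset.card_univ]
    simp
  have hcard : Nat.card Q = 8835156 * 5859000000 := by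
    rw [← Subgroup.card_mul_index N.f.range, ← Nat.card_congr (MonoidHom.ofInjective T.hinj).toEquiv,
      T.hcard, Subgroup.index_eq_card, Nat.card_eq_fintype_card, hcardX, Nat.mul_comm]
  haveI : Nontrivial Q := Finite.one_lt_card_iff_nontrivial.1 (by rw [hcard]; norm_num)
  obtain ⟨k0, hk0⟩ := part5.surjective 0
  have hone : pointOf N T.hls T.hfs ⟨k0, ((1 : H) : H ⧸ liveStab N GK.facts GK.lives[k0])⟩ = one := by
    rw [pointOf_mk, (lives_facts k0).1, hk0, show N.g (orbNo 0) = 1 by simp [orbNo, Model.g],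
      map_one, inv_one, mul_one]
  have hpart1 : part one = 0 := by rw [← hone, hpt]; exact hk0
  have hfix : ∀ h : H, N.f h • one = one := fun h => by
    simp only [one, MulAction.Quotient.smul_mk, smul_eq_mul, mul_one]
    exact QuotientGroup.eq.2 ⟨h⁻¹, by simp⟩
  refine isSimpleGroup_of_parts (p := 11) (fun g hg => ?_) (by rw [hcardX]; norm_num)
    (by rw [hcard]; norm_num) one part (fun q hq => ?_) (fun y z e => ?_)
    (fun A hA hd => ?_) {q | ∃ n : Fin 5, ((g11 n).map N.gen').prod = q} ?_ ?_
  · -- a kernel in the point stabiliser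
    have hr : g ∈ N.f.range := by
      have h := hg one
      simp only [one, MulAction.Quotient.smul_mk, smul_eq_mul, mul_one] at h
      simpa using QuotientGroup.eq.1 h.symm
    obtain ⟨h, rfl⟩ := hr
    haveI : IsSimpleGroup H := isSimpleGroup_K N.M T.hcard N.gen_top N.inj
    let K : Subgroup H :=
      { carrier := {h | ∀ q : Q ⧸ N.f.range, N.f h • q = q}
        one_mem' := fun q => by rw [map_one, one_smul]
        mul_mem' := fun {a b} ha hb q => by rw [map_mul, mul_smul, hb q, ha q]
        inv_mem' := fun {a} ha q => by rw [map_inv, inv_smul_eq_iff, ha q] }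
    haveI : K.Normal := ⟨fun a ha b q => by
      rw [map_mul, map_mul, map_inv, mul_smul, mul_smul, ha, smul_inv_smul]⟩
    rcases IsSimpleGroup.eq_bot_or_eq_top_of_normal K inferInstance with hK | hK
    · rw [Subgroup.mem_bot.1 (hK ▸ (show h ∈ K from hg) : h ∈ (⊥ : Subgroup H)), map_one]
    · exfalso
      obtain ⟨k1, hk1⟩ := part5.surjective 1
      have hall : ∀ x : H ⧸ liveStab N GK.facts GK.lives[k1],
          x = ((1 : H) : H ⧸ liveStab N GK.facts GK.lives[k1]) := by
        intro x
        induction x using QuotientGroup.induction_on with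
        | H a =>
          have h' := (show a⁻¹ ∈ K from hK ▸ Subgroup.mem_top _)
            (pointOf N T.hls T.hfs ⟨k1, (a : H ⧸ liveStab N GK.facts GK.lives[k1])⟩)
          rw [pointOf_smul, MulAction.Quotient.smul_mk, smul_eq_mul, inv_mul_cancel] at h'
          exact (eq_of_heq (Sigma.mk.inj (T.hbij.1 h')).2).symm
      haveI : Subsingleton (H ⧸ liveStab N GK.facts GK.lives[k1]) :=
        ⟨fun x y => (hall x).trans (hall y).symm⟩
      have h' := hindex k1
      rw [Nat.card_of_subsingleton ((1 : H) : H ⧸ liveStab N GK.facts GK.lives[k1]), hk1] at h'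
      simp [orbSizes] at h'
  · rw [hpart1] at hq
    by_contra hne
    have h2 : 1 < (Finset.univ.filter fun p => part p = 0).card :=
      Finset.one_lt_card.2 ⟨q, by simp [hq], one, by simp [hpart1], hne⟩
    rw [hfib] at h2
    simp [orbSizes] at h2
  · obtain ⟨⟨k, x⟩, rfl⟩ := T.hbij.2 y
    obtain ⟨⟨k', x'⟩, rfl⟩ := T.hbij.2 z
    rw [hpt, hpt, EmbeddingLike.apply_eq_iff_eq] at e
    subst e
    obtain ⟨g, rfl⟩ := exists_smul_eq H x x'
    exact ⟨N.f g, hfix g, pointOf_smul N T.hls T.hfs k g x⟩
  · rw [hpart1] at hA ⊢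
    refine orb_div A hA ?_
    rwa [← hsum, ← hcardX]
  · rw [eq_top_iff, ← N.top, Subgroup.closure_le]
    have hm : N.M.m = 4 := by
      have h : (8 : Nat) = 2 * N.M.m := letters ▸ N.M.g_eq
      omega
    have hT : N.T 0 = (([8] : List Nat).map N.gen').prod := by
      rw [List.map_singleton, List.prod_singleton, N.gen'_let 8 (le_refl _) (show 8 < 9 by decide),
        show (GK.S.letE 8) = (0, []) from rfl]
      simp [Perms.val, wv]
    rintro q (⟨x, rfl⟩ | ⟨e, he, rfl⟩)
    · set C := Subgroup.closure {q : Q | ∃ n : Fin 5, ((g11 n).map N.gen').prod = q}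
      have hx : x ∈ C.comap N.f := by
        refine (Subgroup.closure_le _).2 ?_ (N.gen_top ▸ Subgroup.mem_top x)
        rintro _ ⟨j, rfl⟩
        have hj : (j : Nat) < 4 := hm ▸ j.2
        refine Subgroup.subset_closure ⟨⟨j, by omega⟩, ?_⟩
        have e : g11 ⟨(j : Nat), by omega⟩ = [2 * (j : Nat)] := by
          rcases (show (j : Nat) = 0 ∨ (j : Nat) = 1 ∨ (j : Nat) = 2 ∨ (j : Nat) = 3 by omega) with
            h | h | h | h <;> simp [h, g11]
        have hlt : 2 * (j : Nat) < GK.S.P.g := show 2 * (j : Nat) < 8 by omega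
        rw [e, List.map_singleton, List.prod_singleton, N.gen'_lt _ hlt]
        refine congrArg N.f ?_
        have hd : 2 * (j : Nat) / 2 = j := by omega
        simp [Perms.val, wv, lv, hd]
      exact hx
    · obtain rfl : e = 0 := by
        have : e < 1 := he
        omega
      exact Subgroup.subset_closure ⟨4, hT.symm⟩
  · rintro _ ⟨n, rfl⟩
    have hV : ∀ {w : List Nat} {st : List Step},
        GK.S.okValI GK.facts 108 st (pw 11 w) [] = true → ((w.map N.gen').prod) ^ 11 = 1 := by
      intro w st h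
      rw [← prod_pw, okValI_spec N T.hS (fun f hf => T.hfs f (facts_len.symm ▸ hf)) h, Model.wq]
      simp [Perms.val, wv]
    have hu : ((g11 n ++ GK.S.invAll (v11 n)).map N.gen').prod ^ 11 = 1 := by
      fin_cases n
      exacts [hV run11u0, hV run11u1, hV run11u2, hV run11u3, hV run11u4]
    have hv : ((v11 n).map N.gen').prod ^ 11 = 1 := by
      fin_cases n
      exacts [hV run11v0, hV run11v1, hV run11v2, hV run11v3, hV run11v4]
    refine ⟨_, _, ?_, hu, hv⟩
    rw [List.map_append, List.prod_append, prod_invAll N _ (fun x hx => by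
      have := List.all_eq_true.1 (lt11 n) x hx
      rw [Nat.blt_eq] at this
      rw [lets_len.1, lets_len.2.2]
      exact this), inv_mul_cancel_right]

end CfsgLib.KnownB.LyCent
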