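import Cfsg.Agent.Lib.KnownB.LyCent.Final
import Cfsg.Agent.Lib.KnownB.LyCent.SimpleK
import Cfsg.Agent.Lib.KnownB.LyCent.SimpleQ
import Cfsg.Agent.Lib.KnownB.LyCent.Realization

/-!
The existence statements for the Lyons group from a closed enumeration.
-/

set_option autoImplicit false

namespace CfsgLib.KnownB.LyCent

open CfsgLib.PresCert CfsgLib.DCE
open CfsgLib.Spor.Ly

variable {H Q : Type*} [Group H] [Group Q] [Finite H] [Finite Q] {N : Model GK.S H Q} (T : Kit N)
  (hidx : N.f.range.index = 8835156)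

include T hidx in
theorem card_Q : Nat.card Q = 51765179004000000 := by
  rw [← Subgroup.card_mul_index N.f.range, hidx,
    ← Nat.card_congr (MonoidHom.ofInjective T.hinj).toEquiv, T.hcard]

include T hidx in
/-- A realisation as a transitive permutation group. -/
theorem exists_perm :
    ∃ G : Subgroup (Equiv.Perm (Fin 8835156)), Cfsg.IsLy G ∧
      MulAction.IsPretransitive G (Fin 8835156) ∧
      Cfsg.IsG2 (MulAction.stabilizer G (0 : Fin 8835156)) ∧
      ∃ t : G, orderOf t = 2 ∧ Cfsg.IsNonsplitDoubleCover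
        (Subgroup.centralizer ({t} : Set G)) (alternatingGroup (Fin 11)) := by
  haveI : IsSimpleGroup H := isSimpleGroup_K N.M T.hcard N.gen_top N.inj
  obtain ⟨t, ht, hC⟩ := involution_centralizer T
  exact realization ⟨isSimpleGroup_Q T, card_Q T hidx⟩ N.f.range hidx
    (MonoidHom.ofInjective T.hinj).symm.isSimpleGroup t ht hC

include T hidx in
/-- The element of order three. -/
theorem exists_three : Cfsg.IsLy Q ∧ ∃ x : Q, orderOf x = 3 ∧
    Nat.card (Subgroup.center (Subgroup.centralizer ({x} : Set Q))) = 3 ∧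
    Cfsg.IsMcL ((Subgroup.centralizer ({x} : Set Q)) ⧸
      Subgroup.center (Subgroup.centralizer ({x} : Set Q))) :=
  ⟨⟨isSimpleGroup_Q T, card_Q T hidx⟩, three_centralizer T⟩

end CfsgLib.KnownB.LyCent
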