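import Cfsg.Prelude.Def_Sporadic
import Cfsg.Agent.Lib.KnownB.LyCent.Crit
import Cfsg.Agent.Lib.KnownB.LyCent.Simple

/-!
A central extension by three of a transitive group of degree 7128 of McLaughlin order.
-/

set_option autoImplicit false

namespace CfsgLib.KnownB.LyCent

open MulAction Subgroup

theorem isMcL_quotient {C X : Type*} [Group C] [Finite C] [Fintype X] [MulAction C X]
    [IsPretransitive C X] (hX : Fintype.card X = 7128) (x : C) (hx : orderOf x = 3)
    (hxc : x ∈ center C) (hker : ∀ g : C, (∀ y : X, g • y = y) ↔ g ∈ zpowers x)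
    (hC : Nat.card C = 3 * 898128000) (x₀ : X) {r : ℕ} (part : X → Fin r)
    (hx₀ : ∀ y, part y = part x₀ → y = x₀)
    (hpart : ∀ y z, part y = part z → ∃ g : C, g • x₀ = x₀ ∧ g • y = z)
    (hdiv : ∀ A : Finset (Fin r), part x₀ ∈ A →
      (Finset.univ.filter fun y => part y ∈ A).card ∣ 7128 →
      A = {part x₀} ∨ A = Finset.univ)
    (s : Set C) (hs : closure s = ⊤)
    (hgen : ∀ g ∈ s, ∃ u v : C, g = u * v ∧ u ^ 11 ∈ zpowers x ∧ v ^ 11 ∈ zpowers x) :
    Nat.card (center C) = 3 ∧ Cfsg.IsMcL (C ⧸ center C) := by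
  haveI : Fact (Nat.Prime 11) := ⟨by norm_num⟩
  haveI : (zpowers x).Normal := ⟨fun a ha g => by
    rw [(mem_center_iff.1 (zpowers_le.2 hxc ha) g), mul_assoc, mul_inv_cancel, mul_one]; exact ha⟩
  let f : C →* Equiv.Perm X := MulAction.toPermHom C X
  have hfk : f.ker = zpowers x := by
    ext g
    rw [MonoidHom.mem_ker, ← hker]
    exact ⟨fun h y => congrArg (fun π : Equiv.Perm X => π y) h, fun h => Equiv.ext h⟩
  let q : C ⧸ zpowers x ≃* f.range :=
    (QuotientGroup.quotientMulEquivOfEq hfk.symm).trans (QuotientGroup.quotientKerEquivRange f)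
  have hcardq : Nat.card (C ⧸ zpowers x) = 898128000 := by
    have h := Subgroup.card_eq_card_quotient_mul_card_subgroup (zpowers x)
    rw [Nat.card_zpowers, hx, hC] at h
    omega
  have hcard : Nat.card f.range = 898128000 := (Nat.card_congr q.toEquiv).symm.trans hcardq
  haveI : Nontrivial f.range := Finite.one_lt_card_iff_nontrivial.1 (by rw [hcard]; norm_num)
  haveI : IsPretransitive f.range X := ⟨fun y z => by
    obtain ⟨g, hg⟩ := exists_smul_eq C y z
    exact ⟨⟨f g, g, rfl⟩, hg⟩⟩
  haveI hsimple : IsSimpleGroup f.range := by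
    refine isSimpleGroup_of_parts (p := 11) (fun g hg => Subtype.ext (Equiv.ext hg))
      (by rw [hX]; norm_num) (by rw [hcard]; norm_num) x₀ part hx₀ (fun y z e => ?_)
      (fun A hA hd => hdiv A hA (hX ▸ hd)) (f.rangeRestrict '' s) ?_ ?_
    · obtain ⟨g, h1, h2⟩ := hpart y z e
      exact ⟨⟨f g, g, rfl⟩, h1, h2⟩
    · rw [← MonoidHom.map_closure, hs, Subgroup.map_top_of_surjective _ f.rangeRestrict_surjective]
    · rintro _ ⟨g, hg, rfl⟩
      obtain ⟨u, v, rfl, hu, hv⟩ := hgen g hg
      refine ⟨f.rangeRestrict u, f.rangeRestrict v, map_mul _ _ _, ?_, ?_⟩ <;>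
        rw [← map_pow] <;> refine Subtype.ext ?_ <;>
          simp only [MonoidHom.coe_rangeRestrict, OneMemClass.coe_one] <;>
          rw [← MonoidHom.mem_ker, hfk] <;> assumption
  haveI : IsSimpleGroup (C ⧸ zpowers x) := q.isSimpleGroup
  have hna : ∃ a b : C ⧸ zpowers x, a * b ≠ b * a := by
    by_contra h
    push Not at h
    letI : CommGroup (C ⧸ zpowers x) :=
      { (inferInstance : Group (C ⧸ zpowers x)) with mul_comm := h }
    have hp := IsSimpleGroup.prime_card (α := C ⧸ zpowers x)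
    rw [hcardq] at hp
    norm_num at hp
  have hcen : center C = zpowers x := center_eq_of_simple_quotient _ (zpowers_le.2 hxc) hna
  refine ⟨by rw [hcen, Nat.card_zpowers, hx], ?_, ?_⟩
  · exact (QuotientGroup.quotientMulEquivOfEq hcen).isSimpleGroup
  · exact (Nat.card_congr (QuotientGroup.quotientMulEquivOfEq hcen).toEquiv).trans hcardq

end CfsgLib.KnownB.LyCent
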