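import Cfsg.Agent.Lib.KnownB.LyCent.Setting
import Cfsg.Agent.Lib.KnownB.LyCent.McL

/-!
The centraliser of the element of order three modulo the element is of McLaughlin type.
-/

set_option autoImplicit false
set_option maxRecDepth 100000

namespace CfsgLib.KnownB.LyCent

open CfsgLib.PresCert CfsgLib.DCE MulAction
open CfsgLib.Spor.Ly

/-- element `k` of the two-point stabiliser fixes the upper fixed points and commutes with x -/
noncomputable def isKer (k : Nat) : Bool :=
  commB GK.P GK.base eL xW k && upperX.all fun q => Nat.beq (GK.P.app (eL.word k) q) q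

theorem ker_count : ((List.range eL.len).filter isKer).length ≤ 3 := by decide +kernel

theorem upper_points : (upperX.any fun q => Nat.beq (prT.half q) 0) = true ∧
    (upperX.any fun q => Nat.beq (prT.half q) 1) = true ∧
    (upperX.all fun q => Nat.blt q GK.P.n && Nat.beq (GK.P.app xW q) q) = true := by decide +kernel

theorem parts_div : ∀ A : Finset (Fin 5), (0 : Fin 5) ∈ A →
    (∑ i ∈ A, xCounts i) ∣ 7128 → A = {0} ∨ A = Finset.univ := by decide +kernel

/-- generation inside a subgroup -/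
theorem mem_closure_subtype {G : Type*} [Group G] (C : Subgroup G) (s : Set G) (hs : ∀ g ∈ s, g ∈ C)
    (g : C) (hg : (g : G) ∈ Subgroup.closure s) :
    g ∈ Subgroup.closure {x : C | (x : G) ∈ s} := by
  have h : (Subgroup.closure {x : C | (x : G) ∈ s}).map C.subtype = Subgroup.closure s := by
    rw [MonoidHom.map_closure]
    congr 1
    ext x
    exact ⟨fun ⟨y, hy, e⟩ => e ▸ hy, fun hx => ⟨⟨x, hs x hx⟩, hx, rfl⟩⟩
  rw [← h] at hg
  obtain ⟨y, hy, e⟩ := hg
  rwa [← Subtype.ext (show (y : G) = g from e)]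

variable {H : Type*} [Group H] [Finite H] (M : Perms GK.P H)

theorem kernel_le (hcard : Nat.card H = 5859000000)
    (hgen : Subgroup.closure (Set.range M.gen) = ⊤)
    (inj : ∀ h : H, (∀ i : Fin GK.P.n, (i : Nat) ∈ GK.base → M.act h i = i) → h = 1) (h : H)
    (hc : h * xEl M = xEl M * h)
    (hfix : ∀ q : Fin GK.P.n, (q : Nat) ∈ upperX → M.act h q = q) :
    h ∈ Subgroup.zpowers (xEl M) := by
  classical
  obtain ⟨h0, h1, hall⟩ := upper_points
  simp only [List.any_eq_true, List.all_eq_true, Bool.and_eq_true, Nat.blt_eq, Nat.beq_eq] at h0 h1 hall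
  obtain ⟨x3, x1, -, -⟩ := xEl_facts M inj
  let p : H → Prop := fun s => s * xEl M = xEl M * s ∧
    ∀ q : Fin GK.P.n, (q : Nat) ∈ upperX → M.act s q = q
  have hproj : ∀ (s : H) (r : Fin GK.P.n) (q : Nat) (hq : q < GK.P.n), M.act s ⟨q, hq⟩ = ⟨q, hq⟩ →
      prT.half q = r → M.act s r = r := by
    intro s r q hq e er
    have e' := pr_act M proj_ok hgen s ⟨q, hq⟩
    rw [e] at e'
    rw [show r = projPt proj_ok ⟨q, hq⟩ from Fin.ext er.symm]
    exact e'.symm
  have hp2 : ∀ s, p s → s ∈ stab01 M := by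
    rintro s ⟨-, hs⟩
    refine ⟨trivial, fun i hi => ?_⟩
    obtain ⟨q0, m0, e0⟩ := h0
    obtain ⟨q1, m1, e1⟩ := h1
    simp only [List.mem_cons, List.not_mem_nil, or_false] at hi
    rcases hi with e | e
    · exact hproj s i q1 (hall q1 m1).1 (hs _ m1) (e1.trans e.symm)
    · exact hproj s i q0 (hall q0 m0).1 (hs _ m0) (e0.trans e.symm)
  have hn : eL.len = 480 := small_facts.2.2.2.2.2.2.2.2.2.2.2.1
  have hc3 := card_le_of_enum M base_lt inj eL_shape (fun k hk => eL_node k (hn ▸ hk))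
    (stab01 M) (stab01_le_enum M hcard inj) p isKer (fun k hk hp => by
      obtain ⟨hp1, hp1'⟩ := hp
      simp only [isKer, Bool.and_eq_true, List.all_eq_true, Nat.beq_eq]
      refine ⟨?_, fun q hq => ?_⟩
      · simp only [commB, List.all_eq_true, List.mem_range, Nat.beq_eq]
        intro b hb
        have hbn : GK.base.getD b 0 < GK.P.n := by
          rw [List.getD_eq_getElem?_getD, List.getElem?_eq_getElem hb, Option.getD_some]
          exact base_lt _ (List.getElem_mem hb)
        rw [← act_word M eL_shape (fun k hk => eL_node k (hn ▸ hk)) hk hb hbn,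
          M.app_eq _ words_tx_lt.2, ← Perms.act_mul, show M.val xW = xEl M from rfl, hp1,
          Perms.act_mul, ← M.app_eq _ (word_lt eL_shape k), show xEl M = M.val xW from rfl,
          ← M.app_eq _ words_tx_lt.2]
      · have e := congrArg Fin.val (hp1' ⟨q, (hall q hq).1⟩ hq)
        rw [← M.app_eq _ (word_lt eL_shape k)] at e
        exact e) ker_count
  have hxp : p (xEl M) := ⟨rfl, fun q hq => Fin.ext (by
    rw [xEl, ← M.app_eq _ words_tx_lt.2]; exact (hall q hq).2)⟩
  have hord : orderOf (xEl M) = 3 := by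
    haveI : Fact (Nat.Prime 3) := ⟨Nat.prime_three⟩
    exact orderOf_eq_prime x3 x1
  let W : Subgroup H :=
    { carrier := {s | p s}
      one_mem' := ⟨by simp, fun q _ => M.act_one q⟩
      mul_mem' := fun {a b} ha hb => ⟨by rw [mul_assoc, hb.1, ← mul_assoc, ha.1, mul_assoc],
        fun q hq => by rw [Perms.act_mul, ha.2 q hq, hb.2 q hq]⟩
      inv_mem' := fun {a} ha => ⟨(Commute.inv_left (show Commute a (xEl M) from ha.1)).eq,
        fun q hq => by
          conv_lhs => rw [← ha.2 q hq]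
          rw [← Perms.act_mul, mul_inv_cancel, Perms.act_one]⟩ }
  have hWcard : Nat.card W ≤ 3 := by
    refine le_trans (Nat.card_le_card_of_injective
      (fun s : W => (⟨⟨s.1, hp2 _ s.2⟩, s.2⟩ : {u : stab01 M // p u})) fun a b e => ?_) hc3
    exact Subtype.ext (congrArg (fun u : {u : stab01 M // p u} => (u.1 : H)) e :)
  have hle : Subgroup.zpowers (xEl M) ≤ W := Subgroup.zpowers_le.2 hxp
  rw [Subgroup.eq_of_le_of_card_ge hle (by rw [Nat.card_zpowers, hord]; exact hWcard)]
  exact ⟨hc, hfix⟩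

variable {S : Setup} {Q : Type*} [Group Q] [Finite Q] {N : Model S H Q}
  {fs : List Fact} {ls : List Live} (T : Setting N M fs ls)

include T in
/-- The quotient of the centraliser is of McLaughlin type. -/
theorem isMcL_centralizer (zq : Q) (hz : zq * N.f (xEl M) = N.f (xEl M) * zq) (y : Fin 5 → Q)
    (hyrep : ∀ k, y (T.e k) • ((1 : Q) : Q ⧸ N.f.range) =
      pointOf N T.hls T.hfs ⟨k, ((M.val (xReps (T.e k)) : H) : H ⧸ liveStab N fs ls[k])⟩)
    (hymem : ∀ i, y i ∈ Subgroup.closure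
      ({q | ∃ w ∈ xGens, N.f (M.val w) = q} ∪ {zq}))
    (hfac : ∀ g ∈ ({q | ∃ w ∈ xGens, N.f (M.val w) = q} ∪ {zq} : Set Q), ∃ u v : Q, g = u * v ∧
      u * N.f (xEl M) = N.f (xEl M) * u ∧ v * N.f (xEl M) = N.f (xEl M) * v ∧
      u ^ 11 ∈ Subgroup.zpowers (N.f (xEl M)) ∧ v ^ 11 ∈ Subgroup.zpowers (N.f (xEl M))) :
    orderOf (N.f (xEl M)) = 3 ∧
      Nat.card (Subgroup.center (Subgroup.centralizer ({N.f (xEl M)} : Set Q))) = 3 ∧
      Cfsg.IsMcL ((Subgroup.centralizer ({N.f (xEl M)} : Set Q)) ⧸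
        Subgroup.center (Subgroup.centralizer ({N.f (xEl M)} : Set Q))) := by
  classical
  obtain ⟨x3, x1, -, -⟩ := xEl_facts M T.inj
  haveI : Fact (Nat.Prime 3) := ⟨Nat.prime_three⟩
  have hordx : orderOf (xEl M) = 3 := orderOf_eq_prime x3 x1
  have hord : orderOf (N.f (xEl M)) = 3 := by rw [orderOf_injective N.f T.hinj, hordx]
  refine ⟨hord, ?_⟩
  set a := N.f (xEl M) with ha
  set C := Subgroup.centralizer ({a} : Set Q) with hC
  have hgensC : ∀ g ∈ ({q | ∃ w ∈ xGens, N.f (M.val w) = q} ∪ {zq} : Set Q), g ∈ C := by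
    intro g hg
    obtain ⟨u, v, rfl, hu, hv, -, -⟩ := hfac g hg
    exact mul_mem (Subgroup.mem_centralizer_singleton_iff.2 hu)
      (Subgroup.mem_centralizer_singleton_iff.2 hv)
  have hy : ∀ i, y i * a = a * y i := fun i =>
    Subgroup.mem_centralizer_singleton_iff.1 ((Subgroup.closure_le C).2 hgensC (hymem i))
  obtain ⟨hcardC, hcov⟩ := centralizer_x T y hy hyrep
  let one : Q ⧸ N.f.range := ((1 : Q) : Q ⧸ N.f.range)
  let X := {q : Q ⧸ N.f.range // a • q = q}
  have hstep : ∀ (g : C) (q : Q ⧸ N.f.range), a • q = q → a • ((g : Q) • q) = (g : Q) • q :=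
    fun g q hq => by rw [← mul_smul, ← Subgroup.mem_centralizer_singleton_iff.1 g.2, mul_smul, hq]
  letI : MulAction C X :=
    { smul := fun g q => ⟨(g : Q) • q.1, hstep g q.1 q.2⟩
      one_smul := fun q => Subtype.ext (one_smul Q q.1)
      mul_smul := fun g g' q => Subtype.ext (mul_smul (g : Q) g' q.1) }
  have hone : a • one = one := by
    simp only [one, MulAction.Quotient.smul_mk, smul_eq_mul, mul_one]
    exact QuotientGroup.eq.2 ⟨(xEl M)⁻¹, by simp [ha]⟩
  haveI : IsPretransitive C X := by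
    refine ⟨fun p q => ?_⟩
    obtain ⟨g, hg, eg⟩ := hcov p.1 p.2
    obtain ⟨g', hg', eg'⟩ := hcov q.1 q.2
    refine ⟨⟨g' * g⁻¹, mul_mem hg' (inv_mem hg)⟩, Subtype.ext ?_⟩
    show (g' * g⁻¹) • p.1 = q.1
    rw [← eg, ← eg', mul_smul, inv_smul_smul]
  haveI : Finite X := inferInstance
  letI : Fintype X := Fintype.ofFinite X
  let bij := Equiv.ofBijective _ T.hbij
  have hXsigma : ∀ (k : Fin ls.length) (x : H ⧸ liveStab N fs ls[k]),
      a • pointOf N T.hls T.hfs ⟨k, x⟩ = pointOf N T.hls T.hfs ⟨k, x⟩ ↔ xEl M • x = x := by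
    intro k x
    rw [ha, pointOf_smul]
    exact ⟨fun h => eq_of_heq (Sigma.mk.inj (T.hbij.1 h)).2, fun h => by rw [h]⟩
  let part : X → Fin 5 := fun q => T.e (bij.symm q.1).1
  have hpt : ∀ (k : Fin ls.length) (x : H ⧸ liveStab N fs ls[k]) h,
      part (⟨pointOf N T.hls T.hfs ⟨k, x⟩, h⟩ : X) = T.e k := fun k x h => by
    show T.e (bij.symm (pointOf N T.hls T.hfs ⟨k, x⟩)).1 = T.e k
    rw [show pointOf N T.hls T.hfs ⟨k, x⟩ = bij ⟨k, x⟩ from rfl, Equiv.symm_apply_apply]
  have hfibre : ∀ i : Fin 5, (Finset.univ.filter fun q : X => part q = i).card = xCounts i := by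
    intro i
    obtain ⟨k, rfl⟩ := T.e.surjective i
    rw [← (fixed_x T k).1]
    letI : Fintype {x : H ⧸ liveStab N fs ls[k] // xEl M • x = x} := Fintype.ofFinite _
    rw [Nat.card_eq_fintype_card, ← Finset.card_univ]
    refine (Finset.card_bij (fun x _ => (⟨pointOf N T.hls T.hfs ⟨k, x.1⟩, (hXsigma k x.1).2 x.2⟩ : X))
      ?_ ?_ ?_).symm
    · intro x _
      simp only [Finset.mem_filter, Finset.mem_univ, true_and]
      exact hpt _ _ _
    · intro x _ x' _ e
      exact Subtype.ext (eq_of_heq (Sigma.mk.inj (T.hbij.1 (congrArg Subtype.val e))).2)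
    · rintro ⟨q, hq⟩ hk
      obtain ⟨⟨k', x⟩, rfl⟩ := T.hbij.2 q
      simp only [Finset.mem_filter, Finset.mem_univ, true_and, hpt,
        EmbeddingLike.apply_eq_iff_eq] at hk
      subst hk
      exact ⟨⟨x, (hXsigma _ x).1 hq⟩, Finset.mem_univ _, rfl⟩
  have hfilter : ∀ A : Finset (Fin 5),
      (Finset.univ.filter fun q : X => part q ∈ A).card = ∑ i ∈ A, xCounts i := by
    intro A
    rw [Finset.card_eq_sum_card_fiberwise (f := part) (t := A) (fun q hq => by simpa using hq)]
    refine Finset.sum_congr rfl fun i hi => ?_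
    rw [← hfibre i, Finset.filter_filter]
    refine congrArg Finset.card (Finset.filter_congr fun q _ => ?_)
    exact ⟨fun h => h.2, fun h => ⟨h ▸ hi, h⟩⟩
  have hX : Fintype.card X = 7128 := by
    have h := hfilter Finset.univ
    rw [show (Finset.univ.filter fun q : X => part q ∈ (Finset.univ : Finset (Fin 5))) = Finset.univ
      by simp, Finset.card_univ] at h
    rw [h]
    simp [xCounts, Fin.sum_univ_five]
  let x₀ : X := ⟨one, hone⟩
  let xC : C := ⟨a, Subgroup.mem_centralizer_singleton_iff.2 rfl⟩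
  obtain ⟨k0, hk0⟩ := T.e.surjective 0
  have hone0 : part x₀ = 0 := by
    have e : pointOf N T.hls T.hfs ⟨k0, ((1 : H) : H ⧸ liveStab N fs ls[k0])⟩ = one := by
      rw [pointOf_mk, T.first k0 hk0, show N.g 0 = 1 by simp [Model.g], map_one, inv_one, mul_one]
    show T.e (bij.symm one).1 = 0
    rw [← e, show pointOf N T.hls T.hfs ⟨k0, _⟩ = bij ⟨k0, _⟩ from rfl, Equiv.symm_apply_apply, hk0]
  have hxord : orderOf xC = 3 :=
    (orderOf_injective C.subtype Subtype.val_injective xC).symm.trans hord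
  have hCH : ∀ h : H, h * xEl M = xEl M * h →
      N.f h ∈ Subgroup.closure ({q | ∃ w ∈ xGens, N.f (M.val w) = q} ∪ {zq}) := by
    intro h hh
    have hm : h ∈ M.sub xGens := by
      have hle : M.sub xGens ≤ Subgroup.centralizer ({xEl M} : Set H) := by
        rw [Perms.sub, Subgroup.closure_le]
        rintro _ ⟨w, hw, rfl⟩
        refine Subgroup.mem_centralizer_singleton_iff.2 (T.hinj ?_)
        rw [map_mul, map_mul]
        exact Subgroup.mem_centralizer_singleton_iff.1 (hgensC _ (Or.inl ⟨w, hw, rfl⟩))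
      have h3 := M.wsub_card T.inj base_lt xEls_ok [xL0, xL1, xL2] xLevels_ok xLevels_gens
      rw [small_facts.2.2.2.2.2.2.2.2.2.2.2.2.2.2] at h3
      rw [Subgroup.eq_of_le_of_card_ge hle
        (by rw [card_cent_x M T.hcard T.hgen T.inj]; exact h3)]
      exact Subgroup.mem_centralizer_singleton_iff.2 hh
    have hle : M.sub xGens ≤ (Subgroup.closure
        ({q | ∃ w ∈ xGens, N.f (M.val w) = q} ∪ {zq})).comap N.f := by
      rw [Perms.sub, Subgroup.closure_le]
      rintro _ ⟨w, hw, rfl⟩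
      exact Subgroup.subset_closure (Or.inl ⟨w, hw, rfl⟩)
    exact hle hm
  refine CfsgLib.KnownB.LyCent.isMcL_quotient hX xC hxord ?_ ?_ ?_ x₀ part ?_ ?_ ?_
    {g : C | (g : Q) ∈ ({q | ∃ w ∈ xGens, N.f (M.val w) = q} ∪ {zq} : Set Q)} ?_ ?_
  · exact Subgroup.mem_center_iff.2 fun g => Subtype.ext
      (Subgroup.mem_centralizer_singleton_iff.1 g.2)
  · intro g
    constructor
    · intro hg
      have h1 : (g : Q) • one = one := congrArg Subtype.val (hg x₀)
      simp only [one, MulAction.Quotient.smul_mk, smul_eq_mul, mul_one] at h1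
      obtain ⟨h, hh⟩ : (g : Q) ∈ N.f.range := by simpa using QuotientGroup.eq.1 h1.symm
      have hcomm : h * xEl M = xEl M * h := T.hinj (by
        rw [map_mul, map_mul, hh]; exact Subgroup.mem_centralizer_singleton_iff.1 g.2)
      obtain ⟨k1, hk1⟩ := T.e.surjective 1
      have hfix : ∀ q : Fin GK.P.n, (q : Nat) ∈ upperX → M.act h q = q := by
        intro q hq
        obtain ⟨g₀, -, eg⟩ := upper_reach M T.hgen T.inj q hq
        have hU := T.stab1 k1 hk1
        have hx : xEl M • ((g₀⁻¹ : H) : H ⧸ liveStab N fs ls[k1]) = (g₀⁻¹ : H) := by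
          rw [MulAction.Quotient.smul_mk, eq_comm, QuotientGroup.eq, smul_eq_mul, inv_inv, hU,
            ← mul_assoc, Perms.act_mul, Perms.act_mul, eg]
          rw [show M.act (xEl M) q = q from Fin.ext (by
            rw [xEl, ← M.app_eq _ words_tx_lt.2]
            have h' := List.all_eq_true.1 upper_points.2.2 q hq
            simp only [Bool.and_eq_true, Nat.beq_eq] at h'
            exact h'.2), ← eg, ← Perms.act_mul, mul_inv_cancel, Perms.act_one]
        have e : (g : Q) • pointOf N T.hls T.hfs ⟨k1, ((g₀⁻¹ : H) : H ⧸ liveStab N fs ls[k1])⟩ =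
            pointOf N T.hls T.hfs ⟨k1, ((g₀⁻¹ : H) : H ⧸ liveStab N fs ls[k1])⟩ :=
          congrArg Subtype.val (hg ⟨_, (hXsigma k1 _).2 hx⟩)
        rw [← hh, pointOf_smul] at e
        have e2 := eq_of_heq (Sigma.mk.inj (T.hbij.1 e)).2
        rw [MulAction.Quotient.smul_mk, eq_comm, QuotientGroup.eq, smul_eq_mul, inv_inv, hU,
          ← mul_assoc, Perms.act_mul, Perms.act_mul, eg] at e2
        have e3 := congrArg (M.act g₀) e2
        rwa [← Perms.act_mul, inv_mul_cancel, Perms.act_one, eg] at e3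
      obtain ⟨n, hn⟩ := Subgroup.mem_zpowers_iff.1 (kernel_le M T.hcard T.hgen T.inj h hcomm hfix)
      refine Subgroup.mem_zpowers_iff.2 ⟨n, Subtype.ext ?_⟩
      rw [SubgroupClass.coe_zpow]
      show a ^ n = _
      rw [ha, ← map_zpow, hn, hh]
    · intro hg q
      obtain ⟨n, rfl⟩ := Subgroup.mem_zpowers_iff.1 hg
      exact Subtype.ext (show ((xC ^ n : C) : Q) • q.1 = q.1 by
        rw [SubgroupClass.coe_zpow]
        exact MulAction.mem_stabilizer_iff.1 (zpow_mem (MulAction.mem_stabilizer_iff.2 q.2) n))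
  · rw [hcardC]
  · intro q hq
    rw [hone0] at hq
    by_contra hne
    have h2 : 1 < (Finset.univ.filter fun p : X => part p = 0).card :=
      Finset.one_lt_card.2 ⟨q, by simp [hq], x₀, by simp [hone0], hne⟩
    rw [hfibre] at h2
    simp [xCounts] at h2
  · rintro ⟨p, hp⟩ ⟨q, hq⟩ e
    obtain ⟨⟨k, x⟩, rfl⟩ := T.hbij.2 p
    obtain ⟨⟨k', x'⟩, rfl⟩ := T.hbij.2 q
    rw [hpt, hpt, EmbeddingLike.apply_eq_iff_eq] at e
    subst e
    obtain ⟨g, hg, eg⟩ := (fixed_x T k).2 x ((hXsigma _ x).1 hp)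
    obtain ⟨g', hg', eg'⟩ := (fixed_x T k).2 x' ((hXsigma _ x').1 hq)
    have hcm : g' * g⁻¹ * xEl M = xEl M * (g' * g⁻¹) :=
      ((show Commute g' (xEl M) from hg').mul_left
        (Commute.inv_left (show Commute g (xEl M) from hg))).eq
    refine ⟨⟨N.f (g' * g⁻¹), Subgroup.mem_centralizer_singleton_iff.2 (by
      rw [ha, ← map_mul, ← map_mul, hcm])⟩, Subtype.ext ?_, Subtype.ext ?_⟩
    · show N.f (g' * g⁻¹) • one = one
      simp only [one, MulAction.Quotient.smul_mk, smul_eq_mul, mul_one]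
      exact QuotientGroup.eq.2 ⟨(g' * g⁻¹)⁻¹, by simp⟩
    · show N.f (g' * g⁻¹) • pointOf N T.hls T.hfs ⟨k, x⟩ = pointOf N T.hls T.hfs ⟨k, x'⟩
      rw [pointOf_smul, ← eg, ← eg', mul_smul, inv_smul_smul]
  · intro A hA hd
    rw [hone0] at hA ⊢
    exact parts_div A hA (hfilter A ▸ hd)
  · rw [eq_top_iff]
    intro g _
    suffices h : (g : Q) ∈ Subgroup.closure ({q | ∃ w ∈ xGens, N.f (M.val w) = q} ∪ {zq}) by
      exact mem_closure_subtype C _ hgensC g h
    have hq := hcov ((g : Q) • one) (hstep g one hone)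
    obtain ⟨⟨k, x⟩, e⟩ := T.hbij.2 ((g : Q) • one)
    obtain ⟨h, hh, ehx⟩ := (fixed_x T k).2 x ((hXsigma k x).1 (e ▸ hstep g one hone))
    have e2 : (N.f h * y (T.e k)) • one = (g : Q) • one := by
      rw [mul_smul, hyrep, pointOf_smul, ehx, e]
    simp only [one, MulAction.Quotient.smul_mk, smul_eq_mul, mul_one] at e2
    obtain ⟨h', hh'⟩ := QuotientGroup.eq.1 e2
    have hcomm : h' * xEl M = xEl M * h' := T.hinj (by
      rw [map_mul, map_mul, hh']
      refine Subgroup.mem_centralizer_singleton_iff.1 (mul_mem (inv_mem (mul_mem ?_ ?_)) g.2)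
      · exact Subgroup.mem_centralizer_singleton_iff.2 (by rw [← map_mul, ← map_mul, hh])
      · exact Subgroup.mem_centralizer_singleton_iff.2 (hy _))
    rw [show (g : Q) = N.f h * y (T.e k) * N.f h' by rw [hh', mul_inv_cancel_left]]
    exact mul_mem (mul_mem (hCH h hh) (hymem _)) (hCH h' hcomm)
  · rintro g hg
    obtain ⟨u, v, e, hu, hv, hu11, hv11⟩ := hfac _ hg
    refine ⟨⟨u, Subgroup.mem_centralizer_singleton_iff.2 hu⟩,
      ⟨v, Subgroup.mem_centralizer_singleton_iff.2 hv⟩, Subtype.ext e, ?_, ?_⟩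
    · obtain ⟨n, hn⟩ := Subgroup.mem_zpowers_iff.1 hu11
      exact Subgroup.mem_zpowers_iff.2 ⟨n, Subtype.ext (by
        rw [SubgroupClass.coe_zpow, SubmonoidClass.coe_pow]; exact hn)⟩
    · obtain ⟨n, hn⟩ := Subgroup.mem_zpowers_iff.1 hv11
      exact Subgroup.mem_zpowers_iff.2 ⟨n, Subtype.ext (by
        rw [SubgroupClass.coe_zpow, SubmonoidClass.coe_pow]; exact hn)⟩

end CfsgLib.KnownB.LyCent
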