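import Cfsg.Agent.Lib.KnownB.LyCent.RunData
import Cfsg.Agent.Lib.KnownB.LyCent.ChkRunsT
import Cfsg.Agent.Lib.KnownB.LyCent.ChkRunsP0
import Cfsg.Agent.Lib.KnownB.LyCent.ChkRunsP1
import Cfsg.Agent.Lib.KnownB.LyCent.ChkRunsP2
import Cfsg.Agent.Lib.KnownB.LyCent.ChkRunsP3
import Cfsg.Agent.Lib.KnownB.LyCent.ChkRunsP4
import Cfsg.Agent.Lib.KnownB.LyCent.ChkRunsP5
import Cfsg.Agent.Lib.KnownB.LyCent.ChkRunsP6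
import Cfsg.Agent.Lib.KnownB.LyCent.ChkRunsP7

/-!
The relations of Carmichael hold up to the involution.
-/

set_option autoImplicit false
set_option maxRecDepth 100000

namespace CfsgLib.KnownB.LyCent

open CfsgLib.PresCert CfsgLib.DCE
open CfsgLib.Spor.Ly

/-- the evaluation of a relation -/
def RelOK (w : List Nat) : Prop :=
  ∃ (st : List Step) (u : List Nat), (u = tW ∨ u = []) ∧ GK.S.okVal GK.facts 108 st w u = true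

theorem rel_sq : ∀ i : Fin 9, RelOK (pw (if i.val = 0 then 3 else 2) (yT i))
  | ⟨0, _⟩ => ⟨_, _, by first | exact Or.inl rfl | exact Or.inr rfl, sqT0⟩
  | ⟨1, _⟩ => ⟨_, _, by first | exact Or.inl rfl | exact Or.inr rfl, sqT1⟩
  | ⟨2, _⟩ => ⟨_, _, by first | exact Or.inl rfl | exact Or.inr rfl, sqT2⟩
  | ⟨3, _⟩ => ⟨_, _, by first | exact Or.inl rfl | exact Or.inr rfl, sqT3⟩
  | ⟨4, _⟩ => ⟨_, _, by first | exact Or.inl rfl | exact Or.inr rfl, sqT4⟩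
  | ⟨5, _⟩ => ⟨_, _, by first | exact Or.inl rfl | exact Or.inr rfl, sqT5⟩
  | ⟨6, _⟩ => ⟨_, _, by first | exact Or.inl rfl | exact Or.inr rfl, sqT6⟩
  | ⟨7, _⟩ => ⟨_, _, by first | exact Or.inl rfl | exact Or.inr rfl, sqT7⟩
  | ⟨8, _⟩ => ⟨_, _, by first | exact Or.inl rfl | exact Or.inr rfl, sqT8⟩

theorem rel_adj : ∀ i j : Fin 9, j.val = i.val + 1 → RelOK (pw 3 (yT i ++ yT j))
  | ⟨0, _⟩, ⟨0, _⟩, h => absurd h (by norm_num)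
  | ⟨0, _⟩, ⟨1, _⟩, _ => ⟨_, _, by first | exact Or.inl rfl | exact Or.inr rfl, prT01⟩
  | ⟨0, _⟩, ⟨2, _⟩, h => absurd h (by norm_num)
  | ⟨0, _⟩, ⟨3, _⟩, h => absurd h (by norm_num)
  | ⟨0, _⟩, ⟨4, _⟩, h => absurd h (by norm_num)
  | ⟨0, _⟩, ⟨5, _⟩, h => absurd h (by norm_num)
  | ⟨0, _⟩, ⟨6, _⟩, h => absurd h (by norm_num)
  | ⟨0, _⟩, ⟨7, _⟩, h => absurd h (by norm_num)
  | ⟨0, _⟩, ⟨8, _⟩, h => absurd h (by norm_num)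
  | ⟨1, _⟩, ⟨0, _⟩, h => absurd h (by norm_num)
  | ⟨1, _⟩, ⟨1, _⟩, h => absurd h (by norm_num)
  | ⟨1, _⟩, ⟨2, _⟩, _ => ⟨_, _, by first | exact Or.inl rfl | exact Or.inr rfl, prT12⟩
  | ⟨1, _⟩, ⟨3, _⟩, h => absurd h (by norm_num)
  | ⟨1, _⟩, ⟨4, _⟩, h => absurd h (by norm_num)
  | ⟨1, _⟩, ⟨5, _⟩, h => absurd h (by norm_num)
  | ⟨1, _⟩, ⟨6, _⟩, h => absurd h (by norm_num)
  | ⟨1, _⟩, ⟨7, _⟩, h => absurd h (by norm_num)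
  | ⟨1, _⟩, ⟨8, _⟩, h => absurd h (by norm_num)
  | ⟨2, _⟩, ⟨0, _⟩, h => absurd h (by norm_num)
  | ⟨2, _⟩, ⟨1, _⟩, h => absurd h (by norm_num)
  | ⟨2, _⟩, ⟨2, _⟩, h => absurd h (by norm_num)
  | ⟨2, _⟩, ⟨3, _⟩, _ => ⟨_, _, by first | exact Or.inl rfl | exact Or.inr rfl, prT23⟩
  | ⟨2, _⟩, ⟨4, _⟩, h => absurd h (by norm_num)
  | ⟨2, _⟩, ⟨5, _⟩, h => absurd h (by norm_num)
  | ⟨2, _⟩, ⟨6, _⟩, h => absurd h (by norm_num)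
  | ⟨2, _⟩, ⟨7, _⟩, h => absurd h (by norm_num)
  | ⟨2, _⟩, ⟨8, _⟩, h => absurd h (by norm_num)
  | ⟨3, _⟩, ⟨0, _⟩, h => absurd h (by norm_num)
  | ⟨3, _⟩, ⟨1, _⟩, h => absurd h (by norm_num)
  | ⟨3, _⟩, ⟨2, _⟩, h => absurd h (by norm_num)
  | ⟨3, _⟩, ⟨3, _⟩, h => absurd h (by norm_num)
  | ⟨3, _⟩, ⟨4, _⟩, _ => ⟨_, _, by first | exact Or.inl rfl | exact Or.inr rfl, prT34⟩
  | ⟨3, _⟩, ⟨5, _⟩, h => absurd h (by norm_num)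
  | ⟨3, _⟩, ⟨6, _⟩, h => absurd h (by norm_num)
  | ⟨3, _⟩, ⟨7, _⟩, h => absurd h (by norm_num)
  | ⟨3, _⟩, ⟨8, _⟩, h => absurd h (by norm_num)
  | ⟨4, _⟩, ⟨0, _⟩, h => absurd h (by norm_num)
  | ⟨4, _⟩, ⟨1, _⟩, h => absurd h (by norm_num)
  | ⟨4, _⟩, ⟨2, _⟩, h => absurd h (by norm_num)
  | ⟨4, _⟩, ⟨3, _⟩, h => absurd h (by norm_num)
  | ⟨4, _⟩, ⟨4, _⟩, h => absurd h (by norm_num)
  | ⟨4, _⟩, ⟨5, _⟩, _ => ⟨_, _, by first | exact Or.inl rfl | exact Or.inr rfl, prT45⟩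
  | ⟨4, _⟩, ⟨6, _⟩, h => absurd h (by norm_num)
  | ⟨4, _⟩, ⟨7, _⟩, h => absurd h (by norm_num)
  | ⟨4, _⟩, ⟨8, _⟩, h => absurd h (by norm_num)
  | ⟨5, _⟩, ⟨0, _⟩, h => absurd h (by norm_num)
  | ⟨5, _⟩, ⟨1, _⟩, h => absurd h (by norm_num)
  | ⟨5, _⟩, ⟨2, _⟩, h => absurd h (by norm_num)
  | ⟨5, _⟩, ⟨3, _⟩, h => absurd h (by norm_num)
  | ⟨5, _⟩, ⟨4, _⟩, h => absurd h (by norm_num)
  | ⟨5, _⟩, ⟨5, _⟩, h => absurd h (by norm_num)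
  | ⟨5, _⟩, ⟨6, _⟩, _ => ⟨_, _, by first | exact Or.inl rfl | exact Or.inr rfl, prT56⟩
  | ⟨5, _⟩, ⟨7, _⟩, h => absurd h (by norm_num)
  | ⟨5, _⟩, ⟨8, _⟩, h => absurd h (by norm_num)
  | ⟨6, _⟩, ⟨0, _⟩, h => absurd h (by norm_num)
  | ⟨6, _⟩, ⟨1, _⟩, h => absurd h (by norm_num)
  | ⟨6, _⟩, ⟨2, _⟩, h => absurd h (by norm_num)
  | ⟨6, _⟩, ⟨3, _⟩, h => absurd h (by norm_num)
  | ⟨6, _⟩, ⟨4, _⟩, h => absurd h (by norm_num)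
  | ⟨6, _⟩, ⟨5, _⟩, h => absurd h (by norm_num)
  | ⟨6, _⟩, ⟨6, _⟩, h => absurd h (by norm_num)
  | ⟨6, _⟩, ⟨7, _⟩, _ => ⟨_, _, by first | exact Or.inl rfl | exact Or.inr rfl, prT67⟩
  | ⟨6, _⟩, ⟨8, _⟩, h => absurd h (by norm_num)
  | ⟨7, _⟩, ⟨0, _⟩, h => absurd h (by norm_num)
  | ⟨7, _⟩, ⟨1, _⟩, h => absurd h (by norm_num)
  | ⟨7, _⟩, ⟨2, _⟩, h => absurd h (by norm_num)
  | ⟨7, _⟩, ⟨3, _⟩, h => absurd h (by norm_num)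
  | ⟨7, _⟩, ⟨4, _⟩, h => absurd h (by norm_num)
  | ⟨7, _⟩, ⟨5, _⟩, h => absurd h (by norm_num)
  | ⟨7, _⟩, ⟨6, _⟩, h => absurd h (by norm_num)
  | ⟨7, _⟩, ⟨7, _⟩, h => absurd h (by norm_num)
  | ⟨7, _⟩, ⟨8, _⟩, _ => ⟨_, _, by first | exact Or.inl rfl | exact Or.inr rfl, prT78⟩
  | ⟨8, _⟩, ⟨0, _⟩, h => absurd h (by norm_num)
  | ⟨8, _⟩, ⟨1, _⟩, h => absurd h (by norm_num)
  | ⟨8, _⟩, ⟨2, _⟩, h => absurd h (by norm_num)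
  | ⟨8, _⟩, ⟨3, _⟩, h => absurd h (by norm_num)
  | ⟨8, _⟩, ⟨4, _⟩, h => absurd h (by norm_num)
  | ⟨8, _⟩, ⟨5, _⟩, h => absurd h (by norm_num)
  | ⟨8, _⟩, ⟨6, _⟩, h => absurd h (by norm_num)
  | ⟨8, _⟩, ⟨7, _⟩, h => absurd h (by norm_num)
  | ⟨8, _⟩, ⟨8, _⟩, h => absurd h (by norm_num)

theorem rel_far : ∀ i j : Fin 9, i.val + 1 < j.val → RelOK (pw 2 (yT i ++ yT j))
  | ⟨0, _⟩, ⟨0, _⟩, h => absurd h (by norm_num)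
  | ⟨0, _⟩, ⟨1, _⟩, h => absurd h (by norm_num)
  | ⟨0, _⟩, ⟨2, _⟩, _ => ⟨_, _, by first | exact Or.inl rfl | exact Or.inr rfl, prT02⟩
  | ⟨0, _⟩, ⟨3, _⟩, _ => ⟨_, _, by first | exact Or.inl rfl | exact Or.inr rfl, prT03⟩
  | ⟨0, _⟩, ⟨4, _⟩, _ => ⟨_, _, by first | exact Or.inl rfl | exact Or.inr rfl, prT04⟩
  | ⟨0, _⟩, ⟨5, _⟩, _ => ⟨_, _, by first | exact Or.inl rfl | exact Or.inr rfl, prT05⟩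
  | ⟨0, _⟩, ⟨6, _⟩, _ => ⟨_, _, by first | exact Or.inl rfl | exact Or.inr rfl, prT06⟩
  | ⟨0, _⟩, ⟨7, _⟩, _ => ⟨_, _, by first | exact Or.inl rfl | exact Or.inr rfl, prT07⟩
  | ⟨0, _⟩, ⟨8, _⟩, _ => ⟨_, _, by first | exact Or.inl rfl | exact Or.inr rfl, prT08⟩
  | ⟨1, _⟩, ⟨0, _⟩, h => absurd h (by norm_num)
  | ⟨1, _⟩, ⟨1, _⟩, h => absurd h (by norm_num)
  | ⟨1, _⟩, ⟨2, _⟩, h => absurd h (by norm_num)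
  | ⟨1, _⟩, ⟨3, _⟩, _ => ⟨_, _, by first | exact Or.inl rfl | exact Or.inr rfl, prT13⟩
  | ⟨1, _⟩, ⟨4, _⟩, _ => ⟨_, _, by first | exact Or.inl rfl | exact Or.inr rfl, prT14⟩
  | ⟨1, _⟩, ⟨5, _⟩, _ => ⟨_, _, by first | exact Or.inl rfl | exact Or.inr rfl, prT15⟩
  | ⟨1, _⟩, ⟨6, _⟩, _ => ⟨_, _, by first | exact Or.inl rfl | exact Or.inr rfl, prT16⟩
  | ⟨1, _⟩, ⟨7, _⟩, _ => ⟨_, _, by first | exact Or.inl rfl | exact Or.inr rfl, prT17⟩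
  | ⟨1, _⟩, ⟨8, _⟩, _ => ⟨_, _, by first | exact Or.inl rfl | exact Or.inr rfl, prT18⟩
  | ⟨2, _⟩, ⟨0, _⟩, h => absurd h (by norm_num)
  | ⟨2, _⟩, ⟨1, _⟩, h => absurd h (by norm_num)
  | ⟨2, _⟩, ⟨2, _⟩, h => absurd h (by norm_num)
  | ⟨2, _⟩, ⟨3, _⟩, h => absurd h (by norm_num)
  | ⟨2, _⟩, ⟨4, _⟩, _ => ⟨_, _, by first | exact Or.inl rfl | exact Or.inr rfl, prT24⟩
  | ⟨2, _⟩, ⟨5, _⟩, _ => ⟨_, _, by first | exact Or.inl rfl | exact Or.inr rfl, prT25⟩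
  | ⟨2, _⟩, ⟨6, _⟩, _ => ⟨_, _, by first | exact Or.inl rfl | exact Or.inr rfl, prT26⟩
  | ⟨2, _⟩, ⟨7, _⟩, _ => ⟨_, _, by first | exact Or.inl rfl | exact Or.inr rfl, prT27⟩
  | ⟨2, _⟩, ⟨8, _⟩, _ => ⟨_, _, by first | exact Or.inl rfl | exact Or.inr rfl, prT28⟩
  | ⟨3, _⟩, ⟨0, _⟩, h => absurd h (by norm_num)
  | ⟨3, _⟩, ⟨1, _⟩, h => absurd h (by norm_num)
  | ⟨3, _⟩, ⟨2, _⟩, h => absurd h (by norm_num)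
  | ⟨3, _⟩, ⟨3, _⟩, h => absurd h (by norm_num)
  | ⟨3, _⟩, ⟨4, _⟩, h => absurd h (by norm_num)
  | ⟨3, _⟩, ⟨5, _⟩, _ => ⟨_, _, by first | exact Or.inl rfl | exact Or.inr rfl, prT35⟩
  | ⟨3, _⟩, ⟨6, _⟩, _ => ⟨_, _, by first | exact Or.inl rfl | exact Or.inr rfl, prT36⟩
  | ⟨3, _⟩, ⟨7, _⟩, _ => ⟨_, _, by first | exact Or.inl rfl | exact Or.inr rfl, prT37⟩
  | ⟨3, _⟩, ⟨8, _⟩, _ => ⟨_, _, by first | exact Or.inl rfl | exact Or.inr rfl, prT38⟩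
  | ⟨4, _⟩, ⟨0, _⟩, h => absurd h (by norm_num)
  | ⟨4, _⟩, ⟨1, _⟩, h => absurd h (by norm_num)
  | ⟨4, _⟩, ⟨2, _⟩, h => absurd h (by norm_num)
  | ⟨4, _⟩, ⟨3, _⟩, h => absurd h (by norm_num)
  | ⟨4, _⟩, ⟨4, _⟩, h => absurd h (by norm_num)
  | ⟨4, _⟩, ⟨5, _⟩, h => absurd h (by norm_num)
  | ⟨4, _⟩, ⟨6, _⟩, _ => ⟨_, _, by first | exact Or.inl rfl | exact Or.inr rfl, prT46⟩
  | ⟨4, _⟩, ⟨7, _⟩, _ => ⟨_, _, by first | exact Or.inl rfl | exact Or.inr rfl, prT47⟩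
  | ⟨4, _⟩, ⟨8, _⟩, _ => ⟨_, _, by first | exact Or.inl rfl | exact Or.inr rfl, prT48⟩
  | ⟨5, _⟩, ⟨0, _⟩, h => absurd h (by norm_num)
  | ⟨5, _⟩, ⟨1, _⟩, h => absurd h (by norm_num)
  | ⟨5, _⟩, ⟨2, _⟩, h => absurd h (by norm_num)
  | ⟨5, _⟩, ⟨3, _⟩, h => absurd h (by norm_num)
  | ⟨5, _⟩, ⟨4, _⟩, h => absurd h (by norm_num)
  | ⟨5, _⟩, ⟨5, _⟩, h => absurd h (by norm_num)
  | ⟨5, _⟩, ⟨6, _⟩, h => absurd h (by norm_num)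
  | ⟨5, _⟩, ⟨7, _⟩, _ => ⟨_, _, by first | exact Or.inl rfl | exact Or.inr rfl, prT57⟩
  | ⟨5, _⟩, ⟨8, _⟩, _ => ⟨_, _, by first | exact Or.inl rfl | exact Or.inr rfl, prT58⟩
  | ⟨6, _⟩, ⟨0, _⟩, h => absurd h (by norm_num)
  | ⟨6, _⟩, ⟨1, _⟩, h => absurd h (by norm_num)
  | ⟨6, _⟩, ⟨2, _⟩, h => absurd h (by norm_num)
  | ⟨6, _⟩, ⟨3, _⟩, h => absurd h (by norm_num)
  | ⟨6, _⟩, ⟨4, _⟩, h => absurd h (by norm_num)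
  | ⟨6, _⟩, ⟨5, _⟩, h => absurd h (by norm_num)
  | ⟨6, _⟩, ⟨6, _⟩, h => absurd h (by norm_num)
  | ⟨6, _⟩, ⟨7, _⟩, h => absurd h (by norm_num)
  | ⟨6, _⟩, ⟨8, _⟩, _ => ⟨_, _, by first | exact Or.inl rfl | exact Or.inr rfl, prT68⟩
  | ⟨7, _⟩, ⟨0, _⟩, h => absurd h (by norm_num)
  | ⟨7, _⟩, ⟨1, _⟩, h => absurd h (by norm_num)
  | ⟨7, _⟩, ⟨2, _⟩, h => absurd h (by norm_num)
  | ⟨7, _⟩, ⟨3, _⟩, h => absurd h (by norm_num)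
  | ⟨7, _⟩, ⟨4, _⟩, h => absurd h (by norm_num)
  | ⟨7, _⟩, ⟨5, _⟩, h => absurd h (by norm_num)
  | ⟨7, _⟩, ⟨6, _⟩, h => absurd h (by norm_num)
  | ⟨7, _⟩, ⟨7, _⟩, h => absurd h (by norm_num)
  | ⟨7, _⟩, ⟨8, _⟩, h => absurd h (by norm_num)
  | ⟨8, _⟩, ⟨0, _⟩, h => absurd h (by norm_num)
  | ⟨8, _⟩, ⟨1, _⟩, h => absurd h (by norm_num)
  | ⟨8, _⟩, ⟨2, _⟩, h => absurd h (by norm_num)
  | ⟨8, _⟩, ⟨3, _⟩, h => absurd h (by norm_num)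
  | ⟨8, _⟩, ⟨4, _⟩, h => absurd h (by norm_num)
  | ⟨8, _⟩, ⟨5, _⟩, h => absurd h (by norm_num)
  | ⟨8, _⟩, ⟨6, _⟩, h => absurd h (by norm_num)
  | ⟨8, _⟩, ⟨7, _⟩, h => absurd h (by norm_num)
  | ⟨8, _⟩, ⟨8, _⟩, h => absurd h (by norm_num)

end CfsgLib.KnownB.LyCent
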