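import Cfsg.Agent.Lib.KnownB.LyCent.RunData

/-!
The words as products of generators of the centraliser.
-/

set_option autoImplicit false
set_option maxRecDepth 100000

namespace CfsgLib.KnownB.LyCent

/-- factors of the words -/
def vSegs : Fin 4 → List (List Nat) :=
  ![[[1,1], [4,3,4,2], [0,8], [6], [3,5,2,5]],
    [[6], [8,1], [4,3,4,2], [7], [4,3,4,2]],
    [[8,1], [7], [4,3,4,2], [4,3,4,2]],
    [[8,1], [7], [3,5,2,5], [3,5,2,5]]]

/-- factors of the words -/
def pSegs : Fin 5 → List (List Nat) :=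
  ![[],
    [[8,1]],
    [[8,1], [6], [3,5,2,5], [8,1], [3,5,2,5], [7], [8,1], [4,3,4,2]],
    [[8,1], [6], [8,1], [6], [4,3,4,2], [0,8], [4,3,4,2], [6], [3,5,2,5]],
    [[8,1], [6], [8,1]]]

theorem segs_ok : (∀ n : Fin 4, (vSegs n).flatten = vX n ∧
    ((vSegs n).all fun w => (xGens ++ [[8, 1], [0, 8]]).contains w) = true) ∧
    (∀ n : Fin 5, (pSegs n).flatten = pX n ∧
    ((pSegs n).all fun w => (xGens ++ [[8, 1], [0, 8]]).contains w) = true) := by decide +kernel

theorem gX_cover : gX = ![[0, 0], [8, 1], [6], [4, 3, 4, 2]] := by decide +kernel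

end CfsgLib.KnownB.LyCent
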