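import Cfsg.Agent.Lib.DCE.Enum
import Cfsg.Agent.Lib.DCE.Fixed

/-!
A subgroup inside an enumerated group with as many elements as it is the whole of it.
-/

set_option autoImplicit false

namespace CfsgLib.KnownB.LyCent

open CfsgLib.PresCert CfsgLib.DCE

variable {P : PermData} {H : Type*} [Group H] [Finite H] (M : Perms P H)

include M in
/-- A subgroup generated by elements of an enumerated group, of at least that order. -/
theorem eq_enum_of_card {base : List Nat} (hbase : ∀ b ∈ base, b < P.n)
    (inj : ∀ h : H, (∀ i : Fin P.n, (i : Nat) ∈ base → M.act h i = i) → h = 1)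
    {E : EnumData} (hS : E.okShape P = true) (hC : ∀ k < E.len, E.okFrom P base k 1 = true)
    (U : Subgroup H) (hU : U ≤ Subgroup.closure {h | ∃ w ∈ E.gens, M.val w = h})
    (hcard : E.len ≤ Nat.card U) :
    U = Subgroup.closure {h | ∃ w ∈ E.gens, M.val w = h} ∧ Nat.card U = E.len := by
  set V := Subgroup.closure {h | ∃ w ∈ E.gens, M.val w = h} with hV
  have h1 : Nat.card {s : V // (fun _ : H => True) s} ≤ E.len :=
    card_le_of_enum M hbase inj hS hC V le_rfl (fun _ => True) (fun _ => true) (fun _ _ _ => rfl)
      (by simp)
  have h2 : Nat.card V ≤ E.len :=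
    (Nat.card_le_card_of_injective (fun v : V => (⟨v, trivial⟩ : {s : V // (fun _ : H => True) s}))
      fun a b e => congrArg Subtype.val e).trans h1
  have e := Subgroup.eq_of_le_of_card_ge hU (h2.trans hcard)
  exact ⟨e, le_antisymm (e ▸ h2) hcard⟩

include M in
/-- membership by a word of the enumeration -/
theorem mem_enum {base : List Nat}
    (inj : ∀ h : H, (∀ i : Fin P.n, (i : Nat) ∈ base → M.act h i = i) → h = 1)
    {E : EnumData} (hS : E.okShape P = true) (u : List Nat) (hu : ∀ x ∈ u, x < P.g) (k : Nat)
    (h : (base.all fun b => Nat.beq (P.app u b) (P.app (E.word k) b)) = true) :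
    M.val u ∈ Subgroup.closure {h | ∃ w ∈ E.gens, M.val w = h} := by
  simp only [EnumData.okShape, Bool.and_eq_true, List.all_eq_true, Nat.blt_eq] at hS
  have e : M.val u = M.val (E.word k) := by
    refine mul_inv_eq_one.1 (inj _ fun i hi => ?_)
    simp only [List.all_eq_true, Nat.beq_eq] at h
    have h' := h i hi
    have hlt : ∀ x ∈ E.word k, x < P.g := wordAt_lt hS.2 _ _ _
    rw [M.app_eq u hu, M.app_eq _ hlt, Fin.val_inj] at h'
    rw [Perms.act_mul, h', ← Perms.act_mul, mul_inv_cancel, Perms.act_one]
  rw [e]
  clear e h
  unfold EnumData.word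
  generalize E.depth = f
  induction f generalizing k with
  | zero => simp [wordAt, Perms.val, wv]
  | succ f ih =>
    simp only [wordAt]
    cases hk : Nat.beq k 0 with
    | true => simp [Perms.val, wv]
    | false =>
      simp only
      rw [Perms.val_append]
      refine mul_mem (ih _) ?_
      generalize Nat.land (E.tree.word k) 15 = j
      by_cases hj : j < E.gens.length
      · rw [List.getD_eq_getElem?_getD, List.getElem?_eq_getElem hj]
        exact Subgroup.subset_closure ⟨_, List.getElem_mem hj, rfl⟩
      · rw [List.getD_eq_getElem?_getD, List.getElem?_eq_none (by omega)]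
        simp [Perms.val, wv]

end CfsgLib.KnownB.LyCent
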