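import Cfsg.Agent.Lib.KnownB.LyCent.TInst
import Cfsg.Agent.Lib.KnownB.LyCent.McLInst
import Cfsg.Agent.Lib.KnownB.LyCent.StabId
import Cfsg.Agent.Lib.KnownB.LyCent.RunSegs
import Cfsg.Agent.Lib.KnownB.LyCent.ChkU
import Cfsg.Agent.Lib.KnownB.LyCent.RunRels
import Cfsg.Agent.Lib.KnownB.LyCent.ChkRunsT
import Cfsg.Agent.Lib.KnownB.LyCent.ChkRunsX
import Cfsg.Agent.Lib.KnownB.LyCent.ChkRunsP0
import Cfsg.Agent.Lib.KnownB.LyCent.ChkRunsP1
import Cfsg.Agent.Lib.KnownB.LyCent.ChkRunsP2
import Cfsg.Agent.Lib.KnownB.LyCent.ChkRunsP3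
import Cfsg.Agent.Lib.KnownB.LyCent.ChkRunsP4
import Cfsg.Agent.Lib.KnownB.LyCent.ChkRunsP5
import Cfsg.Agent.Lib.KnownB.LyCent.ChkRunsP6
import Cfsg.Agent.Lib.KnownB.LyCent.ChkRunsP7
import Cfsg.Agent.Lib.Spor.Ly.GKData

/-!
The two centralisers in a finite group with a closed enumeration of the Lyons group.
-/

set_option autoImplicit false
set_option maxRecDepth 100000

namespace CfsgLib.KnownB.LyCent

open CfsgLib.PresCert CfsgLib.DCE
open CfsgLib.Spor.Ly

/-- orders of the five orbit stabilisers -/
def sizes : Fin 5 → ℕ := ![5859000000, 300000, 1008, 2880, 6048]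

theorem lives_len : GK.lives.length = 5 := by decide +kernel

/-- the part of an orbit -/
noncomputable def part5 : Fin GK.lives.length ≃ Fin 5 := (finCongr lives_len).trans (Equiv.swap 2 4)

theorem lives_facts : ∀ k : Fin GK.lives.length,
    (GK.lives[k]).i = orbNo (part5 k) ∧ (GK.lives[k]).stabs = stabF (part5 k) := by decide +kernel

/-- What is needed from the closed enumeration. -/
structure Kit {H Q : Type*} [Group H] [Group Q] (N : Model GK.S H Q) where
  hS : GK.S.okSetup = true
  hls : ∀ L ∈ GK.lives, GK.S.okLive GK.facts L = true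
  hfs : ∀ n < GK.facts.length, N.FactOK (Setup.fget GK.facts n)
  hbij : Function.Bijective (pointOf N hls hfs)
  hinj : Function.Injective N.f
  hcard : Nat.card H = 5859000000
  hsize : ∀ k : Fin GK.lives.length,
    Nat.card (liveStab N GK.facts GK.lives[k]) = sizes (part5 k)

variable {H Q : Type*} [Group H] [Group Q] {N : Model GK.S H Q} (T : Kit N)

theorem facts_len : GK.facts.length = 108 := by decide +kernel

include T in
theorem val_run {st : List Step} {w u : List Nat} (h : GK.S.okVal GK.facts 108 st w u = true) :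
    (w.map N.gen').prod = N.f (N.M.val u) :=
  okVal_spec N T.hS (fun f hf => T.hfs f (facts_len.symm ▸ hf)) h

include T in
theorem end_run {st : List Step} {w kw : List Nat} {i : Nat}
    (h : okEnd GK.S GK.facts 108 st w i kw = true) :
    ∃ v : H, (w.map N.gen').prod = N.f v * N.g i * N.f (N.M.val kw) :=
  okEnd_spec N T.hS (fun f hf => T.hfs f (facts_len.symm ▸ hf)) h

theorem prod_low (w : List Nat) (hw : ∀ x ∈ w, x < GK.S.P.g) :
    (w.map N.gen').prod = N.f (N.M.val w) := by
  induction w with
  | nil => simp [Perms.val, wv]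
  | cons x w ih =>
    rw [List.map_cons, List.prod_cons, ih fun y hy => hw y (List.mem_cons_of_mem _ hy),
      N.gen'_lt x (hw x List.mem_cons_self), ← map_mul, ← Perms.val_append]
    rfl

theorem lets_len : GK.S.lets.length = 1 ∧ GK.S.linv.getD 8 0 = 8 ∧ GK.S.P.g = 8 := by
  decide +kernel

variable [Finite H]

include T in
/-- the five orbits with their stabilisers -/
theorem setting : ∃ st : Setting N N.M GK.facts GK.lives, ∀ k, st.e k = part5 k := by
  have hmem : ∀ (i : Fin 5) (k : Fin GK.lives.length), part5 k = i → ∀ U : Subgroup H,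
      (∀ c < (stabF i).length,
        N.M.val (Setup.fget GK.facts ((stabF i).getD c 0)).p ∈ U) →
      liveStab N GK.facts GK.lives[k] ≤ U := by
    intro i k hk U h
    rw [liveStab, Subgroup.closure_le]
    rintro _ ⟨f, hf, rfl⟩
    rw [(lives_facts k).2, hk] at hf
    obtain ⟨c, hc, rfl⟩ := List.getElem_of_mem hf
    have h' := h c hc
    rwa [List.getD_eq_getElem?_getD, List.getElem?_eq_getElem hc] at h'
  have hsmall : ∀ (E : EnumData) (i : Fin 5) (idx cj : List Nat),
      E.okShape GK.P = true → (∀ k < E.len, E.okFrom GK.P GK.base k 1 = true) →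
      E.len = sizes i → (stabF i).length = 4 →
      ((List.range 4).all fun c =>
        let w := (Setup.fget GK.facts ((stabF i).getD c 0)).p
        (w.all fun x => Nat.blt x GK.P.g) && (cj.all fun x => Nat.blt x GK.P.g) &&
          sameB GK.P GK.base (cj ++ w ++ ivw cj) (E.word (idx.getD c 0))) = true →
      ∀ k : Fin GK.lives.length, part5 k = i →
        (∀ u : H, u ∈ liveStab N GK.facts GK.lives[k] ↔ N.M.val cj * u * (N.M.val cj)⁻¹ ∈
          Subgroup.closure {h | ∃ w ∈ E.gens, N.M.val w = h}) ∧
        Nat.card (Subgroup.closure {h | ∃ w ∈ E.gens, N.M.val w = h}) = sizes i := by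
    intro E i idx cj hE hC hsz hlen hok k hk
    simp only [List.all_eq_true, List.mem_range, Bool.and_eq_true, Nat.blt_eq] at hok
    let φ : H →* H := (MulAut.conj (N.M.val cj)).toMonoidHom
    have hle : (liveStab N GK.facts GK.lives[k]).map φ ≤
        Subgroup.closure {h | ∃ w ∈ E.gens, N.M.val w = h} := by
      rw [Subgroup.map_le_iff_le_comap]
      refine hmem i k hk _ fun c hc => ?_
      obtain ⟨⟨h1, h3⟩, h2⟩ := hok c (hlen ▸ hc)
      have h := mem_enum (base := GK.base) N.M N.inj hE _ (by
        simp only [List.mem_append]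
        rintro x ((hx | hx) | hx)
        exacts [h3 x hx, h1 x hx, N.M.ivw_lt h3 x hx]) _ h2
      rw [Perms.val_append, Perms.val_append, Perms.val_ivw] at h
      exact h
    have hinj : Function.Injective φ := (MulAut.conj (N.M.val cj)).injective
    have hc : Nat.card ((liveStab N GK.facts GK.lives[k]).map φ) = sizes i := by
      rw [← Nat.card_congr ((liveStab N GK.facts GK.lives[k]).equivMapOfInjective φ hinj).toEquiv,
        T.hsize k, hk]
    obtain ⟨e1, e2⟩ := eq_enum_of_card (base := GK.base) N.M base_lt N.inj hE hC _ hle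
      (by rw [hc, hsz])
    refine ⟨fun u => ?_, by rw [← e1]; exact hc⟩
    rw [← e1]
    exact (Subgroup.mem_map_iff_mem hinj).symm
  refine ⟨{
    hls := T.hls
    hfs := T.hfs
    hbij := T.hbij
    hinj := T.hinj
    hcard := T.hcard
    hgen := N.gen_top
    inj := N.inj
    e := part5
    first := ?_
    stab0 := ?_
    stab1 := ?_
    stab2 := ?_
    stab3 := ?_
    stab4 := ?_ }, fun _ => rfl⟩
  · intro k hk
    rw [(lives_facts k).1, hk]
    rfl
  · intro k hk
    have h := T.hsize k
    rw [hk] at h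
    exact Subgroup.eq_top_of_card_eq _ (h.trans T.hcard.symm)
  · intro k hk g
    have hk' : part5 k = 1 := hk
    have h := T.hsize k
    rw [hk'] at h
    let W : Subgroup H := N.M.fixIn ⊤ [3906]
    have hle : liveStab N GK.facts GK.lives[k] ≤ W := hmem 1 k hk' W fun c hc => by
      have h' := stab_ok1
      simp only [List.all_eq_true, List.mem_range, Bool.and_eq_true, Nat.blt_eq, Nat.beq_eq] at h'
      obtain ⟨h1, h2⟩ := h' c hc
      refine ⟨trivial, fun i hi => Fin.ext ?_⟩
      rw [← N.M.app_eq _ h1 i, List.mem_singleton.1 hi]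
      exact h2
    have h1 := N.M.wlevels_bound ⊤ [kLU] [] levelU_ok fun _ _ _ _ => trivial
    simp only [List.map_cons, List.map_nil, List.prod_cons, List.prod_nil, mul_one,
      List.reverse_singleton, List.append_nil, levelU_base.1, levelU_base.2] at h1
    have h2 : Nat.card (N.M.fixIn ⊤ []) ≤ 5859000000 :=
      T.hcard ▸ Subgroup.card_le_card_group _
    have hW : Nat.card W ≤ 300000 := by
      change Nat.card (N.M.fixIn ⊤ [3906]) ≤ 300000
      omega
    rw [Subgroup.eq_of_le_of_card_ge hle (hW.trans h.ge)]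
    constructor
    · exact fun hg => hg.2 ptU (by simp [ptU])
    · intro hg
      refine ⟨trivial, fun i hi => ?_⟩
      rw [show i = ptU from Fin.ext (List.mem_singleton.1 hi)]
      exact hg
  · exact fun k hk => hsmall e2 2 stabIdx2 cj2 e2_shape (fun k hk => e2_node k hk) (by decide +kernel)
      (by decide +kernel) stab_ok2 k hk
  · exact fun k hk => hsmall e3 3 stabIdx3 cj3 e3_shape (fun k hk => e3_node k hk) (by decide +kernel)
      (by decide +kernel) stab_ok3 k hk
  · intro k hk
    obtain ⟨h1, h2⟩ := hsmall e4 4 stabIdx4 [] e4_shape (fun k hk => e4_node k hk)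
      (by decide +kernel) (by decide +kernel) stab_ok4 k hk
    have e : liveStab N GK.facts GK.lives[k] =
        Subgroup.closure {h | ∃ w ∈ e4.gens, N.M.val w = h} := by
      ext u
      simpa [Perms.val, wv] using h1 u
    exact ⟨e, by rw [e]; exact h2⟩

theorem words_lt : (∀ i : Fin 9, ((yT i).all fun x => Nat.blt x 9) = true) ∧
    (∀ i : Fin 4, ((vX i).all fun x => Nat.blt x 9) = true) := by decide +kernel

variable [Finite Q]

include T in
/-- The involution and its centraliser. -/
theorem involution_centralizer : ∃ t : Q, orderOf t = 2 ∧ Cfsg.IsNonsplitDoubleCover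
    (Subgroup.centralizer ({t} : Set Q)) (alternatingGroup (Fin 11)) := by
  obtain ⟨st, hst⟩ := setting T
  set t := N.f (tEl N.M) with ht
  let y : Fin 9 → Q := fun i => ((yT i).map N.gen').prod
  have htW : (tW.map N.gen').prod = t := prod_low tW words_tx_lt.1
  have hz : ∀ {w : List Nat} {stp : List Step} {u : List Nat},
      GK.S.okVal GK.facts 108 stp w u = true → u = tW ∨ u = [] →
        (w.map N.gen').prod ∈ Subgroup.zpowers t := by
    intro w stp u h hu
    rw [val_run T h]
    rcases hu with rfl | rfl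
    · exact Subgroup.mem_zpowers _
    · simp [Perms.val, wv]
  have hcm : ∀ i, y i * t = t * y i := by
    intro i
    have key : ∀ (stp : List Step),
        GK.S.okVal GK.facts 108 stp (yT i ++ tW ++ GK.S.invAll (yT i)) tW = true →
        y i * t = t * y i := by
      intro stp h
      have e := val_run T h
      rw [List.map_append, List.prod_append, List.map_append, List.prod_append,
        prod_invAll N _ (fun x hx => by
          have := List.all_eq_true.1 (words_lt.1 i) x hx
          rw [Nat.blt_eq] at this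
          rw [lets_len.1, lets_len.2.2]
          exact this), htW] at e
      exact mul_inv_eq_iff_eq_mul.1 e
    fin_cases i
    exacts [key _ comT0, key _ comT1, key _ comT2, key _ comT3, key _ comT4, key _ comT5,
      key _ comT6, key _ comT7, key _ comT8]
  have hpw : ∀ n i, ((pw n (yT i)).map N.gen').prod = y i ^ n := fun n i => prod_pw N n _
  have hpw2 : ∀ n i j, ((pw n (yT i ++ yT j)).map N.gen').prod = (y i * y j) ^ n := fun n i j => by
    rw [prod_pw, List.map_append, List.prod_append]
  have hrel : ∀ r ∈ CfsgLib.Recog.carmichaelRelators 9,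
      FreeGroup.lift y r ∈ Subgroup.zpowers t := by
    rintro r (((⟨i, hi, rfl⟩ | ⟨i, hi, rfl⟩) | ⟨i, j, hj, rfl⟩) | ⟨i, j, hj, rfl⟩) <;>
      simp only [map_pow, map_mul, FreeGroup.lift_apply_of]
    · obtain ⟨stp, u, hu, h⟩ := rel_sq i
      rw [if_pos hi] at h
      rw [← hpw]
      exact hz h hu
    · obtain ⟨stp, u, hu, h⟩ := rel_sq i
      rw [if_neg (by omega)] at h
      rw [← hpw]
      exact hz h hu
    · obtain ⟨stp, u, hu, h⟩ := rel_adj i j hj
      rw [← hpw2]
      exact hz h hu
    · obtain ⟨stp, u, hu, h⟩ := rel_far i j hj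
      rw [← hpw2]
      exact hz h hu
  have hne : ∃ i, y i ∉ Subgroup.zpowers t := by
    refine ⟨0, fun hmem => ?_⟩
    have hr : y 0 ∈ N.f.range := (Subgroup.zpowers_le.2 (show t ∈ N.f.range from ⟨_, rfl⟩)) hmem
    obtain ⟨h, hh⟩ := hr
    obtain ⟨v, e⟩ := end_run T endT0
    let k2 : Fin GK.lives.length := part5.symm 4
    let k0 : Fin GK.lives.length := part5.symm 0
    have hg : N.g (orbNo (part5 k2)) ∈ N.f.range := by
      refine ⟨v⁻¹ * h * (N.M.val [1, 1, 1, 1, 2, 2, 6])⁻¹, ?_⟩
      rw [map_mul, map_mul, map_inv, map_inv, hh, show y 0 = _ from e,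
        show orbNo (part5 k2) = 3 by rw [Equiv.apply_symm_apply]; rfl]
      group
    have hp : ∀ k : Fin GK.lives.length, N.g (orbNo (part5 k)) ∈ N.f.range →
        pointOf N T.hls T.hfs ⟨k, ((1 : H) : H ⧸ liveStab N GK.facts GK.lives[k])⟩ =
          ((1 : Q) : Q ⧸ N.f.range) := by
      intro k hk
      rw [pointOf_mk, (lives_facts k).1, map_one, one_mul]
      exact QuotientGroup.eq.2 (by simpa using hk)
    have h0 : N.g (orbNo (part5 k0)) ∈ N.f.range := by
      rw [show orbNo (part5 k0) = 0 by rw [Equiv.apply_symm_apply]; rfl,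
        show N.g 0 = 1 by simp [Model.g]]
      exact one_mem _
    have e' : part5 k2 = part5 k0 := congrArg (fun z => part5 z.1)
      (T.hbij.1 ((hp k2 hg).trans (hp k0 h0).symm))
    simp [k2, k0] at e'
  have hs : (N.M.val [0, 0]) * N.M.val [0, 0] = tEl N.M :=
    (Perms.val_append N.M [0, 0] [0, 0]).symm
  exact ⟨t, double_cover_t st y hcm hrel hne _ hs⟩

include T in
/-- The element of order three and its centraliser. -/
theorem three_centralizer : ∃ x : Q, orderOf x = 3 ∧
    Nat.card (Subgroup.center (Subgroup.centralizer ({x} : Set Q))) = 3 ∧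
    Cfsg.IsMcL ((Subgroup.centralizer ({x} : Set Q)) ⧸
      Subgroup.center (Subgroup.centralizer ({x} : Set Q))) := by
  obtain ⟨st, hst⟩ := setting T
  set a := N.f (xEl N.M) with ha
  obtain ⟨hlen, hl8, hg8⟩ := lets_len
  have hxW : (xW.map N.gen').prod = a := prod_low xW words_tx_lt.2
  set zq := (([8, 1] : List Nat).map N.gen').prod with hzq
  have hzi : (([0, 8] : List Nat).map N.gen').prod = zq⁻¹ := by
    rw [hzq, ← prod_invAll N [8, 1] (by simp [hlen, hg8])]
    congr 1
  have hz : zq * a = a * zq := by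
    have e := val_run T comZ
    rw [List.map_append, List.prod_append, List.map_append, List.prod_append, hxW, hzi,
      ← hzq] at e
    exact mul_inv_eq_iff_eq_mul.1 e
  set G0 : Set Q := {q | ∃ w ∈ xGens, N.f (N.M.val w) = q} ∪ {zq} with hG0
  have hxg : ∀ w ∈ xGens, (∀ y ∈ w, y < GK.S.P.g) ∧
      N.f (N.M.val w) * a = a * N.f (N.M.val w) := by
    intro w hw
    have h' := List.all_eq_true.1 x_commutes w hw
    simp only [Bool.and_eq_true, List.all_eq_true, Nat.blt_eq] at h'
    refine ⟨h'.1, ?_⟩
    show N.f (N.M.val w) * N.f (N.M.val xW) = N.f (N.M.val xW) * N.f (N.M.val w)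
    rw [← map_mul, ← map_mul, ← Perms.val_append, ← Perms.val_append]
    refine congrArg N.f (val_of_sameB N.M N.inj ?_ ?_ h'.2) <;> simp only [List.mem_append] <;>
      rintro y (hy | hy) <;> first | exact h'.1 y hy | exact words_tx_lt.2 y hy
  have hG0C : ∀ g ∈ G0, g ∈ Subgroup.centralizer ({a} : Set Q) := by
    intro g hg
    rcases hg with ⟨w, hw, rfl⟩ | rfl
    · exact Subgroup.mem_centralizer_singleton_iff.2 (hxg w hw).2
    · exact Subgroup.mem_centralizer_singleton_iff.2 hz
  have hseg : ∀ segs : List (List Nat),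
      (segs.all fun w => (xGens ++ [[8, 1], [0, 8]]).contains w) = true →
        (segs.flatten.map N.gen').prod ∈ Subgroup.closure G0 := by
    intro segs
    induction segs with
    | nil => intro _; simp
    | cons w segs ih =>
      intro h
      simp only [List.all_cons, Bool.and_eq_true] at h
      rw [List.flatten_cons, List.map_append, List.prod_append]
      refine mul_mem ?_ (ih h.2)
      have hw := List.contains_iff_mem.1 h.1
      simp only [List.mem_append, List.mem_cons, List.not_mem_nil, or_false] at hw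
      rcases hw with hw | rfl | rfl
      · rw [prod_low w (hxg w hw).1]
        exact Subgroup.subset_closure (Or.inl ⟨w, hw, rfl⟩)
      · exact Subgroup.subset_closure (Or.inr rfl)
      · rw [hzi]
        exact inv_mem (Subgroup.subset_closure (Or.inr rfl))
  let V : Fin 4 → Q := fun n => ((vX n).map N.gen').prod
  let G : Fin 4 → Q := fun n => ((gX n).map N.gen').prod
  let F : Q → Prop := fun g => ∃ u v : Q, g = u * v ∧ u * a = a * u ∧ v * a = a * v ∧
    u ^ 11 ∈ Subgroup.zpowers a ∧ v ^ 11 ∈ Subgroup.zpowers a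
  have hGc : ∀ n, G n * a = a * G n := by
    intro n
    fin_cases n <;> simp only [G, gX_cover]
    · have h := hxg [0, 0] (by decide)
      rw [show ((![[0, 0], [8, 1], [6], [4, 3, 4, 2]] : Fin 4 → List Nat) ⟨0, by omega⟩) = [0, 0]
        from rfl, prod_low _ h.1]
      exact h.2
    · simpa [hzq] using hz
    · have h := hxg [6] (by decide)
      rw [show ((![[0, 0], [8, 1], [6], [4, 3, 4, 2]] : Fin 4 → List Nat) ⟨2, by omega⟩) = [6]
        from rfl, prod_low _ h.1]
      exact h.2
    · have h := hxg [4, 3, 4, 2] (by decide)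
      rw [show ((![[0, 0], [8, 1], [6], [4, 3, 4, 2]] : Fin 4 → List Nat) ⟨3, by omega⟩) = [4, 3, 4, 2]
        from rfl, prod_low _ h.1]
      exact h.2
  have hVc : ∀ n, V n * a = a * V n := fun n => by
    obtain ⟨e, h⟩ := segs_ok.1 n
    refine Subgroup.mem_centralizer_singleton_iff.1 ?_
    simp only [V, ← e]
    exact (Subgroup.closure_le _).2 hG0C (hseg _ h)
  have hp11 : ∀ {w : List Nat} {stp : List Step} {u : List Nat},
      GK.S.okVal GK.facts 108 stp (pw 11 w) u = true → u = xW ∨ u = xW ++ xW ∨ u = [] →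
        ((w.map N.gen').prod) ^ 11 ∈ Subgroup.zpowers a := by
    intro w stp u h hu
    rw [← prod_pw, val_run T h]
    rcases hu with rfl | rfl | rfl
    · exact Subgroup.mem_zpowers _
    · rw [Perms.val_append, map_mul]
      exact mul_mem (Subgroup.mem_zpowers _) (Subgroup.mem_zpowers _)
    · simp [Perms.val, wv]
  have hFn : ∀ n, F (G n) := by
    intro n
    refine ⟨G n * (V n)⁻¹, V n, by group,
      ((show Commute (G n) a from hGc n).mul_left
        (Commute.inv_left (show Commute (V n) a from hVc n))).eq, hVc n, ?_⟩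
    have e : ∀ k, G k * (V k)⁻¹ = ((gX k ++ GK.S.invAll (vX k)).map N.gen').prod := fun k => by
      rw [List.map_append, List.prod_append, prod_invAll N _ fun x hx => by
        have := List.all_eq_true.1 (words_lt.2 k) x hx
        rw [Nat.blt_eq] at this
        rw [hlen, hg8]
        exact this]
    rw [e]
    fin_cases n
    exacts [⟨hp11 powXu0 (by decide), hp11 powXv0 (by decide)⟩,
      ⟨hp11 powXu1 (by decide), hp11 powXv1 (by decide)⟩,
      ⟨hp11 powXu2 (by decide), hp11 powXv2 (by decide)⟩,
      ⟨hp11 powXu3 (by decide), hp11 powXv3 (by decide)⟩]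
  have hFinv : ∀ g, F g → F g⁻¹ := by
    rintro g ⟨u, v, rfl, hu, hv, hu', hv'⟩
    exact ⟨v⁻¹, u⁻¹, mul_inv_rev _ _, (Commute.inv_left (show Commute v a from hv)).eq,
      (Commute.inv_left (show Commute u a from hu)).eq, by rw [inv_pow]; exact inv_mem hv',
      by rw [inv_pow]; exact inv_mem hu'⟩
  have hFa : F a := ⟨a, 1, (mul_one a).symm, rfl, by simp,
    pow_mem (Subgroup.mem_zpowers a) 11, by simp⟩
  have hfac : ∀ g ∈ G0, F g := by
    intro g hg
    have hG : ∀ w : List Nat, (∀ y ∈ w, y < GK.S.P.g) → ∀ n : Fin 4, gX n = w →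
        F (N.f (N.M.val w)) := fun w hw n e => by
      rw [← prod_low w hw, ← e]
      exact hFn n
    rcases hg with ⟨w, hw, rfl⟩ | rfl
    · have hlt := (hxg w hw).1
      have hiv : ∀ u : List Nat, w = ivw u → F (N.f (N.M.val u)) → F (N.f (N.M.val w)) :=
        fun u e h => by
          rw [e, Perms.val_ivw, map_inv]
          exact hFinv _ h
      simp only [xGens, List.mem_cons, List.not_mem_nil, or_false] at hw
      rcases hw with rfl | rfl | rfl | rfl | rfl | rfl | rfl | rfl
      · exact hG _ hlt 0 (by decide)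
      · exact hG _ hlt 2 (by decide)
      · exact hG _ hlt 3 (by decide)
      · exact hFa
      · exact hiv [0, 0] (by decide) (hG _ (by simp [hg8]) 0 (by decide))
      · exact hiv [6] (by decide) (hG _ (by simp [hg8]) 2 (by decide))
      · exact hiv [4, 3, 4, 2] (by decide) (hG _ (by simp [hg8]) 3 (by decide))
      · exact hiv xW (by decide) hFa
    · exact hFn 1
  let P : Fin 5 → Q := fun i => ((pX i).map N.gen').prod
  have hymem : ∀ i, (P i)⁻¹ ∈ Subgroup.closure G0 := fun i => by
    obtain ⟨e, h⟩ := segs_ok.2 i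
    refine inv_mem ?_
    simp only [P, ← e]
    exact hseg _ h
  have hyrep : ∀ k : Fin GK.lives.length, (P (st.e k))⁻¹ • ((1 : Q) : Q ⧸ N.f.range) =
      pointOf N st.hls st.hfs
        ⟨k, ((N.M.val (xReps (st.e k)) : H) : H ⧸ liveStab N GK.facts GK.lives[k])⟩ := by
    intro k
    rw [pointOf_mk, (lives_facts k).1, MulAction.Quotient.smul_mk, smul_eq_mul, mul_one, hst k]
    have key : ∀ (i : Fin 5) (kw : List Nat) (stp : List Step),
        okEnd GK.S GK.facts 108 stp (pX i) (orbNo i) kw = true →
        N.M.val (xReps i) = (N.M.val kw)⁻¹ →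
          (((P i)⁻¹ : Q) : Q ⧸ N.f.range) =
            ((N.f (N.M.val (xReps i)) * (N.g (orbNo i))⁻¹ : Q) : Q ⧸ N.f.range) := by
      intro i kw stp h hr
      obtain ⟨v, e⟩ := end_run T h
      refine QuotientGroup.eq.2 ⟨v, ?_⟩
      simp only [P, e, hr, map_inv, inv_inv]
      group
    generalize part5 k = i
    fin_cases i
    · refine QuotientGroup.eq.2 ?_
      simp [P, pX, xReps, orbNo, Model.g, Perms.val, wv]
    · exact key 1 _ _ endX1 (by simp [xReps, Perms.val, wv])
    · exact key 2 _ _ endX2 (Perms.val_ivw N.M _)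
    · exact key 3 _ _ endX3 (Perms.val_ivw N.M _)
    · exact key 4 _ _ endX4 (Perms.val_ivw N.M _)
  exact ⟨a, isMcL_centralizer N.M st zq hz (fun i => (P i)⁻¹) hyrep hymem hfac⟩

end CfsgLib.KnownB.LyCent
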