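import Cfsg.Agent.Lib.KnownB.LyCent.Existence
import Cfsg.Agent.Lib.DCE.Fixed

/-!
The hypotheses of the centraliser computations from the checks of the enumeration and the index.
-/

set_option autoImplicit false
set_option maxRecDepth 100000

namespace CfsgLib.KnownB.LyCent

open CfsgLib.PresCert CfsgLib.DCE
open CfsgLib.Spor.Ly

/-- length of the orbit with a given number -/
def orbLen : Nat → Nat
  | 0 => 1
  | 1 => 19530
  | 3 => 968750
  | 5 => 2034375
  | 8 => 5812500
  | _ => 0

theorem orbLen_facts : (GK.lives.map fun L => orbLen L.i).sum = 8835156 ∧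
    ∀ i : Fin 5, orbLen (orbNo i) = orbSizes i := by decide +kernel

variable {H Q : Type*} [Group H] [Group Q] [Finite H] {N : Model GK.S H Q}

/-- The kit from the checks, upper bounds for the stabiliser indices and the index. -/
theorem kit_of (hS : GK.S.okSetup = true) (hls : ∀ L ∈ GK.lives, GK.S.okLive GK.facts L = true)
    (hfs : ∀ n < GK.facts.length, N.FactOK (Setup.fget GK.facts n))
    (hinj : Function.Injective N.f) (hcard : Nat.card H = 5859000000) (hV : EdgeStab N)
    (hcov : GK.S.okCover GK.facts GK.lives GK.dead = true)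
    (hm : ∀ k : Fin GK.lives.length,
      (liveStab N GK.facts GK.lives[k]).index ≤ orbSizes (part5 k))
    (hidx : N.f.range.index = 8835156) : Kit N := by
  have hm' : ∀ L ∈ GK.lives, (liveStab N GK.facts L).index ≤ orbLen L.i ∧
      (liveStab N GK.facts L).index ≠ 0 := by
    intro L hL
    refine ⟨?_, Subgroup.FiniteIndex.index_ne_zero⟩
    obtain ⟨k, hk, rfl⟩ := List.getElem_of_mem hL
    have h := hm ⟨k, hk⟩
    have e := (lives_facts ⟨k, hk⟩).1
    simp only [Fin.getElem_fin] at h e
    rw [e, orbLen_facts.2]
    exact h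
  have hbij := pointOf_bijective N hS hls hfs hV hcov (fun L => orbLen L.i) hm'
    (hidx.trans orbLen_facts.1.symm)
  refine ⟨hS, hls, hfs, hbij, hinj, hcard, fun k => ?_⟩
  have h := index_exact N hls hfs hbij (fun L => orbLen L.i) hm'
    (hidx.trans orbLen_facts.1.symm) k
  rw [(lives_facts k).1, orbLen_facts.2] at h
  have h2 := Subgroup.card_mul_index (liveStab N GK.facts GK.lives[k])
  rw [h, hcard, ← orb_sum.2 (part5 k), Nat.mul_comm (orbSizes (part5 k))] at h2
  refine Nat.eq_of_mul_eq_mul_right ?_ h2
  generalize part5 k = i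
  fin_cases i <;> simp [orbSizes]

end CfsgLib.KnownB.LyCent
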