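import Mathlib

/-!
Transitivity of a centraliser on the fixed cosets, by counting.
-/

set_option autoImplicit false

namespace CfsgLib.KnownB.LyCent

open MulAction

/-- With at most `b` fixed cosets and a stabiliser of order at most `d` of the centraliser of order
at least `b * d`, the centraliser is transitive on the fixed cosets and there are exactly `b`. -/
theorem fixed_transitive {H : Type*} [Group H] [Finite H] (U : Subgroup H) (a h : H) {b d : ℕ}
    (hd0 : 0 < d) (hmem : h⁻¹ * a * h ∈ U)
    (hb : Nat.card {x : H ⧸ U // a • x = x} ≤ b)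
    (hd : Nat.card {v : U // (v : H) * (h⁻¹ * a * h) = h⁻¹ * a * h * v} ≤ d)
    (hC : b * d ≤ Nat.card (Subgroup.centralizer ({a} : Set H))) :
    Nat.card {x : H ⧸ U // a • x = x} = b ∧
      ∀ x : H ⧸ U, a • x = x → ∃ g : H, g * a = a * g ∧ g • (h : H ⧸ U) = x := by
  set C := Subgroup.centralizer ({a} : Set H) with hCdef
  let p : H ⧸ U := h
  have hp : a • p = p := by
    simp only [p, MulAction.Quotient.smul_mk, smul_eq_mul]
    refine QuotientGroup.eq.2 ?_
    have : (a * h)⁻¹ * h = (h⁻¹ * a * h)⁻¹ := by group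
    rw [this]
    exact inv_mem hmem
  have hst : Nat.card (stabilizer C p) ≤ d := by
    refine le_trans ?_ hd
    refine Nat.card_le_card_of_injective
      (fun g => (⟨⟨h⁻¹ * ((g : C) : H) * h, ?_⟩, ?_⟩ :
        {v : U // (v : H) * (h⁻¹ * a * h) = h⁻¹ * a * h * v})) fun g g' e => ?_
    · have e : ((g : C) : H) • p = p := g.2
      simp only [p, MulAction.Quotient.smul_mk, smul_eq_mul] at e
      have e' := inv_mem (QuotientGroup.eq.1 e)
      have : (((g : C) : H) * h)⁻¹ * h = (h⁻¹ * ((g : C) : H) * h)⁻¹ := by group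
      rwa [this, inv_inv] at e'
    · have e := Subgroup.mem_centralizer_singleton_iff.1 (g : C).2
      calc h⁻¹ * ((g : C) : H) * h * (h⁻¹ * a * h)
          = h⁻¹ * (((g : C) : H) * a) * h := by group
        _ = h⁻¹ * a * h * (h⁻¹ * ((g : C) : H) * h) := by rw [e]; group
    · have e' : h⁻¹ * ((g : C) : H) * h = h⁻¹ * ((g' : C) : H) * h :=
        congrArg (fun v : {v : U // _} => (v.1 : H)) e
      exact Subtype.ext (Subtype.ext (mul_left_cancel (mul_right_cancel e')))
  have horb : b ≤ Nat.card (orbit C p) := by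
    have h1 := Subgroup.card_mul_index (stabilizer C p)
    rw [MulAction.index_stabilizer] at h1
    rw [Nat.card_coe_set_eq]
    by_contra hlt
    rw [Nat.not_le] at hlt
    have h2 : Nat.card (stabilizer C p) * (orbit C p).ncard ≤ d * (orbit C p).ncard :=
      Nat.mul_le_mul_right _ hst
    have h3 : d * (orbit C p).ncard < d * b := Nat.mul_lt_mul_of_pos_left hlt hd0
    rw [Nat.mul_comm d b] at h3
    omega
  have hsub : orbit C p ⊆ {x | a • x = x} := by
    rintro _ ⟨g, rfl⟩
    show a • ((g : H) • p) = (g : H) • p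
    rw [← mul_smul, ← Subgroup.mem_centralizer_singleton_iff.1 g.2, mul_smul, hp]
  rw [Nat.card_coe_set_eq] at horb
  have hb' : Set.ncard {x : H ⧸ U | a • x = x} ≤ b := by
    rw [← Nat.card_coe_set_eq]; exact hb
  have heq : orbit C p = {x | a • x = x} :=
    Set.eq_of_subset_of_ncard_le hsub (hb'.trans horb) (Set.toFinite _)
  refine ⟨le_antisymm hb ?_, fun x hx => ?_⟩
  · refine horb.trans ?_
    rw [heq, ← Nat.card_coe_set_eq]
    rfl
  · have : x ∈ orbit C p := heq ▸ hx
    obtain ⟨g, rfl⟩ := this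
    exact ⟨g, Subgroup.mem_centralizer_singleton_iff.1 g.2, rfl⟩

end CfsgLib.KnownB.LyCent
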