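import Cfsg.Agent.Lib.DCE.Eval
import Cfsg.Agent.Lib.Spor.Ly.GKData

/-!
Evaluation of words through the closed enumeration of the Lyons group.
-/

set_option autoImplicit false

namespace CfsgLib.KnownB.LyCent

open CfsgLib.PresCert CfsgLib.DCE
open CfsgLib.Spor.Ly

/-- a power of a word -/
def pw (n : Nat) (w : List Nat) : List Nat := (List.replicate n w).flatten

/-- the check: the run of a word ends in orbit `i` with the right part `kw` -/
noncomputable def okEnd (S : Setup) (fs : List Fact) (n : Nat) (st : List Step)
    (ls : List Nat) (i : Nat) (kw : List Nat) : Bool :=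
  S.okW kw &&
  match S.run fs n st ls ⟨[], nat_lit 0, []⟩ with
  | some t => Nat.beq t.i i && S.same t.k kw
  | none => false

variable {S : Setup} {H Q : Type*} [Group H] [Group Q] (N : Model S H Q)

theorem prod_pw (n : Nat) (w : List Nat) :
    ((pw n w).map N.gen').prod = ((w.map N.gen').prod) ^ n := by
  induction n with
  | zero => simp [pw]
  | succ n ih =>
    rw [pw, List.replicate_succ, List.flatten_cons, List.map_append, List.prod_append, ← pw, ih,
      pow_succ']

theorem prod_invAll (w : List Nat) (hw : ∀ x ∈ w, x < S.P.g + S.lets.length) :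
    ((S.invAll w).map N.gen').prod = ((w.map N.gen').prod)⁻¹ := by
  induction w with
  | nil => simp [Setup.invAll]
  | cons a w ih =>
    have h : S.invAll (a :: w) = S.invAll w ++ [S.linv.getD a 0] := by simp [Setup.invAll]
    rw [h, List.map_append, List.prod_append, ih fun x hx => hw x (List.mem_cons_of_mem _ hx)]
    rw [List.map_singleton, List.prod_singleton, List.map_cons, List.prod_cons, mul_inv_rev,
      N.gen'_inv a (hw a List.mem_cons_self)]

include N in
theorem okEnd_spec (hS : S.okSetup = true) {fs : List Fact} {n : Nat}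
    (hfs : ∀ f < n, N.FactOK (Setup.fget fs f)) {st : List Step} {ls : List Nat} {i : Nat}
    {kw : List Nat} (h : okEnd S fs n st ls i kw = true) :
    ∃ v : H, (ls.map N.gen').prod = N.f v * N.g i * N.f (N.M.val kw) := by
  simp only [okEnd, Bool.and_eq_true] at h
  obtain ⟨hw, h⟩ := h
  split at h
  · next t ht =>
    simp only [Bool.and_eq_true, Nat.beq_eq] at h
    obtain ⟨⟨-, hk⟩, e⟩ := run_sound N hS hfs st ls ⟨[], 0, []⟩ t ⟨by simp, by simp⟩ ht
    have hg : N.g 0 = 1 := by simp [Model.g]
    rw [Model.sv, Model.sv, h.1, hg, Model.wq_nil] at e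
    simp only [mul_one, one_mul] at e
    refine ⟨N.M.val t.v, e.trans ?_⟩
    rw [same_wq N hk (okW_spec hw) h.2]
    rfl
  · cases h

end CfsgLib.KnownB.LyCent
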