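import Cfsg.Agent.Lib.KnownB.LyCent.KCent
import Cfsg.Agent.Lib.KnownB.LyCent.Orbit
import Cfsg.Agent.Lib.KnownB.LyCent.ChkS2Misc
import Cfsg.Agent.Lib.KnownB.LyCent.ChkS2Node
import Cfsg.Agent.Lib.KnownB.LyCent.ChkS2Inv
import Cfsg.Agent.Lib.KnownB.LyCent.ChkS2Three
import Cfsg.Agent.Lib.KnownB.LyCent.ChkS3Misc
import Cfsg.Agent.Lib.KnownB.LyCent.ChkS3Node
import Cfsg.Agent.Lib.KnownB.LyCent.ChkS3Inv
import Cfsg.Agent.Lib.KnownB.LyCent.ChkS3Three
import Cfsg.Agent.Lib.KnownB.LyCent.ChkS4Misc
import Cfsg.Agent.Lib.KnownB.LyCent.ChkS4Node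
import Cfsg.Agent.Lib.KnownB.LyCent.ChkS4Inv
import Cfsg.Agent.Lib.KnownB.LyCent.ChkS4Three

/-!
Fixed cosets of the two elements in the orbits with small stabilisers.
-/

set_option autoImplicit false
set_option maxRecDepth 100000

namespace CfsgLib.KnownB.LyCent

open CfsgLib.PresCert CfsgLib.DCE
open CfsgLib.Spor.Ly

/-- the data of one orbit -/
structure Part where
  E : EnumData
  inv : List Nat
  three : List Nat
  wit : BTree
  reps : List (List Nat)
  rep : List Nat
  repIdx : Nat
  cen : Nat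
  size : Nat
  tfix : Nat
  xfix : Nat
  shape : E.okShape GK.P = true
  node : ∀ k < E.len, E.okFrom GK.P GK.base k 1 = true
  invs : ∀ k < E.len, okInvs GK.P GK.base E inv k 1 = true
  threes : ∀ k < E.len, okThrees GK.P GK.base E three wit reps k 1 = true
  free : okFree GK.P 3906 reps = true
  repOk : sameB GK.P GK.base (rep ++ [0, 2, 1, 3] ++ ivw rep) (E.word repIdx) = true
  repLt : ∀ x ∈ rep, x < GK.P.g
  comm : ((List.range E.len).filter
    (commB GK.P GK.base E (rep ++ [0, 2, 1, 3] ++ ivw rep))).length ≤ cen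
  tcount : 14400 * inv.length ≤ tfix * size
  xcount : 378000 * three.length ≤ xfix * size
  ccount : xfix * cen ≤ 378000
  cen_pos : 0 < cen

variable {H : Type*} [Group H] [Finite H] (M : Perms GK.P H)
  (hcard : Nat.card H = 5859000000) (hgen : Subgroup.closure (Set.range M.gen) = ⊤)
  (inj : ∀ h : H, (∀ i : Fin GK.P.n, (i : Nat) ∈ GK.base → M.act h i = i) → h = 1)

include hcard hgen inj in
theorem Part.fixed_t (D : Part) (U : Subgroup H)
    (hU : U ≤ Subgroup.closure {h | ∃ w ∈ D.E.gens, M.val w = h}) (hs : Nat.card U = D.size) :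
    Nat.card {x : H ⧸ U // tEl M • x = x} ≤ D.tfix := by
  obtain ⟨-, -, h2, h1⟩ := xEl_facts M inj
  refine card_fixed_le_of_count U (tEl M) (card_cent_t M hcard hgen)
    (fun s => s * s = 1 ∧ s ≠ 1) (fun h _ => ⟨?_, fun e => h1 ?_⟩)
    (card_inv_le M base_lt inj D.shape D.node D.invs U hU) (hs.symm ▸ D.tcount)
  · calc h⁻¹ * tEl M * h * (h⁻¹ * tEl M * h) = h⁻¹ * (tEl M * tEl M) * h := by group
      _ = 1 := by rw [h2]; group
  · calc tEl M = h * (h⁻¹ * tEl M * h) * h⁻¹ := by group
      _ = 1 := by rw [e]; group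

include hcard hgen inj in
theorem Part.fixed_x_le (D : Part) (U : Subgroup H)
    (hU : U ≤ Subgroup.closure {h | ∃ w ∈ D.E.gens, M.val w = h}) (hs : Nat.card U = D.size) :
    Nat.card {x : H ⧸ U // xEl M • x = x} ≤ D.xfix := by
  obtain ⟨h3, h1, -, -⟩ := xEl_facts M inj
  exact card_fixed_le_of_count U (xEl M) (card_cent_x M hcard hgen inj).le
    (fun s => ∃ g : H, s = g⁻¹ * xEl M * g) (fun h _ => ⟨h, rfl⟩)
    (card_conj_le M base_lt inj D.shape D.node D.threes D.free (xEl M) h3 h1 pt0 (fixes_pt0 M)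
      (act_pt0_lt M hgen) U hU) (hs.symm ▸ D.xcount)

include hcard hgen inj in
theorem Part.fixed_x (D : Part) (U : Subgroup H)
    (hU : U ≤ Subgroup.closure {h | ∃ w ∈ D.E.gens, M.val w = h}) (hs : Nat.card U = D.size)
    (hge : Subgroup.closure {h | ∃ w ∈ D.E.gens, M.val w = h} ≤ U) :
    Nat.card {x : H ⧸ U // xEl M • x = x} = D.xfix ∧
      ∀ x : H ⧸ U, xEl M • x = x →
        ∃ g : H, g * xEl M = xEl M * g ∧ g • (((M.val D.rep)⁻¹ : H) : H ⧸ U) = x := by
  have hlt : ∀ y ∈ D.rep ++ [0, 2, 1, 3] ++ ivw D.rep, y < GK.P.g := by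
    simp only [List.mem_append]
    rintro y ((hy | hy) | hy)
    exacts [D.repLt y hy, words_tx_lt.2 y hy, M.ivw_lt D.repLt y hy]
  have hconj : ((M.val D.rep)⁻¹)⁻¹ * xEl M * (M.val D.rep)⁻¹ =
      M.val (D.rep ++ [0, 2, 1, 3] ++ ivw D.rep) := by
    rw [Perms.val_append, Perms.val_append, Perms.val_ivw, inv_inv]
    rfl
  have hword := val_of_sameB M inj hlt (word_lt D.shape _) D.repOk
  refine fixed_transitive U (xEl M) (M.val D.rep)⁻¹ D.cen_pos ?_
    (D.fixed_x_le M hcard hgen inj U hU hs) ?_ ?_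
  · rw [hconj, hword]
    exact hge (word_mem M D.shape _)
  · rw [hconj]
    exact card_comm_le M base_lt inj D.shape D.node _ hlt D.comm U hU
  · rw [card_cent_x M hcard hgen inj]
    exact D.ccount

/-- the orbit with stabiliser of order 1008 -/
noncomputable def part2 : Part where
  E := e2
  inv := e2_inv
  three := e2_three
  wit := e2_wit
  reps := e2_reps
  rep := e2_rep
  repIdx := e2_repIdx
  cen := 504
  size := 1008
  tfix := 1500
  xfix := 750
  shape := e2_shape
  node := fun k hk => e2_node k hk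
  invs := fun k hk => e2_invs k hk
  threes := fun k hk => e2_threes k hk
  free := e2_free
  repOk := e2_repIdx_ok
  repLt := by decide +kernel
  comm := e2_comm
  tcount := by decide +kernel
  xcount := by decide +kernel
  ccount := by norm_num
  cen_pos := by norm_num

/-- the orbit with stabiliser of order 2880 -/
noncomputable def part3 : Part where
  E := e3
  inv := e3_inv
  three := e3_three
  wit := e3_wit
  reps := e3_reps
  rep := e3_rep
  repIdx := e3_repIdx
  cen := 144
  size := 2880
  tfix := 1055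
  xfix := 2625
  shape := e3_shape
  node := fun k hk => e3_node k hk
  invs := fun k hk => e3_invs k hk
  threes := fun k hk => e3_threes k hk
  free := e3_free
  repOk := e3_repIdx_ok
  repLt := by decide +kernel
  comm := e3_comm
  tcount := by decide +kernel
  xcount := by decide +kernel
  ccount := by norm_num
  cen_pos := by norm_num

/-- the orbit with stabiliser of order 6048 -/
noncomputable def part4 : Part where
  E := e4
  inv := e4_inv
  three := e4_three
  wit := e4_wit
  reps := e4_reps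
  rep := e4_rep
  repIdx := e4_repIdx
  cen := 108
  size := 6048
  tfix := 150
  xfix := 3500
  shape := e4_shape
  node := fun k hk => e4_node k hk
  invs := fun k hk => e4_invs k hk
  threes := fun k hk => e4_threes k hk
  free := e4_free
  repOk := e4_repIdx_ok
  repLt := by decide +kernel
  comm := e4_comm
  tcount := by decide +kernel
  xcount := by decide +kernel
  ccount := by norm_num
  cen_pos := by norm_num

end CfsgLib.KnownB.LyCent
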