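import Cfsg.Agent.Lib.KnownB.LyCent.KCent
import Cfsg.Agent.Lib.KnownB.LyCent.DataUp
import Cfsg.Agent.Lib.DCE.Fixed

/-!
Fixed cosets of the two elements in the orbit whose stabiliser fixes a point of the second kind.
-/

set_option autoImplicit false
set_option maxRecDepth 100000

namespace CfsgLib.KnownB.LyCent

open CfsgLib.PresCert CfsgLib.DCE
open CfsgLib.Spor.Ly

/-- the point -/
noncomputable def ptU : Fin GK.P.n := ⟨3906, by rw [degree]; norm_num⟩

theorem low_id : (allBelow 3906 fun i => Nat.beq (prT.half i) i) = true := by decide +kernel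

theorem upperT_ok : (allBelow GK.P.n fun q => Nat.blt q 3906 || !(Nat.beq (GK.P.app tW q) q) ||
    upperT.any fun s => Nat.beq s q) = true := by decide +kernel

theorem upperX_ok : (allBelow GK.P.n fun q => Nat.blt q 3906 || !(Nat.beq (GK.P.app xW q) q) ||
    upperX.any fun s => Nat.beq s q) = true := by decide +kernel

theorem xU_ok : okWOrbit GK.P xU = true ∧ xU.base = 3906 ∧ xU.len = 252 ∧
    upperT.length = 66 ∧ upperX.length = 252 ∧ GK.P.app xW 3906 = 3906 := by decide +kernel

theorem xU_gens : (xU.gens.all fun w => xGens.contains w) = true := by decide +kernel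

theorem xU_covers : (upperX.all fun q =>
    Nat.blt (xU.pos.word q) 252 &&
      Nat.beq (Nat.land (xU.orb.word (xU.pos.word q)) (nat_lit 65535)) q) = true := by decide +kernel

variable {H : Type*} [Group H] (M : Perms GK.P H)

theorem act_upper (hgen : Subgroup.closure (Set.range M.gen) = ⊤) (g : H) :
    3906 ≤ (M.act g ptU : Nat) := by
  by_contra hlt
  rw [Nat.not_le] at hlt
  set q := M.act g ptU with hq
  have h0 : projPt proj_ok q = q := Fin.ext (by
    have h := allBelow_spec low_id q hlt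
    rw [Nat.beq_eq] at h
    exact h)
  have h := pr_act M proj_ok hgen g⁻¹ q
  rw [h0, hq, ← Perms.act_mul, mul_inv_cancel, Perms.act_one] at h
  have h' := allBelow_spec proj_lt (ptU : Nat) ptU.2
  rw [Nat.blt_eq] at h'
  have e := congrArg Fin.val h
  simp only [projPt, ptU] at e h'
  omega

variable [Finite H] (hgen : Subgroup.closure (Set.range M.gen) = ⊤)

include hgen in
theorem upper_fixed_le (w O : List Nat) (hw : ∀ x ∈ w, x < GK.P.g)
    (hO : (allBelow GK.P.n fun q => Nat.blt q 3906 || !(Nat.beq (GK.P.app w q) q) ||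
      O.any fun s => Nat.beq s q) = true)
    (U : Subgroup H) (hU : ∀ h : H, h ∈ U ↔ M.act h ptU = ptU) :
    Nat.card {x : H ⧸ U // M.val w • x = x} ≤ O.length := by
  classical
  refine card_fixed_le_of_point M U ptU hU w ((List.range GK.P.n).filter fun q =>
    Nat.beq (GK.P.app w q) q) hw (fun q hq => List.mem_filter.2 ⟨List.mem_range.2 q.2, by simp [hq]⟩)
    O fun h hh => ?_
  have h' := allBelow_spec hO _ (M.act h ptU).2
  simp only [List.mem_filter, Nat.beq_eq] at hh
  simp only [Bool.or_eq_true, Nat.blt_eq, Bool.not_eq_true', List.any_eq_true, Nat.beq_eq] at h'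
  rcases h' with (h' | h') | ⟨s, hs, e⟩
  · exact absurd (act_upper M hgen h) (Nat.not_le.2 h')
  · simp [hh.2] at h'
  · exact e ▸ hs

include hgen in
theorem upper_t (U : Subgroup H) (hU : ∀ h : H, h ∈ U ↔ M.act h ptU = ptU) :
    Nat.card {x : H ⧸ U // tEl M • x = x} ≤ 66 :=
  (upper_fixed_le M hgen tW upperT words_tx_lt.1 upperT_ok U hU).trans xU_ok.2.2.2.1.le

include hgen in
theorem upper_key (inj : ∀ h : H, (∀ i : Fin GK.P.n, (i : Nat) ∈ GK.base → M.act h i = i) → h = 1) :
    ∀ p, p < xU.len → ∃ g : H, g * xEl M = xEl M * g ∧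
      (M.act g ptU : Nat) = Nat.land (xU.orb.word p) 65535 := by
  obtain ⟨hok, hbase, -, -, -, -⟩ := xU_ok
  simp only [okWOrbit, Bool.and_eq_true, List.all_eq_true, Nat.blt_eq, Nat.beq_eq] at hok
  obtain ⟨⟨⟨⟨-, h00⟩, -⟩, hgl⟩, horb'⟩ := hok
  have horb := fun p hp => allBelow_spec horb' p hp
  simp only [Bool.and_eq_true, Bool.or_eq_true, Nat.blt_eq, Nat.beq_eq] at horb
  have hxg : ∀ w ∈ xU.gens, M.val w * xEl M = xEl M * M.val w := fun w hw => by
    have hw' : w ∈ xGens := List.contains_iff_mem.1 (List.all_eq_true.1 xU_gens w hw)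
    have h' := List.all_eq_true.1 x_commutes w hw'
    simp only [Bool.and_eq_true, List.all_eq_true, Nat.blt_eq] at h'
    rw [xEl, ← Perms.val_append, ← Perms.val_append]
    refine val_of_sameB M inj ?_ ?_ h'.2 <;> simp only [List.mem_append] <;>
      rintro y (hy | hy) <;> first | exact h'.1 y hy | exact words_tx_lt.2 y hy
  intro p
  induction p using Nat.strong_induction_on with
  | _ p ihp =>
    intro hp
    obtain ⟨-, hp0 | ⟨⟨hpar, hk⟩, himg⟩⟩ := horb p hp
    · subst hp0
      exact ⟨1, by simp, by rw [h00, hbase, Perms.act_one]; rfl⟩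
    obtain ⟨g, hg, eg⟩ := ihp _ hpar (hpar.trans hp)
    have hmem : xU.gens.getD (Nat.shiftRight (xU.orb.word p) 32) [] ∈ xU.gens := by
      rw [List.getD_eq_getElem?_getD, List.getElem?_eq_getElem hk]
      exact List.getElem_mem hk
    generalize xU.gens.getD (Nat.shiftRight (xU.orb.word p) 32) [] = w at hmem himg
    refine ⟨g * M.val w, ?_, ?_⟩
    · rw [mul_assoc, hxg w hmem, ← mul_assoc, hg, mul_assoc]
    · rw [Perms.act_mul, ← M.app_eq _ (hgl _ hmem), eg]
      exact himg

include hgen in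
/-- the fixed points of the second kind of the element of order three are one orbit -/
theorem upper_reach (inj : ∀ h : H, (∀ i : Fin GK.P.n, (i : Nat) ∈ GK.base → M.act h i = i) → h = 1)
    (q : Fin GK.P.n) (hq : (q : Nat) ∈ upperX) :
    ∃ g : H, g * xEl M = xEl M * g ∧ M.act g ptU = q := by
  have hc := List.all_eq_true.1 xU_covers q hq
  simp only [Bool.and_eq_true, Nat.blt_eq, Nat.beq_eq] at hc
  obtain ⟨g, hg, eg⟩ := upper_key M hgen inj _ (xU_ok.2.2.1 ▸ hc.1)
  exact ⟨g, hg, Fin.ext (eg.trans hc.2)⟩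

include hgen in
theorem upper_x (inj : ∀ h : H, (∀ i : Fin GK.P.n, (i : Nat) ∈ GK.base → M.act h i = i) → h = 1)
    (U : Subgroup H) (hU : ∀ h : H, h ∈ U ↔ M.act h ptU = ptU) :
    Nat.card {x : H ⧸ U // xEl M • x = x} = 252 ∧
      ∀ x : H ⧸ U, xEl M • x = x → ∃ g : H, g * xEl M = xEl M * g ∧ g • ((1 : H) : H ⧸ U) = x := by
  classical
  obtain ⟨hok, hbase, hlen, -, hXl, hfix⟩ := xU_ok
  have hle : Nat.card {x : H ⧸ U // xEl M • x = x} ≤ 252 :=
    (upper_fixed_le M hgen xW upperX words_tx_lt.2 upperX_ok U hU).trans hXl.le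
  have key := upper_key M hgen inj
  simp only [okWOrbit, Bool.and_eq_true, List.all_eq_true, Nat.blt_eq, Nat.beq_eq] at hok
  obtain ⟨-, horb'⟩ := hok
  have horb := fun p hp => allBelow_spec horb' p hp
  simp only [Bool.and_eq_true, Bool.or_eq_true, Nat.blt_eq, Nat.beq_eq] at horb
  let pt : H ⧸ U → Fin GK.P.n := fun x => M.act x.out⁻¹ ptU
  have hpt : ∀ g : H, pt (g : H ⧸ U) = M.act g⁻¹ ptU := fun g => by
    obtain ⟨u, hu⟩ := QuotientGroup.mk_out_eq_mul U g
    show M.act (g : H ⧸ U).out⁻¹ ptU = _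
    rw [hu, mul_inv_rev, Perms.act_mul, (hU _).1 (inv_mem u.2)]
  have hcov : ∀ x : H ⧸ U, xEl M • x = x →
      ∃ g : H, g * xEl M = xEl M * g ∧ g • ((1 : H) : H ⧸ U) = x := by
    intro x hx
    obtain ⟨h, rfl⟩ := QuotientGroup.mk_surjective x
    have hfx : M.act (xEl M) (M.act h⁻¹ ptU) = M.act h⁻¹ ptU := by
      rw [MulAction.Quotient.smul_mk, eq_comm, QuotientGroup.eq, smul_eq_mul, ← mul_assoc] at hx
      have e := (hU _).1 hx
      rw [Perms.act_mul, Perms.act_mul] at e
      have e2 := congrArg (M.act h⁻¹) e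
      rwa [← Perms.act_mul, mul_inv_cancel, Perms.act_one] at e2
    have h' := allBelow_spec upperX_ok _ (M.act h⁻¹ ptU).2
    simp only [Bool.or_eq_true, Nat.blt_eq, Bool.not_eq_true', List.any_eq_true, Nat.beq_eq] at h'
    rcases h' with (h' | h') | ⟨s, hs, e⟩
    · exact absurd (act_upper M hgen h⁻¹) (Nat.not_le.2 h')
    · rw [M.app_eq _ words_tx_lt.2, show M.val xW = xEl M from rfl, hfx] at h'
      simp at h'
    · have hc := List.all_eq_true.1 xU_covers s hs
      simp only [Bool.and_eq_true, Nat.blt_eq, Nat.beq_eq] at hc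
      obtain ⟨g, hg, eg⟩ := key _ (hlen ▸ hc.1)
      refine ⟨g⁻¹, (Commute.inv_left (show Commute g (xEl M) from hg)).eq, ?_⟩
      rw [MulAction.Quotient.smul_mk, smul_eq_mul, mul_one, QuotientGroup.eq, inv_inv, hU,
        Perms.act_mul, show M.act g ptU = M.act h⁻¹ ptU from Fin.ext ((eg.trans hc.2).trans e),
        ← Perms.act_mul, inv_mul_cancel, Perms.act_one]
  refine ⟨le_antisymm hle ?_, hcov⟩
  have hlist : ∀ p : Fin xU.len, ∃ x : H ⧸ U, xEl M • x = x ∧
      (pt x : Nat) = Nat.land (xU.orb.word p) 65535 := by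
    intro p
    obtain ⟨g, hg, eg⟩ := key p p.2
    refine ⟨(g⁻¹ : H), ?_, by rw [hpt, inv_inv]; exact eg⟩
    rw [MulAction.Quotient.smul_mk, eq_comm, QuotientGroup.eq, smul_eq_mul, inv_inv, hU,
      ← mul_assoc, hg, mul_assoc, mul_inv_cancel, mul_one]
    refine Fin.ext ?_
    rw [xEl, ← M.app_eq _ words_tx_lt.2]
    exact hfix
  choose f hf1 hf2 using hlist
  have hinj : Function.Injective fun p : Fin xU.len =>
      (⟨f p, hf1 p⟩ : {x : H ⧸ U // xEl M • x = x}) := by
    intro p q e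
    have e' := congrArg (fun x : {x : H ⧸ U // xEl M • x = x} => (pt x.1 : Nat)) e
    simp only [hf2] at e'
    refine Fin.ext ?_
    rw [← (horb p p.2).1.2, ← (horb q q.2).1.2, e']
  have h := Nat.card_le_card_of_injective _ hinj
  rwa [Nat.card_eq_fintype_card, Fintype.card_fin, hlen] at h

end CfsgLib.KnownB.LyCent
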