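import Cfsg.Agent.Lib.KnownB.LyCent.Cent
import Cfsg.Agent.Lib.KnownB.LyCent.SFix
import Cfsg.Agent.Lib.KnownB.LyCent.Upper
import Cfsg.Agent.Lib.KnownB.LyCent.Conj

/-!
The five orbits of the enumeration of the Lyons group and the fixed points of the two elements.
-/

set_option autoImplicit false

namespace CfsgLib.KnownB.LyCent

open CfsgLib.PresCert CfsgLib.DCE MulAction
open CfsgLib.Spor.Ly

/-- numbers of fixed cosets of the involution, by orbit -/
def tCounts : Fin 5 → ℕ := ![1, 66, 1500, 1055, 150]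

/-- numbers of fixed cosets of the element of order three, by orbit -/
def xCounts : Fin 5 → ℕ := ![1, 252, 750, 2625, 3500]

/-- representatives of the fixed cosets of the element of order three, as words -/
noncomputable def xReps : Fin 5 → List Nat :=
  ![[], [], ivw (ivw cj2 ++ part2.rep), ivw (ivw cj3 ++ part3.rep), ivw part4.rep]

/-- The five orbits, with their stabilisers. -/
structure Setting {S : Setup} {H Q : Type*} [Group H] [Group Q] (N : Model S H Q)
    (M : Perms GK.P H) (fs : List Fact) (ls : List Live) where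
  hls : ∀ L ∈ ls, S.okLive fs L = true
  hfs : ∀ n < fs.length, N.FactOK (Setup.fget fs n)
  hbij : Function.Bijective (pointOf N hls hfs)
  hinj : Function.Injective N.f
  hcard : Nat.card H = 5859000000
  hgen : Subgroup.closure (Set.range M.gen) = ⊤
  inj : ∀ h : H, (∀ i : Fin GK.P.n, (i : Nat) ∈ GK.base → M.act h i = i) → h = 1
  e : Fin ls.length ≃ Fin 5
  first : ∀ k, e k = 0 → (ls[k]).i = 0
  stab0 : ∀ k, e k = 0 → liveStab N fs ls[k] = ⊤
  stab1 : ∀ k, e k = 1 → ∀ h : H, h ∈ liveStab N fs ls[k] ↔ M.act h ptU = ptU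
  stab2 : ∀ k, e k = 2 →
    (∀ u : H, u ∈ liveStab N fs ls[k] ↔ M.val cj2 * u * (M.val cj2)⁻¹ ∈
      Subgroup.closure {h | ∃ w ∈ e2.gens, M.val w = h}) ∧
    Nat.card (Subgroup.closure {h | ∃ w ∈ e2.gens, M.val w = h}) = 1008
  stab3 : ∀ k, e k = 3 →
    (∀ u : H, u ∈ liveStab N fs ls[k] ↔ M.val cj3 * u * (M.val cj3)⁻¹ ∈
      Subgroup.closure {h | ∃ w ∈ e3.gens, M.val w = h}) ∧
    Nat.card (Subgroup.closure {h | ∃ w ∈ e3.gens, M.val w = h}) = 2880
  stab4 : ∀ k, e k = 4 → liveStab N fs ls[k] = Subgroup.closure {h | ∃ w ∈ e4.gens, M.val w = h} ∧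
    Nat.card (liveStab N fs ls[k]) = 6048

variable {S : Setup} {H Q : Type*} [Group H] [Group Q] [Finite H] {N : Model S H Q}
  {M : Perms GK.P H} {fs : List Fact} {ls : List Live} (T : Setting N M fs ls)

theorem top_cosets {G : Type*} [Group G] (U : Subgroup G) (h : U = ⊤) (a : G) :
    (∀ x y : G ⧸ U, x = y) ∧ Nat.card {x : G ⧸ U // a • x = x} = 1 := by
  have hsub : ∀ x y : G ⧸ U, x = y := by
    intro x y
    induction x using QuotientGroup.induction_on with
    | H u =>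
      induction y using QuotientGroup.induction_on with
      | H v => exact QuotientGroup.eq.2 (h ▸ Subgroup.mem_top _)
  refine ⟨hsub, ?_⟩
  haveI : Subsingleton {x : G ⧸ U // a • x = x} := ⟨fun x y => Subtype.ext (hsub _ _)⟩
  haveI : Nonempty {x : G ⧸ U // a • x = x} := ⟨⟨((1 : G) : G ⧸ U), hsub _ _⟩⟩
  exact Nat.card_unique

include T in
theorem fixed_t (k : Fin ls.length) :
    Nat.card {x : H ⧸ liveStab N fs ls[k] // tEl M • x = x} ≤ tCounts (T.e k) := by
  generalize hi : T.e k = i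
  fin_cases i
  · exact (top_cosets _ (T.stab0 k hi) (tEl M)).2.le
  · exact upper_t M T.hgen _ (T.stab1 k hi)
  · rw [(fixed_conj _ _ _ (tEl M) (T.stab2 k hi).1).1]
    exact part2.fixed_t M T.hcard T.hgen T.inj _ le_rfl (T.stab2 k hi).2
  · rw [(fixed_conj _ _ _ (tEl M) (T.stab3 k hi).1).1]
    exact part3.fixed_t M T.hcard T.hgen T.inj _ le_rfl (T.stab3 k hi).2
  · exact part4.fixed_t M T.hcard T.hgen T.inj _ (T.stab4 k hi).1.le (T.stab4 k hi).2

include T in
theorem fixed_x (k : Fin ls.length) :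
    Nat.card {x : H ⧸ liveStab N fs ls[k] // xEl M • x = x} = xCounts (T.e k) ∧
      ∀ x : H ⧸ liveStab N fs ls[k], xEl M • x = x → ∃ g : H, g * xEl M = xEl M * g ∧
        g • ((M.val (xReps (T.e k)) : H) : H ⧸ liveStab N fs ls[k]) = x := by
  generalize hi : T.e k = i
  have hnil : M.val ([] : List Nat) = 1 := by simp [Perms.val, wv]
  fin_cases i
  · obtain ⟨h1, h2⟩ := top_cosets _ (T.stab0 k hi) (xEl M)
    exact ⟨h2, fun x _ => ⟨1, by simp, h1 _ _⟩⟩
  · obtain ⟨h1, h2⟩ := upper_x M T.hgen T.inj _ (T.stab1 k hi)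
    refine ⟨h1, fun x hx => ?_⟩
    simp only [xReps, Fin.isValue, Fin.mk_one, Matrix.cons_val_one, Matrix.cons_val_zero, hnil]
    exact h2 x hx
  · obtain ⟨h1, h2⟩ := part2.fixed_x M T.hcard T.hgen T.inj _ le_rfl (T.stab2 k hi).2 le_rfl
    obtain ⟨h3, h4⟩ := fixed_conj _ _ _ (xEl M) (T.stab2 k hi).1
    refine ⟨h3.trans h1, fun x hx => ?_⟩
    rw [show xReps ⟨2, by omega⟩ = ivw (ivw cj2 ++ part2.rep) from rfl, Perms.val_ivw,
      Perms.val_append, Perms.val_ivw, mul_inv_rev, inv_inv]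
    exact h4 _ h2 x hx
  · obtain ⟨h1, h2⟩ := part3.fixed_x M T.hcard T.hgen T.inj _ le_rfl (T.stab3 k hi).2 le_rfl
    obtain ⟨h3, h4⟩ := fixed_conj _ _ _ (xEl M) (T.stab3 k hi).1
    refine ⟨h3.trans h1, fun x hx => ?_⟩
    rw [show xReps ⟨3, by omega⟩ = ivw (ivw cj3 ++ part3.rep) from rfl, Perms.val_ivw,
      Perms.val_append, Perms.val_ivw, mul_inv_rev, inv_inv]
    exact h4 _ h2 x hx
  · obtain ⟨h1, h2⟩ := part4.fixed_x M T.hcard T.hgen T.inj _ (T.stab4 k hi).1.le (T.stab4 k hi).2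
      (T.stab4 k hi).1.ge
    refine ⟨h1, fun x hx => ?_⟩
    rw [show xReps ⟨4, by omega⟩ = ivw part4.rep from rfl, Perms.val_ivw]
    exact h2 x hx

include T in
/-- The centraliser of the involution has order at most `11!`. -/
theorem card_centralizer_t [Finite Q] :
    Nat.card (Subgroup.centralizer ({N.f (tEl M)} : Set Q)) ≤ 39916800 := by
  refine (DCE.card_centralizer_le N T.hls T.hfs T.hbij T.hinj (tEl M) (fun k => tCounts (T.e k))
    (fixed_t T) (card_cent_t M T.hcard T.hgen)).trans ?_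
  rw [Equiv.sum_comp T.e tCounts]
  simp [tCounts, Fin.sum_univ_five]

include T in
/-- The centraliser of the element of order three. -/
theorem centralizer_x [Finite Q] (y : Fin 5 → Q) (hy : ∀ i, y i * N.f (xEl M) = N.f (xEl M) * y i)
    (hyrep : ∀ k, y (T.e k) • ((1 : Q) : Q ⧸ N.f.range) =
      pointOf N T.hls T.hfs ⟨k, ((M.val (xReps (T.e k)) : H) : H ⧸ liveStab N fs ls[k])⟩) :
    Nat.card (Subgroup.centralizer ({N.f (xEl M)} : Set Q)) = 7128 * 378000 ∧
      (∀ q : Q ⧸ N.f.range, N.f (xEl M) • q = q →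
        ∃ g ∈ Subgroup.centralizer ({N.f (xEl M)} : Set Q), g • ((1 : Q) : Q ⧸ N.f.range) = q) := by
  have h := centralizer_exact N T.hls T.hfs T.hbij T.hinj (xEl M) (fun k => xCounts (T.e k))
    (fun k => ((M.val (xReps (T.e k)) : H) : H ⧸ liveStab N fs ls[k]))
    (fun k => (fixed_x T k).1) (fun k => (fixed_x T k).2) (fun k => y (T.e k))
    (fun k => hy _) hyrep
  refine ⟨?_, h.2⟩
  rw [h.1, card_cent_x M T.hcard T.hgen T.inj, Equiv.sum_comp T.e xCounts]
  simp [xCounts, Fin.sum_univ_five]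

end CfsgLib.KnownB.LyCent
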