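import Cfsg.Agent.Lib.KnownB.LyCent.Setting
import Cfsg.Agent.Lib.KnownB.LyCent.Crit

/-!
The centraliser of the involution is a non-split double cover of the alternating group of degree 11.
-/

set_option autoImplicit false

namespace CfsgLib.KnownB.LyCent

open CfsgLib.PresCert CfsgLib.DCE
open CfsgLib.Spor.Ly

variable {S : Setup} {H Q : Type*} [Group H] [Group Q] [Finite H] [Finite Q] {N : Model S H Q}
  {M : Perms GK.P H} {fs : List Fact} {ls : List Live} (T : Setting N M fs ls)

include T in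
/-- The centraliser of the involution. -/
theorem double_cover_t (y : Fin 9 → Q) (hy : ∀ i, y i * N.f (tEl M) = N.f (tEl M) * y i)
    (hrel : ∀ r ∈ CfsgLib.Recog.carmichaelRelators 9,
      FreeGroup.lift y r ∈ Subgroup.zpowers (N.f (tEl M)))
    (hne : ∃ i, y i ∉ Subgroup.zpowers (N.f (tEl M))) (s : H) (hs : s * s = tEl M) :
    orderOf (N.f (tEl M)) = 2 ∧ Cfsg.IsNonsplitDoubleCover
      (Subgroup.centralizer ({N.f (tEl M)} : Set Q)) (alternatingGroup (Fin 11)) := by
  obtain ⟨-, -, t2, t1⟩ := xEl_facts M T.inj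
  set a := N.f (tEl M) with ha
  set C := Subgroup.centralizer ({a} : Set Q) with hC
  have hord : orderOf a = 2 := by
    rw [ha, orderOf_injective N.f T.hinj]
    exact orderOf_eq_prime (by rw [sq]; exact t2) t1
  refine ⟨hord, ?_⟩
  let tC : C := ⟨a, Subgroup.mem_centralizer_singleton_iff.2 rfl⟩
  let yC : Fin 9 → C := fun i => ⟨y i, Subgroup.mem_centralizer_singleton_iff.2 (hy i)⟩
  have hz : ∀ g : C, (g : Q) ∈ Subgroup.zpowers a → g ∈ Subgroup.zpowers tC := by
    intro g hg
    obtain ⟨n, hn⟩ := Subgroup.mem_zpowers_iff.1 hg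
    exact Subgroup.mem_zpowers_iff.2 ⟨n, Subtype.ext (by rw [SubgroupClass.coe_zpow]; exact hn)⟩
  refine isNonsplitDoubleCover_alt 9 (by norm_num) tC ?_ ?_ ?_ yC ?_ ?_
    ⟨N.f s, Subgroup.mem_centralizer_singleton_iff.2 ?_⟩ ?_
  · exact (orderOf_injective C.subtype Subtype.val_injective tC).symm.trans hord
  · exact Subgroup.mem_center_iff.2 fun g => Subtype.ext
      (Subgroup.mem_centralizer_singleton_iff.1 g.2)
  · refine (card_centralizer_t T).trans (le_of_eq ?_)
    norm_num [Nat.factorial]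
  · intro r hr
    refine hz _ ?_
    have e : C.subtype.comp (FreeGroup.lift yC) = FreeGroup.lift y :=
      FreeGroup.ext_hom _ _ fun i => by simp [yC]
    rw [show ((FreeGroup.lift yC r : C) : Q) = FreeGroup.lift y r from
      congrFun (congrArg DFunLike.coe e) r]
    exact hrel r hr
  · obtain ⟨i, hi⟩ := hne
    refine ⟨i, fun h => hi ?_⟩
    obtain ⟨n, hn⟩ := Subgroup.mem_zpowers_iff.1 h
    exact Subgroup.mem_zpowers_iff.2 ⟨n, (SubgroupClass.coe_zpow tC n).symm.trans
      (congrArg Subtype.val hn)⟩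
  · rw [ha, ← map_mul, ← map_mul, ← hs, mul_assoc]
  · exact Subtype.ext (show N.f s * N.f s = a by rw [← map_mul, hs])

end CfsgLib.KnownB.LyCent
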